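import Groth.Prelude.Def_MoreMor
import Mathlib

/-!
Geometric points, geometric fibres and the formula expressing `MoreMor.fibreIntegral` as a sum over the
geometric points of a fibre.
-/

set_option autoImplicit false
set_option linter.style.haveILetI false
universe u

open AlgebraicGeometry CategoryTheory

namespace Groth.Agent.Weighting

variable {X Y U V : Scheme.{u}}

/-- The point underlying a geometric point. -/
noncomputable def pt {Ω : Type u} [Field Ω] (x : Spec (CommRingCat.of Ω) ⟶ X) : X :=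
  x (IsLocalRing.closedPoint Ω)

theorem pt_comp {Ω : Type u} [Field Ω] (x : Spec (CommRingCat.of Ω) ⟶ X) (f : X ⟶ Y) :
    pt (x ≫ f) = f (pt x) := rfl

theorem apply_eq_pt {Ω : Type u} [Field Ω] (x : Spec (CommRingCat.of Ω) ⟶ X) (s : Spec (CommRingCat.of Ω)) :
    x s = pt x := by
  haveI : Subsingleton (Spec (CommRingCat.of Ω)) := inferInstanceAs (Subsingleton (PrimeSpectrum Ω))
  exact congrArg x (Subsingleton.elim _ _)

theorem range_eq_pt {Ω : Type u} [Field Ω] (x : Spec (CommRingCat.of Ω) ⟶ X) : Set.range x = {pt x} := by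
  ext z
  constructor
  · rintro ⟨s, rfl⟩; exact apply_eq_pt x s
  · rintro rfl; exact ⟨_, rfl⟩

theorem exists_geomPt (v : X) : ∃ (Ω : Type u) (_ : Field Ω) (_ : IsAlgClosed Ω)
    (x : Spec (CommRingCat.of Ω) ⟶ X), pt x = v :=
  ⟨AlgebraicClosure (X.residueField v), inferInstance, inferInstance,
    Spec.map (CommRingCat.ofHom (algebraMap (X.residueField v) (AlgebraicClosure (X.residueField v)))) ≫
      X.fromSpecResidueField v, by rw [pt, Scheme.Hom.comp_apply]; exact X.fromSpecResidueField_apply v _⟩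

/-- The geometric fibre over a geometric point. -/
def Fib (π : U ⟶ V) {Ω : Type u} [Field Ω] (v : Spec (CommRingCat.of Ω) ⟶ V) :
    Set (Spec (CommRingCat.of Ω) ⟶ U) := {l | l ≫ π = v}

theorem finite_residueFieldMap (π : U ⟶ V) [LocallyQuasiFinite π] (u : U) :
    (π.residueFieldMap u).hom.Finite := by
  haveI : LocallyQuasiFinite (U.fromSpecResidueField u ≫ π) := inferInstance
  rw [← Scheme.Hom.SpecMap_residueFieldMap_fromSpecResidueField] at this
  haveI := LocallyQuasiFinite.of_comp (Spec.map (π.residueFieldMap u)) (V.fromSpecResidueField (π u))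
  have h : (π.residueFieldMap u).hom.QuasiFinite := by
    rwa [← HasRingHomProperty.Spec_iff (P := @LocallyQuasiFinite)]
  algebraize [(π.residueFieldMap u).hom]
  exact RingHom.finite_algebraMap.2 Module.Finite.of_quasiFinite

/-- The geometric points of a fibre lying at a given point: finitely many, as many as the separable degree. -/
theorem ncard_fib_at (π : U ⟶ V) [LocallyQuasiFinite π] {Ω : Type u} [Field Ω] [IsAlgClosed Ω]
    (v : Spec (CommRingCat.of Ω) ⟶ V) (u : U) (h : π u = pt v) :
    {l | l ∈ Fib π v ∧ pt l = u}.Finite ∧ {l | l ∈ Fib π v ∧ pt l = u}.Nonempty ∧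
      {l | l ∈ Fib π v ∧ pt l = u}.ncard =
        (letI := (π.residueFieldMap u).hom.toAlgebra
         Field.finSepDegree (V.residueField (π u)) (U.residueField u)) := by
  let F := V.residueField (π u)
  let E := U.residueField u
  letI : Algebra F E := (π.residueFieldMap u).hom.toAlgebra
  haveI : Module.Finite F E := finite_residueFieldMap π u
  let σ := Scheme.SpecToEquivOfField Ω V v
  let ψ : F ⟶ CommRingCat.of Ω := (V.residueFieldCongr (show π u = σ.1 from h)).hom ≫ σ.2
  have hψ : Spec.map ψ ≫ V.fromSpecResidueField (π u) = v := by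
    simp only [ψ, Spec.map_comp, Category.assoc, Scheme.residueFieldCongr_fromSpecResidueField]
    exact (Scheme.SpecToEquivOfField Ω V).left_inv v
  letI : Algebra F Ω := ψ.hom.toAlgebra
  haveI : FiniteDimensional F E := ‹Module.Finite F E›
  haveI : Finite (E →ₐ[F] Ω) := Finite.of_fintype _
  let Φ : (E →ₐ[F] Ω) → (Spec (CommRingCat.of Ω) ⟶ U) := fun φ =>
    Spec.map (CommRingCat.ofHom φ.toRingHom) ≫ U.fromSpecResidueField u
  have hinj : Function.Injective Φ := fun φ φ' hφ => by
    have := Spec.map_injective ((cancel_mono (U.fromSpecResidueField u)).1 hφ)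
    exact AlgHom.coe_ringHom_injective (congrArg CommRingCat.Hom.hom this)
  have hrange : Set.range Φ = {l | l ∈ Fib π v ∧ pt l = u} := by
    ext l
    constructor
    · rintro ⟨φ, rfl⟩
      refine ⟨?_, (congrFun rfl _).trans (U.fromSpecResidueField_apply u (Spec.map (CommRingCat.ofHom φ.toRingHom) (IsLocalRing.closedPoint Ω)))⟩
      show (Spec.map _ ≫ U.fromSpecResidueField u) ≫ π = v
      rw [Category.assoc, ← Scheme.Hom.SpecMap_residueFieldMap_fromSpecResidueField, ← Category.assoc,
        ← Spec.map_comp, ← hψ]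
      congr 2
      ext x
      exact φ.commutes x
    · rintro ⟨hl, hu⟩
      let τ := Scheme.SpecToEquivOfField Ω U l
      let φ0 : E ⟶ CommRingCat.of Ω := (U.residueFieldCongr (show u = τ.1 from hu.symm)).hom ≫ τ.2
      have hφ0 : Spec.map φ0 ≫ U.fromSpecResidueField u = l := by
        simp only [φ0, Spec.map_comp, Category.assoc, Scheme.residueFieldCongr_fromSpecResidueField]
        exact (Scheme.SpecToEquivOfField Ω U).left_inv l
      have hcomp : π.residueFieldMap u ≫ φ0 = ψ := by
        apply Spec.map_injective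
        rw [← cancel_mono (V.fromSpecResidueField (π u)), Spec.map_comp, Category.assoc,
          Scheme.Hom.SpecMap_residueFieldMap_fromSpecResidueField, ← Category.assoc, hφ0, hψ]
        exact hl
      exact ⟨{ toRingHom := φ0.hom, commutes' := fun x => congrArg (fun k => k.hom x) hcomp }, hφ0⟩
  rw [← hrange]
  haveI : Nonempty (E →ₐ[F] Ω) := ⟨IsAlgClosed.lift⟩
  refine ⟨Set.finite_range Φ, Set.range_nonempty Φ, ?_⟩
  rw [Field.finSepDegree_eq_of_isAlgClosed F E Ω, Set.ncard_range_of_injective hinj]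

theorem exists_mem_fib_at (π : U ⟶ V) [LocallyQuasiFinite π] {Ω : Type u} [Field Ω] [IsAlgClosed Ω]
    (v : Spec (CommRingCat.of Ω) ⟶ V) (u : U) (h : π u = pt v) : ∃ l ∈ Fib π v, pt l = u :=
  (ncard_fib_at π v u h).2.1

theorem fib_eq_biUnion (π : U ⟶ V) {Ω : Type u} [Field Ω] (v : Spec (CommRingCat.of Ω) ⟶ V) :
    Fib π v = ⋃ u ∈ π ⁻¹' {pt v}, {l | l ∈ Fib π v ∧ pt l = u} := by
  ext l
  simp only [Set.mem_iUnion, Set.mem_ofPred_eq, Set.mem_preimage, Set.mem_singleton_iff, exists_prop]
  refine ⟨fun hl => ⟨pt l, ?_, hl, rfl⟩, fun ⟨_, _, hl, _⟩ => hl⟩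
  rw [← pt_comp]
  exact congrArg pt hl

theorem finite_fib (π : U ⟶ V) [LocallyQuasiFinite π] {Ω : Type u} [Field Ω] [IsAlgClosed Ω]
    (v : Spec (CommRingCat.of Ω) ⟶ V) (hfin : (π ⁻¹' {pt v}).Finite) : (Fib π v).Finite := by
  rw [fib_eq_biUnion]
  exact hfin.biUnion fun u hu => (ncard_fib_at π v u hu).1

/-- The fibre integral is the sum over the geometric points of the fibre. -/
theorem fibreIntegral_eq (π : U ⟶ V) [LocallyQuasiFinite π] (w : U → ℤ) {Ω : Type u} [Field Ω] [IsAlgClosed Ω]
    (v : Spec (CommRingCat.of Ω) ⟶ V) (hfin : (π ⁻¹' {pt v}).Finite) :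
    MoreMor.fibreIntegral π w (pt v) = ∑ᶠ l ∈ Fib π v, w (pt l) := by
  classical
  rw [fib_eq_biUnion, finsum_mem_biUnion]
  · rw [MoreMor.fibreIntegral, finsum_subtype_eq_finsum_cond (f := fun u => w u * (letI := (π.residueFieldMap u).hom.toAlgebra
      (Field.finSepDegree (V.residueField (π u)) (U.residueField u) : ℤ)))]
    refine finsum_congr fun u => ?_
    by_cases hu : π u = pt v
    · obtain ⟨hf, -, hn⟩ := ncard_fib_at π v u hu
      rw [finsum_eq_if, if_pos hu, finsum_eq_if, if_pos (show u ∈ π ⁻¹' {pt v} from hu),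
        finsum_mem_congr rfl (g := fun _ => w u) fun l hl => by rw [hl.2],
        finsum_mem_eq_finite_toFinset_sum _ hf, Finset.sum_const, nsmul_eq_mul,
        ← Set.ncard_eq_toFinset_card _ hf, hn, mul_comm]
    · rw [finsum_eq_if, if_neg hu, finsum_eq_if, if_neg (show u ∉ π ⁻¹' {pt v} from hu)]
  · intro a _ b _ hab
    exact Set.disjoint_left.2 fun l h1 h2 => hab (h1.2.symm.trans h2.2)
  · exact hfin
  · exact fun u hu => (ncard_fib_at π v u hu).1

end Groth.Agent.Weighting
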