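import Groth.Agent.Weighting.ConstrLC
import Mathlib.AlgebraicGeometry.AffineTransitionLimit

/-!
Constructible sets and constructibly locally constant functions along a cofiltered limit of affine schemes.
-/

set_option autoImplicit false
set_option linter.style.haveILetI false
universe u

open AlgebraicGeometry CategoryTheory Limits Topology

namespace Groth.Agent.Weighting

variable {I : Type u} [SmallCategory I] [IsCofiltered I] (D : I ⥤ Scheme.{u}) (c : Cone D) (hc : IsLimit c)
variable [∀ i, IsAffine (D.obj i)]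

theorem preimage_map_comp {i j k : I} (p : k ⟶ j) (q : j ⟶ i) (C : Set (D.obj i)) :
    D.map (p ≫ q) ⁻¹' C = D.map p ⁻¹' (D.map q ⁻¹' C) := by
  rw [Functor.map_comp, Scheme.Hom.comp_base, TopCat.coe_comp, Set.preimage_comp]

theorem preimage_π {i j : I} (q : j ⟶ i) (C : Set (D.obj i)) :
    c.π.app j ⁻¹' (D.map q ⁻¹' C) = c.π.app i ⁻¹' C := by
  rw [← Set.preimage_comp, ← TopCat.coe_comp, ← Scheme.Hom.comp_base, c.w]

include hc in
theorem isAffine_pt : IsAffine c.pt := Scheme.isAffine_of_isLimit _ hc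

include hc in
/-- Constructible sets descend. -/
theorem exists_constructible_preimage {C : Set c.pt} (hC : IsConstructible C) :
    ∃ (i : I) (C' : Set (D.obj i)), IsConstructible C' ∧ c.π.app i ⁻¹' C' = C := by
  haveI := isAffine_pt D c hc
  haveI : ∀ {i j} (f : i ⟶ j), IsAffineHom (D.map f) := fun f => inferInstance
  induction hC using IsConstructible.empty_union_induction with
  | open_retrocompact U hUo hUc =>
    obtain ⟨i, V, hV, hVU⟩ := exists_preimage_eq D c hc ⟨U, hUo⟩ hUc.isCompact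
    exact ⟨i, V, hV.isConstructible V.isOpen, congrArg (fun O : c.pt.Opens => (O : Set c.pt)) hVU⟩
  | union s _ t _ hs ht =>
    obtain ⟨i, Cs, hCs, hse⟩ := hs
    obtain ⟨j, Ct, hCt, hte⟩ := ht
    refine ⟨IsCofiltered.min i j, D.map (IsCofiltered.minToLeft i j) ⁻¹' Cs ∪ D.map (IsCofiltered.minToRight i j) ⁻¹' Ct,
      (Scheme.Hom.isConstructible_preimage _ hCs).union (Scheme.Hom.isConstructible_preimage _ hCt), ?_⟩
    rw [Set.preimage_union, preimage_π, preimage_π, hse, hte]
  | compl s _ hs =>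
    obtain ⟨i, Cs, hCs, hse⟩ := hs
    exact ⟨i, Csᶜ, hCs.compl, by rw [Set.preimage_compl, hse]⟩

include hc in
/-- A constructible set with empty preimage in the limit is empty at some stage. -/
theorem exists_preimage_eq_empty {i : I} {C : Set (D.obj i)} (hC : IsConstructible C)
    (h : c.π.app i ⁻¹' C = ∅) : ∃ (j : I) (q : j ⟶ i), D.map q ⁻¹' C = ∅ := by
  haveI : ∀ {i j} (f : i ⟶ j), IsAffineHom (D.map f) := fun f => inferInstance
  revert h
  haveI : Nonempty ↑(D.obj i).affineOpens := ⟨⟨⊥, isAffineOpen_bot _⟩⟩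
  refine IsConstructible.induction_of_isTopologicalBasis
    (P := fun C _ => c.π.app i ⁻¹' C = ∅ → ∃ (j : I) (q : j ⟶ i), D.map q ⁻¹' C = ∅)
    (fun U : (D.obj i).affineOpens => (U.1 : Set (D.obj i))) ?_ (fun U => U.2.isCompact) ?_ ?_ C hC
  · have hb := (D.obj i).isBasis_affineOpens
    have e : (Set.range fun U : (D.obj i).affineOpens => (U.1 : Set (D.obj i))) = SetLike.coe '' (D.obj i).affineOpens := by
      ext s; exact ⟨fun ⟨U, hU⟩ => ⟨U.1, U.2, hU⟩, fun ⟨U, hU, e⟩ => ⟨⟨U, hU⟩, e⟩⟩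
    rw [e]; exact hb
  · intro U s hs h
    let V : (D.obj i).Opens := ⨆ j ∈ s, j.1
    have hVe : (V : Set (D.obj i)) = ⋃ j ∈ s, (j.1 : Set (D.obj i)) := by simp [V]
    have hle : c.π.app i ⁻¹ᵁ U.1 ≤ c.π.app i ⁻¹ᵁ V := by
      intro x hx
      by_contra hxV
      exact Set.eq_empty_iff_forall_notMem.1 h x ⟨hx, by rw [← hVe]; exact hxV⟩
    obtain ⟨j, q, hq⟩ := exists_map_preimage_le_map_preimage D c hc U.2.isCompact hle
    refine ⟨j, q, Set.eq_empty_iff_forall_notMem.2 fun x hx => hx.2 ?_⟩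
    rw [← hVe]
    exact hq hx.1
  · intro s _ t _ hs ht h
    rw [Set.preimage_union, Set.union_empty_iff] at h
    obtain ⟨j, q, hq⟩ := hs h.1
    obtain ⟨k, r, hr⟩ := ht h.2
    obtain ⟨l, p₁, p₂, e⟩ := IsCofiltered.cospan q r
    refine ⟨l, p₁ ≫ q, ?_⟩
    rw [Set.preimage_union, preimage_map_comp, hq, e, preimage_map_comp, hr]
    simp

theorem finite_range_of_constrLC {V : Scheme.{u}} [IsAffine V] {w : V → ℤ} (hw : ConstrLC w) :
    (Set.range w).Finite := by
  classical
  choose C hC hmem hwC using hw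
  obtain ⟨s, hs⟩ := exists_finite_constructible_cover (S := (Set.univ : Set V))
    (by rw [Set.compl_univ]; letI := constructibleTopology V; exact isOpen_empty) (fun x => C x.1) (fun x => hC _) (fun x => hmem _)
  refine (s.finite_toSet.image fun x => w x.1).subset ?_
  rintro _ ⟨y, rfl⟩
  obtain ⟨x, hx, hxy⟩ := Set.mem_iUnion₂.1 (hs (Set.mem_univ y))
  exact ⟨x, hx, (hwC _ _ hxy).symm⟩

include hc in
/-- Constructibly locally constant functions descend. -/
theorem exists_constrLC_preimage (w : c.pt → ℤ) (hw : ConstrLC w) :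
    ∃ (i : I) (w' : D.obj i → ℤ), ConstrLC w' ∧ ∀ x, w' (c.π.app i x) = w x := by
  classical
  haveI := isAffine_pt D c hc
  let S := (finite_range_of_constrLC hw).toFinset
  have hlev : ∀ n : ℤ, ∃ (i : I) (C : Set (D.obj i)), IsConstructible C ∧ c.π.app i ⁻¹' C = {x | w x = n} :=
    fun n => exists_constructible_preimage D c hc (isConstructible_level w hw n)
  choose i C hC hCe using hlev
  obtain ⟨m, hm⟩ := IsCofiltered.inf_objs_exists (S.image i)
  let q : ∀ n ∈ S, m ⟶ i n := fun n hn => (hm (Finset.mem_image_of_mem i hn)).some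
  let C' : ℤ → Set (D.obj m) := fun n => if hn : n ∈ S then D.map (q n hn) ⁻¹' C n else ∅
  refine ⟨m, fun x => ∑ n ∈ S, @ite _ (x ∈ C' n) (Classical.propDecidable _) n 0,
    constrLC_indicator_sum S C' (fun n hn => ?_), fun x => ?_⟩
  · simp only [C', dif_pos hn]; exact Scheme.Hom.isConstructible_preimage _ (hC n)
  · have hiff : ∀ n ∈ S, (c.π.app m x ∈ C' n ↔ w x = n) := fun n hn => by
      simp only [C', dif_pos hn]
      exact (Set.ext_iff.1 ((preimage_π D c (q n hn) (C n)).trans (hCe n)) x)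
    show ∑ n ∈ S, _ = w x
    rw [Finset.sum_eq_single (w x)]
    · exact if_pos ((hiff _ ((finite_range_of_constrLC hw).mem_toFinset.2 ⟨x, rfl⟩)).2 rfl)
    · exact fun n hn hne => if_neg fun h => hne ((hiff n hn).1 h).symm
    · exact fun h => (h ((finite_range_of_constrLC hw).mem_toFinset.2 ⟨x, rfl⟩)).elim

include hc in
/-- A constructibly locally constant function which becomes locally constant on the limit is locally
constant at some stage. -/
theorem exists_isLocallyConstant {i : I} (J : D.obj i → ℤ) (hJ : ConstrLC J)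
    (h : IsLocallyConstant fun x => J (c.π.app i x)) :
    ∃ (j : I) (q : j ⟶ i), IsLocallyConstant fun x => J (D.map q x) := by
  classical
  haveI := isAffine_pt D c hc
  haveI : ∀ {i j} (f : i ⟶ j), IsAffineHom (D.map f) := fun f => inferInstance
  let S := (finite_range_of_constrLC hJ).toFinset
  have hstep : ∀ n : ℤ, ∃ (j : I) (q : j ⟶ i) (O : (D.obj j).Opens), (D.map q ⁻¹' {x | J x = n}) = (O : Set (D.obj j)) := by
    intro n
    have hcl : IsClopen (c.π.app i ⁻¹' {x | J x = n}) := h.isClopen_fiber n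
    haveI : CompactSpace ↥((((Functor.const I).obj c.pt).obj i)) := inferInstanceAs (CompactSpace c.pt)
    obtain ⟨k, O, hOc, hOe⟩ := exists_preimage_eq D c hc ⟨c.π.app i ⁻¹' {x | J x = n}, hcl.2⟩ hcl.1.isCompact
    obtain ⟨l, r, s, -⟩ : ∃ (l : I) (r : l ⟶ i) (s : l ⟶ k), True :=
      ⟨IsCofiltered.min i k, IsCofiltered.minToLeft i k, IsCofiltered.minToRight i k, trivial⟩
    let A := D.map r ⁻¹' {x | J x = n}
    let B := D.map s ⁻¹' (O : Set (D.obj k))
    have hA : IsConstructible A := Scheme.Hom.isConstructible_preimage _ (isConstructible_level J hJ n)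
    have hB : IsConstructible B := Scheme.Hom.isConstructible_preimage _ (hOc.isConstructible O.isOpen)
    have hAB : c.π.app l ⁻¹' (A \ B ∪ B \ A) = ∅ := by
      have e1 : c.π.app l ⁻¹' A = c.π.app i ⁻¹' {x | J x = n} := preimage_π D c r _
      have e2 : c.π.app l ⁻¹' B = c.π.app i ⁻¹' {x | J x = n} :=
        (preimage_π D c s _).trans (congrArg (fun O : c.pt.Opens => (O : Set c.pt)) hOe)
      rw [Set.preimage_union, Set.preimage_sdiff, Set.preimage_sdiff, e1, e2, Set.sdiff_self, Set.union_empty]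
    obtain ⟨j, p, hp⟩ := exists_preimage_eq_empty D c hc ((hA.sdiff hB).union (hB.sdiff hA)) hAB
    refine ⟨j, p ≫ r, D.map p ⁻¹ᵁ (D.map s ⁻¹ᵁ O), ?_⟩
    rw [preimage_map_comp]
    rw [Set.preimage_union, Set.preimage_sdiff, Set.preimage_sdiff, Set.union_empty_iff, Set.sdiff_eq_empty, Set.sdiff_eq_empty] at hp
    exact hp.1.antisymm hp.2
  choose k q O hO using hstep
  obtain ⟨m, r, hr⟩ : ∃ (m : I) (r : m ⟶ i), ∀ n ∈ S, ∃ p : m ⟶ k n, p ≫ q n = r := by
    induction S using Finset.induction with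
    | empty => exact ⟨i, 𝟙 i, fun n hn => absurd hn (Finset.notMem_empty n)⟩
    | insert n T _ ih =>
      obtain ⟨m, r, hr⟩ := ih
      obtain ⟨l, p₁, p₂, e⟩ := IsCofiltered.cospan r (q n)
      refine ⟨l, p₁ ≫ r, fun n' hn' => ?_⟩
      rcases Finset.mem_insert.1 hn' with rfl | hn'
      · exact ⟨p₂, e.symm⟩
      · obtain ⟨p, hp⟩ := hr n' hn'
        exact ⟨p₁ ≫ p, by rw [Category.assoc, hp]⟩
  refine ⟨m, r, ?_⟩
  intro T
  have hT : (fun x => J (D.map r x)) ⁻¹' T = ⋃ n ∈ {n ∈ (S : Set ℤ) | n ∈ T}, D.map r ⁻¹' {x | J x = n} := by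
    ext x
    simp only [Set.mem_preimage, Set.mem_iUnion₂]
    exact ⟨fun hx => ⟨_, ⟨(finite_range_of_constrLC hJ).mem_toFinset.2 ⟨_, rfl⟩, hx⟩, rfl⟩,
      fun ⟨n, ⟨_, hn⟩, hxn⟩ => (show J (D.map r x) = n from hxn) ▸ hn⟩
  rw [hT]
  refine isOpen_biUnion fun n hn => ?_
  obtain ⟨p, hp⟩ := hr n hn.1
  rw [← hp, preimage_map_comp, hO]
  exact (D.map p).continuous.isOpen_preimage _ (O n).isOpen

end Groth.Agent.Weighting
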