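import Groth.Agent.Weighting.Main
import Mathlib.RingTheory.Unramified.LocalStructure

/-!
Near a point, the sum over a geometric fibre contains the sum over the fixed fibre.
-/

set_option autoImplicit false
set_option linter.style.haveILetI false
universe u

open AlgebraicGeometry CategoryTheory Limits

namespace Groth.Agent.Weighting

variable {X Y V : Scheme.{u}}

theorem locallyQuasiFinite_of_etale {V' : Scheme.{u}} (h : V' ⟶ V) [Etale h] : LocallyQuasiFinite h := by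
  refine ⟨fun {U} hU {W} hW e => ?_⟩
  have := HasRingHomProperty.appLE (P := @Etale) h inferInstance ⟨U, hU⟩ ⟨W, hW⟩ e
  algebraize [(h.appLE U W e).hom]
  show @Algebra.QuasiFinite _ _ _ _ (h.appLE U W e).hom.toAlgebra
  infer_instance

/-- Near `pt v` every geometric fibre of a separated piece `U` contains a subset with the weight of the
fibre at `v`; the subset is everything if `U` is finite. -/
theorem exists_open_wsum {f : X ⟶ Y} [LocallyOfFiniteType f] [LocallyQuasiFinite f] {w : X → ℤ}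
    (hw : MoreMor.IsWeighting f w) {g : V ⟶ Y} (U : (pullback f g).Opens)
    [IsSeparated (U.ι ≫ pullback.snd f g)] {Ω : Type u} [Field Ω] [IsAlgClosed Ω]
    (v : Spec (CommRingCat.of Ω) ⟶ V) (hfin : (L U v).Finite) :
    ∃ O : V.Opens, pt v ∈ O ∧ ∀ (Ω' : Type u) [Field Ω'] [IsAlgClosed Ω'] (v₁ : Spec (CommRingCat.of Ω') ⟶ V),
      pt v₁ ∈ O → ∃ D ⊆ L U v₁, D.Finite ∧ ∑ᶠ y ∈ D, w (pt y) = ∑ᶠ x ∈ L U v, w (pt x) := by
  classical
  obtain ⟨V', h, hh, v', hv', V'', g'', hg'', b, hbg, W, N, hN, hW, hdec⟩ := exists_decomp U v hfin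
  have hloc : ∀ x : L U v, ∃ M : V''.Opens, pt (v' ≫ b) ∈ M ∧
      ∀ (Ω' : Type u) [Field Ω'] [IsAlgClosed Ω'] (v₁ : Spec (CommRingCat.of Ω') ⟶ V''),
        pt v₁ ∈ M → ∑ᶠ y ∈ L (W x.1) v₁, w (pt y) = w (pt x.1) := by
    intro x
    haveI := (hW x.1 x.2).1
    obtain ⟨M, hM, hMe⟩ := exists_nhd_wsum_eq hw (W x.1) (v' ≫ b)
    exact ⟨M, hM, fun Ω' _ _ v₁ h₁ => by rw [hMe Ω' v₁ h₁, (hW x.1 x.2).2, finsum_mem_singleton]⟩
  choose M hM hMe using hloc
  haveI : Finite (L U v) := hfin.to_subtype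
  let N' : V'.Opens := ⟨(N : Set V') ∩ ⋂ x, b ⁻¹' (M x : Set V''),
    N.isOpen.inter (isOpen_iInter_of_finite fun x => (M x).isOpen.preimage b.continuous)⟩
  refine ⟨⟨h '' (N' : Set V'), isOpen_image_etale h N'⟩,
    ⟨pt v', ⟨hN, Set.mem_iInter.2 fun x => hM x⟩, by rw [← pt_comp, hv']⟩, fun Ω' _ _ v₁ hv₁ => ?_⟩
  haveI := locallyQuasiFinite_of_etale h
  obtain ⟨p, hp, hpv⟩ := hv₁
  obtain ⟨l, hl, rfl⟩ := exists_mem_fib_at h v₁ p hpv
  obtain ⟨hsub, hdj, -⟩ := hdec Ω' l hp.1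
  have hl' : l ≫ h = v₁ := hl
  refine ⟨⋃ x ∈ L U v, L (W x) (l ≫ b), hl' ▸ Set.iUnion₂_subset hsub,
    hfin.biUnion fun x hx => by haveI := (hW x hx).1; exact finite_L _ _, ?_⟩
  rw [finsum_mem_biUnion hdj hfin fun x hx => by haveI := (hW x hx).1; exact finite_L _ _]
  exact finsum_mem_congr rfl fun x hx => hMe ⟨x, hx⟩ Ω' _ (Set.mem_iInter.1 hp.2 ⟨x, hx⟩)

/-- A morphism whose source is covered by finitely many opens, each finite over the target, is
universally closed. -/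
theorem universallyClosed_of_finite_cover {P T : Scheme.{u}} (π : P ⟶ T) {ι : Type*} [Finite ι]
    (W : ι → P.Opens) (hW : ∀ i, IsFinite ((W i).ι ≫ π)) (hcov : ∀ p : P, ∃ i, p ∈ W i) :
    UniversallyClosed π := by
  refine ⟨fun {P' T'} i₁ i₂ π' hc => ?_⟩
  intro C hC
  have e : π' '' C = ⋃ i, ((i₁ ⁻¹ᵁ W i).ι ≫ π') '' ((i₁ ⁻¹ᵁ W i).ι ⁻¹' C) := by
    ext t
    simp only [Set.mem_iUnion, Set.mem_image, Set.mem_preimage]
    constructor
    · rintro ⟨p, hp, rfl⟩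
      obtain ⟨i, hi⟩ := hcov (i₁ p)
      exact ⟨i, ⟨p, hi⟩, hp, rfl⟩
    · rintro ⟨i, p, hp, rfl⟩
      exact ⟨_, hp, rfl⟩
  rw [e]
  refine isClosed_iUnion_of_finite fun i => ?_
  haveI : IsFinite ((i₁ ⁻¹ᵁ W i).ι ≫ π') :=
    MorphismProperty.of_isPullback ((isPullback_morphismRestrict i₁ (W i)).paste_vert hc.flip) (hW i)
  exact ((i₁ ⁻¹ᵁ W i).ι ≫ π').isClosedMap _ (hC.preimage (i₁ ⁻¹ᵁ W i).ι.continuous)

/-- The geometric fibres of `f` are the geometric fibres of the full open of `X ×_Y Y`. -/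
theorem L_top_id (f : X ⟶ Y) {Ω : Type u} [Field Ω] (v : Spec (CommRingCat.of Ω) ⟶ Y) :
    L (⊤ : (pullback f (𝟙 Y)).Opens) v = Fib f v := by
  rw [L_top, Category.comp_id]

/-- The fibre integral is lower semicontinuous, for positive weightings. -/
theorem lowerSemicontinuous_fibreIntegral {f : X ⟶ Y} [LocallyOfFiniteType f] [LocallyQuasiFinite f]
    [IsSeparated f] (hfin : ∀ y : Y, (f ⁻¹' {y}).Finite) {w : X → ℤ}
    (hw : MoreMor.IsWeighting f w) (hpos : ∀ x, 0 < w x) :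
    LowerSemicontinuous (MoreMor.fibreIntegral f w) := by
  intro y
  intro c hc
  obtain ⟨Ω, _, _, v, rfl⟩ := exists_geomPt y
  rw [fibreIntegral_eq f w v (hfin _), ← L_top_id] at hc
  obtain ⟨O, hO, hOd⟩ := exists_open_wsum hw (⊤ : (pullback f (𝟙 Y)).Opens) v
    (L_top_id f v ▸ finite_fib f v (hfin _))
  refine Filter.mem_of_superset (O.isOpen.mem_nhds hO) fun y' hy' => ?_
  obtain ⟨Ω', _, _, v₁, rfl⟩ := exists_geomPt y'
  obtain ⟨D, hDs, hDf, hDe⟩ := hOd Ω' v₁ hy'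
  show c < MoreMor.fibreIntegral f w (pt v₁)
  rw [fibreIntegral_eq f w v₁ (hfin _), ← L_top_id]
  refine hc.trans_le ?_
  have hf : (L (⊤ : (pullback f (𝟙 Y)).Opens) v₁).Finite := L_top_id f v₁ ▸ finite_fib f v₁ (hfin _)
  rw [← hDe, finsum_mem_eq_finite_toFinset_sum _ hDf, finsum_mem_eq_finite_toFinset_sum _ hf]
  exact Finset.sum_le_sum_of_subset_of_nonneg (Set.Finite.toFinset_subset_toFinset.2 hDs) fun x _ _ => (hpos _).le

end Groth.Agent.Weighting
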