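import Mathlib

/-!
Zariski's main theorem with a finitely presented finite algebra: a quasi-finite algebra of finite
presentation is an open piece of a finite algebra of finite presentation.
-/

set_option autoImplicit false
set_option linter.style.haveILetI false
universe u

open AlgebraicGeometry CategoryTheory

namespace Groth.Agent.Weighting

variable {A B : Type u} [CommRing A] [CommRing B] [Algebra A B]

theorem exists_pow_mul_mem_range_of_awayMap_surjective {P : Type u} [CommRing P] [Algebra A P] (ψ : P →ₐ[A] B)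
    (S' : Subalgebra A B) (hS' : S' ≤ ψ.range) (r : S')
    (hr : Function.Bijective (Localization.awayMap S'.val.toRingHom r)) (b : B) :
    ∃ N : ℕ, (r : B) ^ N * b ∈ ψ.range := by
  obtain ⟨z, hz⟩ := hr.2 (algebraMap B (Localization.Away (r : B)) b)
  obtain ⟨⟨a, ⟨_, m, rfl⟩⟩, ha⟩ := IsLocalization.surj (Submonoid.powers r) z
  have h1 := congrArg (Localization.awayMap S'.val.toRingHom r) ha
  rw [map_mul, hz] at h1
  have e1 : ∀ c : S', Localization.awayMap S'.val.toRingHom r (algebraMap S' (Localization.Away r) c) =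
      algebraMap B (Localization.Away (r : B)) (c : B) := fun c => IsLocalization.map_eq _ c
  have h2 : algebraMap B (Localization.Away (r : B)) (b * (r : B) ^ m) = algebraMap B _ (a : B) := by
    rw [e1, e1] at h1
    rw [map_mul]
    exact h1
  obtain ⟨⟨_, k, rfl⟩, hk⟩ := (IsLocalization.eq_iff_exists (Submonoid.powers (r : B)) _).1 h2
  refine ⟨k + m, ?_⟩
  have hrm : (r : B) ∈ ψ.range := hS' r.2
  have : (r : B) ^ (k + m) * b = (r : B) ^ k * (a : B) := by rw [pow_add, mul_assoc, mul_comm ((r : B) ^ m)]; exact hk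
  rw [this]
  exact mul_mem (pow_mem hrm k) (hS' a.2)

/-- The kernel of a localised surjection onto a finitely presented algebra comes from finitely many elements. -/
theorem exists_ker_gens {P : Type u} [CommRing P] [Algebra A P] [Algebra.FinitePresentation A B]
    [Algebra.FinitePresentation A P] (ψ : P →ₐ[A] B) (R : P)
    (hsurj : Function.Surjective (Localization.awayMapₐ ψ R)) :
    ∃ K : Finset P, (∀ k ∈ K, ψ k = 0) ∧
      RingHom.ker (Localization.awayMapₐ ψ R) ≤ Ideal.span ((algebraMap P (Localization.Away R)) '' (K : Set P)) := by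
  classical
  haveI : Algebra.FinitePresentation A (Localization.Away (ψ R)) :=
    haveI := IsLocalization.Away.finitePresentation (ψ R) (S := Localization.Away (ψ R))
    .trans A B _
  haveI : Algebra.FinitePresentation A (Localization.Away R) :=
    haveI := IsLocalization.Away.finitePresentation R (S := Localization.Away R)
    .trans A P _
  obtain ⟨G, hG⟩ := Algebra.FinitePresentation.ker_fG_of_surjective (Localization.awayMapₐ ψ R) hsurj
  have hy : ∀ y : G, ∃ k : P, ψ k = 0 ∧ y.1 ∈ Ideal.span {algebraMap P (Localization.Away R) k} := by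
    rintro ⟨y, hy⟩
    obtain ⟨a, ⟨_, m, rfl⟩, rfl⟩ := IsLocalization.exists_mk'_eq (Submonoid.powers R) y
    have h1 : IsLocalization.map (Localization.Away (ψ R)) ψ.toRingHom
        (show Submonoid.powers R ≤ (Submonoid.powers (ψ R)).comap ψ.toRingHom from by
          rintro _ ⟨j, rfl⟩; exact ⟨j, (map_pow ψ R j).symm⟩)
        (IsLocalization.mk' (Localization.Away R) a (⟨R ^ m, m, rfl⟩ : Submonoid.powers R)) = 0 :=
      RingHom.mem_ker.1 (hG ▸ Ideal.subset_span hy)
    rw [IsLocalization.map_mk', IsLocalization.mk'_eq_zero_iff] at h1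
    obtain ⟨⟨_, k, rfl⟩, hk⟩ := h1
    refine ⟨R ^ k * a, by rw [map_mul, map_pow]; exact hk, Ideal.mem_span_singleton'.2
      ⟨IsLocalization.mk' _ 1 (⟨R ^ (m + k), m + k, rfl⟩ : Submonoid.powers R), ?_⟩⟩
    rw [mul_comm, IsLocalization.mul_mk'_eq_mk'_of_mul, mul_one, IsLocalization.mk'_eq_iff_eq]
    congr 1
    show R ^ m * (R ^ k * a) = R ^ (m + k) * a
    ring
  choose k hk0 hky using hy
  refine ⟨Finset.univ.image k, ?_, ?_⟩
  · intro z hz
    obtain ⟨y, -, rfl⟩ := Finset.mem_image.1 hz
    exact hk0 y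
  · refine le_trans (hG.symm.le : _ ≤ Ideal.span (G : Set (Localization.Away R))) ?_
    refine Ideal.span_le.2 fun y hy => ?_
    refine Ideal.span_mono ?_ (hky ⟨y, hy⟩)
    rw [Set.singleton_subset_iff]
    exact ⟨_, Finset.mem_coe.2 (Finset.mem_image.2 ⟨⟨y, hy⟩, Finset.mem_univ _, rfl⟩), rfl⟩

/-- Killing those elements makes the localisation bijective. -/
theorem bijective_awayMap_quotient {P : Type u} [CommRing P] [Algebra A P] (ψ : P →ₐ[A] B) (I : Ideal P)
    (hI : ∀ z ∈ I, ψ z = 0) (R : P) (hsurj : Function.Surjective (Localization.awayMapₐ ψ R)) {hK0 : Finset P}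
    (hKI : ∀ k ∈ hK0, k ∈ I)
    (hK : RingHom.ker (Localization.awayMapₐ ψ R) ≤ Ideal.span ((algebraMap P (Localization.Away R)) '' (hK0 : Set P))) :
    Function.Bijective (Localization.awayMapₐ (Ideal.Quotient.liftₐ I ψ hI) (Ideal.Quotient.mk I R)) := by
  classical
  let φ := Ideal.Quotient.liftₐ I ψ hI
  refine ⟨?_, ?_⟩
  · rw [injective_iff_map_eq_zero]
    intro z hz
    obtain ⟨a, ⟨_, m, rfl⟩, rfl⟩ := IsLocalization.exists_mk'_eq (Submonoid.powers (Ideal.Quotient.mk I R)) z
    obtain ⟨a, rfl⟩ := Ideal.Quotient.mk_surjective a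
    have h1 : IsLocalization.map (Localization.Away (φ (Ideal.Quotient.mk I R))) φ.toRingHom
        (show Submonoid.powers (Ideal.Quotient.mk I R) ≤ (Submonoid.powers (φ (Ideal.Quotient.mk I R))).comap φ.toRingHom from by
          rintro _ ⟨j, rfl⟩; exact ⟨j, (map_pow φ _ j).symm⟩)
        (IsLocalization.mk' (Localization.Away (Ideal.Quotient.mk I R)) (Ideal.Quotient.mk I a)
          (⟨Ideal.Quotient.mk I R ^ m, m, rfl⟩ : Submonoid.powers (Ideal.Quotient.mk I R))) = 0 := hz
    rw [IsLocalization.map_mk', IsLocalization.mk'_eq_zero_iff] at h1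
    obtain ⟨⟨_, k, rfl⟩, hk⟩ := h1
    have hk' : (ψ R) ^ k * ψ a = 0 := hk
    have hker : algebraMap P (Localization.Away R) a ∈ RingHom.ker (Localization.awayMapₐ ψ R) := by
      rw [RingHom.mem_ker]
      show IsLocalization.map (M := Submonoid.powers R) (Localization.Away (ψ R)) ψ.toRingHom
        (show Submonoid.powers R ≤ (Submonoid.powers (ψ R)).comap ψ.toRingHom from by
          rintro _ ⟨j, rfl⟩; exact ⟨j, (map_pow ψ R j).symm⟩) (algebraMap P (Localization.Away R) a) = 0
      rw [IsLocalization.map_eq]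
      exact (IsLocalization.map_eq_zero_iff (Submonoid.powers (ψ R)) _ _).2 ⟨⟨_, k, rfl⟩, hk'⟩
    have hmem := hK hker
    rw [← Ideal.map_span, IsLocalization.mem_map_algebraMap_iff (Submonoid.powers R)] at hmem
    obtain ⟨⟨⟨c, hc⟩, ⟨_, l, rfl⟩⟩, hl⟩ := hmem
    rw [← map_mul] at hl
    obtain ⟨⟨_, l', rfl⟩, hl'⟩ := (IsLocalization.eq_iff_exists (Submonoid.powers R) _).1 hl
    rw [IsLocalization.mk'_eq_zero_iff]
    refine ⟨⟨_, l' + l, rfl⟩, ?_⟩
    show Ideal.Quotient.mk I R ^ (l' + l) * Ideal.Quotient.mk I a = 0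
    rw [← map_pow, ← map_mul, Ideal.Quotient.eq_zero_iff_mem, pow_add, mul_assoc, mul_comm (R ^ l) a]
    simp only at hl'
    rw [hl']
    exact I.mul_mem_left _ (Ideal.span_le.2 (fun k hk => hKI k hk) hc)
  · intro y
    obtain ⟨z, hz⟩ := hsurj y
    obtain ⟨a, ⟨_, m, rfl⟩, rfl⟩ := IsLocalization.exists_mk'_eq (Submonoid.powers R) z
    refine ⟨IsLocalization.mk' _ (Ideal.Quotient.mk I a)
      (⟨Ideal.Quotient.mk I R ^ m, m, rfl⟩ : Submonoid.powers (Ideal.Quotient.mk I R)), ?_⟩
    rw [← hz]
    show IsLocalization.map (M := Submonoid.powers (Ideal.Quotient.mk I R)) (Localization.Away (φ (Ideal.Quotient.mk I R))) φ.toRingHom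
        (show Submonoid.powers (Ideal.Quotient.mk I R) ≤ (Submonoid.powers (φ (Ideal.Quotient.mk I R))).comap φ.toRingHom from by
          rintro _ ⟨j, rfl⟩; exact ⟨j, (map_pow φ _ j).symm⟩) (IsLocalization.mk' (Localization.Away (Ideal.Quotient.mk I R)) _ _) =
      IsLocalization.map (M := Submonoid.powers R) (Localization.Away (ψ R)) ψ.toRingHom
        (show Submonoid.powers R ≤ (Submonoid.powers (ψ R)).comap ψ.toRingHom from by
          rintro _ ⟨j, rfl⟩; exact ⟨j, (map_pow ψ R j).symm⟩) (IsLocalization.mk' (Localization.Away R) _ _)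
    rw [IsLocalization.map_mk', IsLocalization.map_mk']
    rfl

set_option maxHeartbeats 1000000 in
/-- A quasi-finite algebra of finite presentation is locally isomorphic to a finite algebra of finite
presentation mapping to it. -/
theorem exists_finite_fp_algHom [Algebra.QuasiFinite A B] [Algebra.FinitePresentation A B] :
    ∃ (Z : Type u) (_ : CommRing Z) (_ : Algebra A Z) (_ : Module.Finite A Z) (_ : Algebra.FinitePresentation A Z)
      (φ : Z →ₐ[A] B) (n : ℕ) (R : Fin n → Z), (∀ p : PrimeSpectrum B, ∃ i, φ (R i) ∉ p.asIdeal) ∧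
      ∀ i, Function.Bijective (Localization.awayMapₐ φ (R i)) := by
  classical
  have hloc : ∀ p : PrimeSpectrum B, ∃ (S' : Subalgebra A B), (Subalgebra.toSubmodule S').FG ∧ ∃ r : S',
      (r : B) ∉ p.asIdeal ∧ Function.Bijective (Localization.awayMap S'.val.toRingHom r) := by
    intro p
    obtain ⟨S', hfg, r, hr, hbij⟩ :=
      Algebra.QuasiFiniteAt.exists_fg_and_exists_notMem_and_awayMap_bijective (R := A) p.asIdeal
    exact ⟨S', hfg, r, hr, hbij⟩
  choose S' hfg r hrp hrb using hloc
  obtain ⟨t, ht⟩ := isCompact_univ.elim_finite_subcover (fun p => (PrimeSpectrum.basicOpen (r p : B) : Set (PrimeSpectrum B)))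
    (fun p => (PrimeSpectrum.basicOpen _).isOpen) (fun p _ => Set.mem_iUnion.2 ⟨p, hrp p⟩)
  choose g hg using hfg
  let s : Finset B := t.biUnion g
  have hint : ∀ x : s, IsIntegral A x.1 := by
    rintro ⟨x, hx⟩
    obtain ⟨p, hp, hxp⟩ := Finset.mem_biUnion.1 hx
    have hx' : x ∈ S' p := by
      rw [← Subalgebra.mem_toSubmodule, ← hg p]
      exact Submodule.subset_span hxp
    exact IsIntegral.of_mem_of_fg (S' p) ⟨g p, hg p⟩ x hx'
  choose q hqm hq using hint
  let P₀ := MvPolynomial s A
  let J : Ideal P₀ := Ideal.span (Set.range fun x : s => (q x).aeval (MvPolynomial.X x : P₀))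
  haveI : Algebra.FinitePresentation A (P₀ ⧸ J) :=
    Algebra.FinitePresentation.quotient (Submodule.fg_span (Set.finite_range _))
  haveI : Algebra.IsIntegral A (P₀ ⧸ J) := by
    refine ⟨fun z => ?_⟩
    obtain ⟨z, rfl⟩ := Ideal.Quotient.mkₐ_surjective A J z
    induction z using MvPolynomial.induction_on with
    | C a =>
      rw [← MvPolynomial.algebraMap_eq, AlgHom.commutes]
      exact isIntegral_algebraMap
    | add a b ha hb => rw [map_add]; exact ha.add hb
    | mul_X a x ha =>
      rw [map_mul]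
      refine ha.mul ⟨q x, hqm x, ?_⟩
      show Polynomial.aeval (Ideal.Quotient.mkₐ A J (MvPolynomial.X x)) (q x) = 0
      rw [Polynomial.aeval_algHom_apply]
      exact Ideal.Quotient.eq_zero_iff_mem.2 (Ideal.subset_span ⟨x, rfl⟩)
  haveI : Module.Finite A (P₀ ⧸ J) := Algebra.IsIntegral.finite
  have hJ : ∀ z ∈ J, MvPolynomial.aeval (fun x : s => x.1) z = (0 : B) := by
    intro z hz
    refine (Ideal.span_le (I := RingHom.ker (MvPolynomial.aeval (fun x : s => x.1) : P₀ →ₐ[A] B))).2 ?_ hz
    rintro _ ⟨x, rfl⟩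
    show MvPolynomial.aeval (fun x : s => x.1) ((q x).aeval (MvPolynomial.X x : P₀)) = (0 : B)
    rw [← Polynomial.aeval_algHom_apply, MvPolynomial.aeval_X]
    exact hq x
  let ψ : (P₀ ⧸ J) →ₐ[A] B := Ideal.Quotient.liftₐ J (MvPolynomial.aeval (fun x : s => x.1)) hJ
  have hsub : ∀ p ∈ t, S' p ≤ ψ.range := by
    intro p hp
    rw [← Subalgebra.toSubmodule.le_iff_le, ← hg p, Submodule.span_le]
    intro x hx
    exact ⟨Ideal.Quotient.mk J (MvPolynomial.X ⟨x, Finset.mem_biUnion.2 ⟨p, hp, hx⟩⟩), (MvPolynomial.aeval_X _ _)⟩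
  let e := t.equivFin.symm
  have hR : ∀ i, ∃ R : P₀ ⧸ J, ψ R = (r (e i).1 : B) := fun i => hsub _ (e i).2 (r (e i).1).2
  choose R hRr using hR
  have hsurj : ∀ i, Function.Surjective (Localization.awayMapₐ ψ (R i)) := by
    intro i y
    obtain ⟨⟨b, ⟨_, m, rfl⟩⟩, hb⟩ := IsLocalization.surj (Submonoid.powers (ψ (R i))) y
    obtain ⟨N, c, hc⟩ := exists_pow_mul_mem_range_of_awayMap_surjective ψ (S' _) (hsub _ (e i).2) (r _) (hrb _) b
    refine ⟨IsLocalization.mk' (Localization.Away (R i)) c (⟨R i ^ (N + m), N + m, rfl⟩ : Submonoid.powers (R i)), ?_⟩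
    show IsLocalization.map (M := Submonoid.powers (R i)) (Localization.Away (ψ (R i))) ψ.toRingHom
      (show Submonoid.powers (R i) ≤ (Submonoid.powers (ψ (R i))).comap ψ.toRingHom from by
        rintro _ ⟨j, rfl⟩; exact ⟨j, (map_pow ψ _ j).symm⟩) (IsLocalization.mk' (Localization.Away (R i)) _ _) = y
    rw [IsLocalization.map_mk', IsLocalization.mk'_eq_iff_eq_mul]
    show algebraMap B _ (ψ c) = y * algebraMap B _ (ψ (R i ^ (N + m)))
    have hc' : ψ c = ψ (R i) ^ N * b := by rw [hRr]; exact hc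
    rw [map_pow ψ, pow_add, map_mul, hc', map_mul, ← mul_assoc, mul_comm y, mul_assoc]
    congr 1
    exact hb.symm
  haveI hfpB : ∀ i, Algebra.FinitePresentation A (Localization.Away (ψ (R i))) := fun i =>
    haveI := IsLocalization.Away.finitePresentation (ψ (R i)) (S := Localization.Away (ψ (R i)))
    .trans A B _
  haveI hfpR : ∀ i, Algebra.FinitePresentation A (Localization.Away (R i)) := fun i =>
    haveI := IsLocalization.Away.finitePresentation (R i) (S := Localization.Away (R i))
    .trans A (P₀ ⧸ J) _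
  have hker := fun i => exists_ker_gens ψ (R i) (hsurj i)
  choose K hK0 hKspan using hker
  let I : Ideal (P₀ ⧸ J) := Ideal.span (Finset.univ.biUnion K : Finset (P₀ ⧸ J))
  haveI : Algebra.FinitePresentation A ((P₀ ⧸ J) ⧸ I) :=
    Algebra.FinitePresentation.quotient (Submodule.fg_span (Finset.finite_toSet _))
  haveI : Module.Finite A ((P₀ ⧸ J) ⧸ I) :=
    Module.Finite.of_surjective (Ideal.Quotient.mkₐ A I).toLinearMap (Ideal.Quotient.mkₐ_surjective A I)
  have hI : ∀ z ∈ I, ψ z = 0 := fun z hz => by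
    refine (Ideal.span_le (I := RingHom.ker ψ)).2 (fun k hk => ?_) hz
    obtain ⟨i, -, hi⟩ := Finset.mem_biUnion.1 hk
    exact hK0 i k hi
  let φ : ((P₀ ⧸ J) ⧸ I) →ₐ[A] B := Ideal.Quotient.liftₐ I ψ hI
  refine ⟨(P₀ ⧸ J) ⧸ I, inferInstance, inferInstance, inferInstance, inferInstance, φ, t.card,
    fun i => Ideal.Quotient.mk I (R i), fun p => ?_, fun i => ?_⟩
  · obtain ⟨p₀, hp₀, hp⟩ := Set.mem_iUnion₂.1 (ht (Set.mem_univ p))
    refine ⟨t.equivFin ⟨p₀, hp₀⟩, ?_⟩
    show ψ (R _) ∉ p.asIdeal
    rw [hRr, show e (t.equivFin ⟨p₀, hp₀⟩) = ⟨p₀, hp₀⟩ from t.equivFin.symm_apply_apply _]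
    exact hp
  · exact bijective_awayMap_quotient ψ I hI (R i) (hsurj i) (hK0 := K i)
      (fun k hk => Ideal.subset_span (Finset.mem_coe.2 (Finset.mem_biUnion.2 ⟨i, Finset.mem_univ _, hk⟩))) (hKspan i)

/-- The corresponding open immersion of spectra. -/
theorem isOpenImmersion_Spec_of_awayMap_bijective {Z B : Type u} [CommRing Z] [CommRing B] (φ : Z →+* B) {n : ℕ}
    (R : Fin n → Z) (hcov : ∀ p : PrimeSpectrum B, ∃ i, φ (R i) ∉ p.asIdeal)
    (hbij : ∀ i, Function.Bijective (Localization.awayMap φ (R i))) :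
    IsOpenImmersion (Spec.map (CommRingCat.ofHom φ)) := by
  have key : ∀ i, IsOpenImmersion (Spec.map (CommRingCat.ofHom (algebraMap B (Localization.Away (φ (R i))))) ≫
      Spec.map (CommRingCat.ofHom φ)) := by
    intro i
    let e := (RingEquiv.ofBijective _ (hbij i)).toCommRingCatIso
    have : Spec.map (CommRingCat.ofHom (algebraMap B (Localization.Away (φ (R i))))) ≫ Spec.map (CommRingCat.ofHom φ) =
        Spec.map e.hom ≫ Spec.map (CommRingCat.ofHom (algebraMap Z (Localization.Away (R i)))) := by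
      rw [← Spec.map_comp, ← Spec.map_comp]
      congr 1
      ext a
      show algebraMap B (Localization.Away (φ (R i))) (φ a) = Localization.awayMap φ (R i) (algebraMap Z (Localization.Away (R i)) a)
      simp [Localization.awayMap, IsLocalization.Away.map]
    rw [this]
    haveI : IsOpenImmersion (Spec.map (CommRingCat.ofHom (algebraMap Z (Localization.Away (R i))))) :=
      IsOpenImmersion.of_isLocalization (R i)
    infer_instance
  have hrange : ∀ i, Set.range (Spec.map (CommRingCat.ofHom (algebraMap B (Localization.Away (φ (R i)))))) =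
      (PrimeSpectrum.basicOpen (φ (R i)) : Set (PrimeSpectrum B)) := fun i =>
    PrimeSpectrum.localization_away_comap_range (Localization.Away (φ (R i))) (φ (R i))
  refine IsOpenImmersion.of_forall_source_exists _ ?_ fun p => ?_
  · intro p q hpq
    obtain ⟨i, hi⟩ := hcov p
    have hq : φ (R i) ∉ q.asIdeal := fun h => hi <| by
      have : R i ∈ (Spec.map (CommRingCat.ofHom φ) q).asIdeal := h
      rw [← hpq] at this
      exact this
    obtain ⟨p', rfl⟩ : p ∈ Set.range (Spec.map (CommRingCat.ofHom (algebraMap B (Localization.Away (φ (R i)))))) := by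
      rw [hrange]; exact hi
    obtain ⟨q', rfl⟩ : q ∈ Set.range (Spec.map (CommRingCat.ofHom (algebraMap B (Localization.Away (φ (R i)))))) := by
      rw [hrange]; exact hq
    rw [← Scheme.Hom.comp_apply, ← Scheme.Hom.comp_apply] at hpq
    rw [(key i).base_open.injective hpq]
  · obtain ⟨i, hi⟩ := hcov p
    haveI : IsOpenImmersion (Spec.map (CommRingCat.ofHom (algebraMap B (Localization.Away (φ (R i)))))) :=
      IsOpenImmersion.of_isLocalization (φ (R i))
    refine ⟨_, Spec.map (CommRingCat.ofHom (algebraMap B (Localization.Away (φ (R i))))), inferInstance, ?_, key i⟩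
    show p ∈ Set.range _
    rw [hrange]; exact hi

end Groth.Agent.Weighting
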