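import Groth.Prelude.Def_MoreMor
import Groth.Agent.Weighting.Geom
import Groth.Agent.Weighting.Semicont
import Mathlib.RingTheory.LocalRing.Length
import Mathlib.RingTheory.RamificationInertia.Basic
import Mathlib.AlgebraicGeometry.Morphisms.FlatRank
import Mathlib.AlgebraicGeometry.Morphisms.FormallyUnramified
import Mathlib.AlgebraicGeometry.Morphisms.Etale
import Mathlib.FieldTheory.PurelyInseparable.Tower

/-!
Length of the fibre at a point times the inseparable degree: invariant under étale base change,
and its fibre integral for a finite flat morphism is the rank.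
-/

set_option autoImplicit false
set_option linter.style.haveILetI false
set_option backward.isDefEq.respectTransparency false

universe u

open CategoryTheory CategoryTheory.Limits AlgebraicGeometry IsLocalRing

noncomputable section

namespace Groth.Agent.Weighting

/-- Length of the fibre is preserved by flat unramified local changes of both rings. -/
theorem length_quotient_map_eq {A B A' B' : Type u} [CommRing A] [CommRing B] [CommRing A'] [CommRing B']
    [IsLocalRing A] [IsLocalRing B] [IsLocalRing A'] [IsLocalRing B'] (f : A →+* B) (f' : A' →+* B')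
    (α : A →+* A') (β : B →+* B') (hsq : f'.comp α = β.comp f) [IsLocalHom β] (hflat : β.Flat)
    (hα : (maximalIdeal A).map α = maximalIdeal A') (hβ : (maximalIdeal B).map β = maximalIdeal B') :
    Module.length B' (B' ⧸ (maximalIdeal A').map f') = Module.length B (B ⧸ (maximalIdeal A).map f) := by
  have hI : (maximalIdeal A').map f' = ((maximalIdeal A).map f).map β := by
    rw [← hα, Ideal.map_map, Ideal.map_map, hsq]
  algebraize [β]
  haveI : IsLocalHom (algebraMap B B') := ‹IsLocalHom β›
  have h1 : Module.length B' (B' ⧸ (maximalIdeal B).map (algebraMap B B')) = 1 := by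
    rw [Module.length_eq_one_iff, isSimpleModule_iff_isCoatom, ← Ideal.isMaximal_def]
    show ((maximalIdeal B).map β).IsMaximal
    rw [hβ]
    exact maximalIdeal.isMaximal B'
  have h2 := IsLocalRing.length_baseChange B B' (B ⧸ (maximalIdeal A).map f)
  rw [h1, mul_one] at h2
  rw [hI, ← h2]
  exact (Algebra.TensorProduct.quotIdealMapEquivTensorQuot B' ((maximalIdeal A).map f)).toLinearEquiv.length_eq

variable {X Y U V : Scheme.{u}}

/-- The length of the fibre at a point. -/
abbrev fibreLength (f : X ⟶ Y) (x : X) : ℕ∞ :=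
  Module.length (X.presheaf.stalk x)
    (X.presheaf.stalk x ⧸ Ideal.map (f.stalkMap x).hom (maximalIdeal (Y.presheaf.stalk (f x))))

/-- The inseparable degree at a point. -/
abbrev insepDeg (f : X ⟶ Y) (x : X) : ℕ :=
  letI := (f.residueFieldMap x).hom.toAlgebra
  Field.finInsepDegree (Y.residueField (f x)) (X.residueField x)

theorem map_stalk_congr {g g' : X ⟶ Y} (h : g = g') (x : X) :
    Ideal.map (g.stalkMap x).hom (maximalIdeal _) = Ideal.map (g'.stalkMap x).hom (maximalIdeal _) := by
  subst h; rfl

theorem map_stalk_maximalIdeal (a : U ⟶ X) [FormallyUnramified a] [LocallyOfFiniteType a] (u : U) :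
    Ideal.map (a.stalkMap u).hom (maximalIdeal _) = maximalIdeal (U.presheaf.stalk u) := by
  algebraize [(a.stalkMap u).hom]
  haveI : IsLocalHom (algebraMap (X.presheaf.stalk (a u)) (U.presheaf.stalk u)) :=
    inferInstanceAs <| IsLocalHom (a.stalkMap u).hom
  haveI : Algebra.EssFiniteType (X.presheaf.stalk (a u)) (U.presheaf.stalk u) := by
    rw [← RingHom.essFiniteType_algebraMap, RingHom.algebraMap_toAlgebra]
    exact LocallyOfFiniteType.stalkMap a u
  haveI : Algebra.FormallyUnramified (X.presheaf.stalk (a u)) (U.presheaf.stalk u) := by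
    rw [← RingHom.formallyUnramified_algebraMap, RingHom.algebraMap_toAlgebra]
    exact FormallyUnramified.stalkMap a u
  exact Algebra.FormallyUnramified.map_maximalIdeal

theorem length_comp (a : U ⟶ X) [Flat a] [FormallyUnramified a] [LocallyOfFiniteType a] (f : X ⟶ Y) (u : U) :
    fibreLength (a ≫ f) u = fibreLength f (a u) :=
  length_quotient_map_eq (f.stalkMap (a u)).hom ((a ≫ f).stalkMap u).hom (RingHom.id _) (a.stalkMap u).hom
    (by rw [RingHom.comp_id, Scheme.Hom.stalkMap_comp]; rfl) (Flat.stalkMap a u) (Ideal.map_id _)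
    (map_stalk_maximalIdeal a u)

theorem length_comp_right (π : U ⟶ V) (b : V ⟶ Y) [FormallyUnramified b] [LocallyOfFiniteType b] (u : U) :
    fibreLength (π ≫ b) u = fibreLength π u := by
  have h : Ideal.map ((π ≫ b).stalkMap u).hom (maximalIdeal _) = Ideal.map (π.stalkMap u).hom (maximalIdeal _) := by
    rw [Scheme.Hom.stalkMap_comp, ← map_stalk_maximalIdeal b (π u)]
    exact (Ideal.map_map _ _).symm
  unfold fibreLength
  rw [h]

theorem fibreLength_square (a : U ⟶ X) [Flat a] [FormallyUnramified a] [LocallyOfFiniteType a]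
    (b : V ⟶ Y) [FormallyUnramified b] [LocallyOfFiniteType b]
    (f : X ⟶ Y) (π : U ⟶ V) (h : a ≫ f = π ≫ b) (u : U) :
    fibreLength π u = fibreLength f (a u) := by
  rw [← length_comp a f u, ← length_comp_right π b u]
  unfold fibreLength
  rw [map_stalk_congr h]

theorem insepDeg_congr {g g' : X ⟶ Y} (h : g = g') (x : X) : insepDeg g x = insepDeg g' x := by
  subst h; rfl

theorem insepDeg_comp (a : U ⟶ X) (f : X ⟶ Y) (u : U) (hf : (f.residueFieldMap (a u)).hom.Finite) :
    insepDeg (a ≫ f) u = insepDeg f (a u) * insepDeg a u := by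
  unfold insepDeg
  letI := (f.residueFieldMap (a u)).hom.toAlgebra
  letI := (a.residueFieldMap u).hom.toAlgebra
  letI : Algebra (Y.residueField (f (a u))) (U.residueField u) := ((a ≫ f).residueFieldMap u).hom.toAlgebra
  haveI : IsScalarTower (Y.residueField (f (a u))) (X.residueField (a u)) (U.residueField u) :=
    IsScalarTower.of_algebraMap_eq' (by
      simp only [RingHom.algebraMap_toAlgebra]
      rw [Scheme.residueFieldMap_comp]
      rfl)
  haveI : Module.Finite (Y.residueField (f (a u))) (X.residueField (a u)) := hf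
  exact (Field.finInsepDegree_mul_finInsepDegree_of_isAlgebraic (Y.residueField (f (a u)))
    (X.residueField (a u)) (U.residueField u)).symm

theorem insepDeg_eq_one (a : U ⟶ X) [FormallyUnramified a] [LocallyOfFiniteType a] (u : U) : insepDeg a u = 1 := by
  unfold insepDeg
  letI := (a.residueFieldMap u).hom.toAlgebra
  haveI : Algebra.IsSeparable (X.residueField (a u)) (U.residueField u) := inferInstance
  exact Algebra.IsSeparable.finInsepDegree_eq _ _

theorem insepDeg_square (a : U ⟶ X) [FormallyUnramified a] [LocallyOfFiniteType a]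
    (b : V ⟶ Y) [FormallyUnramified b] [LocallyOfFiniteType b] [LocallyQuasiFinite b]
    (f : X ⟶ Y) [LocallyQuasiFinite f] (π : U ⟶ V) (h : a ≫ f = π ≫ b) (u : U) :
    insepDeg π u = insepDeg f (a u) := by
  have h1 := insepDeg_comp a f u (finite_residueFieldMap f _)
  have h2 := insepDeg_comp π b u (finite_residueFieldMap b _)
  rw [insepDeg_eq_one a, mul_one] at h1
  rw [insepDeg_eq_one b, one_mul] at h2
  rw [← h1, ← h2, insepDeg_congr h]

theorem residueDegree_comp (a : U ⟶ X) (f : X ⟶ Y) (u : U) :
    (a ≫ f).residueDegree u = f.residueDegree (a u) * a.residueDegree u := by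
  unfold Scheme.Hom.residueDegree
  letI := (f.residueFieldMap (a u)).hom.toAlgebra
  letI := (a.residueFieldMap u).hom.toAlgebra
  letI : Algebra (Y.residueField (f (a u))) (U.residueField u) := ((a ≫ f).residueFieldMap u).hom.toAlgebra
  haveI : IsScalarTower (Y.residueField (f (a u))) (X.residueField (a u)) (U.residueField u) :=
    IsScalarTower.of_algebraMap_eq' (by
      simp only [RingHom.algebraMap_toAlgebra]
      rw [Scheme.residueFieldMap_comp]
      rfl)
  exact (Module.finrank_mul_finrank (Y.residueField (f (a u))) (X.residueField (a u)) (U.residueField u)).symm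

theorem residueDegree_eq_one (a : U ⟶ X) [IsOpenImmersion a] (u : U) : a.residueDegree u = 1 := by
  unfold Scheme.Hom.residueDegree
  letI := (a.residueFieldMap u).hom.toAlgebra
  exact ((AlgEquiv.ofBijective (Algebra.ofId (X.residueField (a u)) (U.residueField u))
    (ConcreteCategory.bijective_of_isIso (a.residueFieldMap u))).toLinearEquiv.finrank_eq).symm.trans
    (Module.finrank_self _)

/-- The summand of the rank at a point. -/
abbrev localDeg (f : X ⟶ Y) (x : X) : ℕ := (fibreLength f x).toNat * f.residueDegree x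

theorem localDeg_square (a : U ⟶ X) [IsOpenImmersion a] (b : V ⟶ Y) [IsOpenImmersion b]
    (f : X ⟶ Y) (π : U ⟶ V) (h : a ≫ f = π ≫ b) (u : U) : localDeg π u = localDeg f (a u) := by
  have hd : π.residueDegree u = f.residueDegree (a u) := by
    have h1 := residueDegree_comp a f u
    have h2 := residueDegree_comp π b u
    rw [residueDegree_eq_one a, mul_one] at h1
    rw [residueDegree_eq_one b, one_mul] at h2
    rw [← h1, ← h2, h]
  rw [localDeg, localDeg, fibreLength_square a b f π h u, hd]

theorem localDeg_Spec {R S : Type u} [CommRing R] [CommRing S] [Algebra R S] (q : PrimeSpectrum S) :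
    localDeg (Spec.map (CommRingCat.ofHom (algebraMap R S))) q =
      q.asIdeal.ramificationIdx R * q.asIdeal.inertiaDeg R := by
  set φ := CommRingCat.ofHom (algebraMap R S) with hφ
  let p : Ideal R := q.asIdeal.under R
  letI := Localization.AtPrime.algebraOfLiesOver p q.asIdeal
  let eR : (Spec (CommRingCat.of R)).presheaf.stalk ((Spec.map φ) q) ≅
      CommRingCat.of (Localization.AtPrime p) := Spec.stalkIso (CommRingCat.of R) ((Spec.map φ) q)
  let eS : (Spec (CommRingCat.of S)).presheaf.stalk q ≅ CommRingCat.of (Localization.AtPrime q.asIdeal) :=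
    Spec.stalkIso (CommRingCat.of S) q
  have hsq : eR.hom ≫ CommRingCat.ofHom (algebraMap (Localization.AtPrime p) (Localization.AtPrime q.asIdeal)) =
      (Spec.map φ).stalkMap q ≫ eS.hom := by
    have h := (Scheme.arrowStalkMapSpecIso φ q).hom.w
    simp only [Arrow.mk_hom] at h
    rw [Localization.AtPrime.IsLiesOverAlgebra.algebraMap_eq (p := p) (P := q.asIdeal)]
    exact h
  haveI : IsLocalHom eS.hom.hom := ⟨fun a ha => by simpa using ha.map eS.inv.hom⟩
  have hlen : fibreLength (Spec.map φ) q = Module.length (Localization.AtPrime q.asIdeal)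
      (Localization.AtPrime q.asIdeal ⧸ (maximalIdeal (Localization.AtPrime p)).map (algebraMap (Localization.AtPrime p) (Localization.AtPrime q.asIdeal))) := by
    refine (length_quotient_map_eq ((Spec.map φ).stalkMap q).hom (algebraMap (Localization.AtPrime p) (Localization.AtPrime q.asIdeal)) eR.hom.hom eS.hom.hom
      (congrArg CommRingCat.Hom.hom hsq) (RingHom.Flat.of_bijective (ConcreteCategory.bijective_of_isIso eS.hom))
      ?_ ?_).symm
    · exact IsLocalRing.map_maximalIdeal_of_surjective _ (ConcreteCategory.bijective_of_isIso eR.hom).surjective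
    · exact IsLocalRing.map_maximalIdeal_of_surjective _ (ConcreteCategory.bijective_of_isIso eS.hom).surjective
  have hdeg : (Spec.map φ).residueDegree q =
      Module.finrank p.ResidueField q.asIdeal.ResidueField := by
    unfold Scheme.Hom.residueDegree
    letI := ((Spec.map φ).residueFieldMap q).hom.toAlgebra
    refine Algebra.finrank_eq_of_equiv_equiv (IsLocalRing.ResidueField.mapEquiv eR.commRingCatIsoToRingEquiv)
      (IsLocalRing.ResidueField.mapEquiv eS.commRingCatIsoToRingEquiv) (RingHom.ext fun x => ?_)
    obtain ⟨x, rfl⟩ := residue_surjective x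
    exact congrArg (residue _) (congrFun (congrArg DFunLike.coe (congrArg CommRingCat.Hom.hom hsq)) x)
  rw [localDeg, hlen, hdeg, Ideal.ramificationIdx_eq p, Ideal.inertiaDeg_eq p q.asIdeal,
    ← Localization.AtPrime.map_eq_maximalIdeal, Ideal.map_map, ← IsScalarTower.algebraMap_eq]

theorem sum_localDeg_Spec {R S : Type u} [CommRing R] [CommRing S] [Algebra R S] [Module.Finite R S]
    [Module.Flat R S] (p : PrimeSpectrum R) :
    ∑ᶠ q : {q // (Spec.map (CommRingCat.ofHom (algebraMap R S))) q = p},
        localDeg (Spec.map (CommRingCat.ofHom (algebraMap R S))) q.1 =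
      (Spec.map (CommRingCat.ofHom (algebraMap R S))).finrank p := by
  classical
  rw [Scheme.Hom.finrank_SpecMap_algebraMap, ← Ideal.finrank_fiber_eq_rankAtStalk p.asIdeal]
  let e : {q // (Spec.map (CommRingCat.ofHom (algebraMap R S))) q = p} ≃ p.asIdeal.primesOver S :=
    { toFun := fun q => ⟨q.1.asIdeal, q.1.isPrime, ⟨(congrArg PrimeSpectrum.asIdeal q.2).symm⟩⟩
      invFun := fun q => ⟨⟨q.1, q.2.1⟩, PrimeSpectrum.ext q.2.2.over.symm⟩
      left_inv := fun q => rfl
      right_inv := fun q => rfl }
  haveI : IsFinite (Spec.map (CommRingCat.ofHom (algebraMap R S))) :=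
    (IsFinite.SpecMap_iff _).2 (RingHom.finite_algebraMap.2 inferInstance)
  haveI : Finite {q // (Spec.map (CommRingCat.ofHom (algebraMap R S))) q = p} :=
    ((Spec.map (CommRingCat.ofHom (algebraMap R S))).finite_preimage_singleton p).to_subtype
  haveI : Finite (p.asIdeal.primesOver S) := Finite.of_equiv _ e
  letI := Fintype.ofFinite (p.asIdeal.primesOver S)
  rw [← Ideal.sum_ramification_inertia_eq_finrank_fiber, ← finsum_eq_sum_of_fintype]
  exact finsum_eq_of_bijective e e.bijective fun q => localDeg_Spec q.1

/-- The rank of a finite flat morphism is the sum of the local degrees in a fibre. -/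
theorem sum_localDeg (π : U ⟶ V) [IsFinite π] [Flat π] (v : V) :
    ∑ᶠ u : {u // π u = v}, localDeg π u.1 = π.finrank v := by
  obtain ⟨R, g, _, r, rfl⟩ := V.exists_Spec_apply_eq v
  haveI : IsAffine (pullback π g) := isAffine_of_isAffineHom (pullback.snd π g)
  let P := pullback π g
  let i : Spec Γ(P, ⊤) ⟶ U := P.isoSpec.inv ≫ pullback.fst π g
  let φ : R ⟶ Γ(P, ⊤) := Spec.preimage (P.isoSpec.inv ≫ pullback.snd π g)
  have hφ : Spec.map φ = P.isoSpec.inv ≫ pullback.snd π g := Spec.map_preimage _
  have hsq : i ≫ π = Spec.map φ ≫ g := by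
    rw [hφ, Category.assoc, Category.assoc, pullback.condition]
  have hfr : (Spec.map φ).finrank r = π.finrank (g r) := by
    rw [hφ, Scheme.Hom.finrank_comp_left_of_isIso, Scheme.Hom.finrank_pullback_snd]
  rw [← hfr]
  algebraize [φ.hom]
  haveI : IsFinite (Spec.map φ) := by rw [hφ]; infer_instance
  haveI : Flat (Spec.map φ) := by rw [hφ]; infer_instance
  haveI : Module.Finite R Γ(P, ⊤) := (IsFinite.SpecMap_iff φ).1 inferInstance
  haveI : Module.Flat R Γ(P, ⊤) := Flat.SpecMap_iff.1 inferInstance
  refine Eq.trans ?_ (sum_localDeg_Spec (R := R) (S := Γ(P, ⊤)) r)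
  have hmem : ∀ u, π u = g r → u ∈ Set.range i := fun u hu => by
    have : u ∈ Set.range (pullback.fst π g) := by
      rw [Scheme.Pullback.range_fst]
      exact ⟨r, hu.symm⟩
    obtain ⟨z, rfl⟩ := this
    exact ⟨P.isoSpec.hom z, by
      rw [← Scheme.Hom.comp_apply]
      exact congrFun (congrArg (fun m : P ⟶ U => (m : P → U)) (Iso.hom_inv_id_assoc P.isoSpec (pullback.fst π g))) z⟩
  have hpt : ∀ q, π (i q) = g (Spec.map φ q) := fun q => by
    rw [← Scheme.Hom.comp_apply, hsq, Scheme.Hom.comp_apply]
  refine (finsum_eq_of_bijective (fun q => (⟨i q.1, (hpt q.1).trans (congrArg g q.2)⟩ : {u // π u = g r}))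
    ⟨fun q q' h => Subtype.ext (i.isOpenEmbedding.injective (congrArg Subtype.val h)), fun u => ?_⟩
    fun q => localDeg_square i g π (Spec.map φ) hsq q.1).symm
  obtain ⟨q, hq⟩ := hmem u.1 u.2
  refine ⟨⟨q, g.isOpenEmbedding.injective ?_⟩, Subtype.ext hq⟩
  exact (hpt q).symm.trans ((congrArg π hq).trans u.2)

/-- The weight of the statement. -/
abbrev lengthWeight (f : X ⟶ Y) (x : X) : ℤ := ((fibreLength f x).toNat : ℤ) * (insepDeg f x : ℤ)

theorem lengthWeight_square (a : U ⟶ X) [Etale a] (b : V ⟶ Y) [Etale b] [LocallyQuasiFinite b]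
    (f : X ⟶ Y) [LocallyQuasiFinite f] (π : U ⟶ V) (h : a ≫ f = π ≫ b) (u : U) :
    lengthWeight π u = lengthWeight f (a u) := by
  rw [lengthWeight, lengthWeight, fibreLength_square a b f π h u, insepDeg_square a b f π h u]

theorem fibreIntegral_lengthWeight (π : U ⟶ V) [IsFinite π] [Flat π] (v : V) :
    MoreMor.fibreIntegral π (lengthWeight π) v = π.finrank v := by
  classical
  haveI : Finite {u // π u = v} := (π.finite_preimage_singleton v).to_subtype
  rw [← sum_localDeg π v]
  letI := Fintype.ofFinite {u // π u = v}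
  rw [MoreMor.fibreIntegral, finsum_eq_sum_of_fintype, finsum_eq_sum_of_fintype, Nat.cast_sum]
  refine Finset.sum_congr rfl fun u _ => ?_
  rw [lengthWeight, localDeg, Nat.cast_mul, mul_assoc, ← Nat.cast_mul, mul_comm (insepDeg π u.1)]
  unfold Scheme.Hom.residueDegree insepDeg
  letI := (π.residueFieldMap u.1).hom.toAlgebra
  rw [Field.finSepDegree_mul_finInsepDegree]

theorem fibreLength_ne (f : X ⟶ Y) [LocallyQuasiFinite f] [LocallyOfFiniteType f] (x : X) :
    fibreLength f x ≠ 0 ∧ fibreLength f x ≠ ⊤ := by
  algebraize [(f.stalkMap x).hom]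
  haveI : IsLocalHom (algebraMap (Y.presheaf.stalk (f x)) (X.presheaf.stalk x)) :=
    inferInstanceAs <| IsLocalHom (f.stalkMap x).hom
  let A := Y.presheaf.stalk (f x)
  let B := X.presheaf.stalk x
  let I : Ideal B := (maximalIdeal A).map (algebraMap A B)
  refine ⟨?_, ?_⟩
  · rw [← pos_iff_ne_zero, Module.length_pos_iff, Ideal.Quotient.nontrivial_iff]
    exact (map_maximalIdeal_lt_top (algebraMap A B)).ne
  · haveI : Algebra.QuasiFinite A B := f.quasiFiniteAt x
    let e : (maximalIdeal A).Fiber B ≃ₐ[A] B ⧸ I :=
      (Algebra.TensorProduct.congr (.symm <| .ofBijective _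
        (Ideal.bijective_algebraMap_quotient_residueField (maximalIdeal A))) .refl).trans <|
      (Algebra.TensorProduct.comm _ _ _).trans
      ((Algebra.TensorProduct.quotIdealMapEquivTensorQuot B (maximalIdeal A)).symm.restrictScalars _)
    haveI : IsArtinianRing (B ⧸ I) := e.toRingEquiv.isArtinianRing
    show Module.length B (B ⧸ I) ≠ ⊤
    rw [Module.length_eq_of_surjective (R := B ⧸ I) Ideal.Quotient.mk_surjective, Module.length_ne_top_iff,
      ← isArtinianRing_iff_isFiniteLength]
    infer_instance

theorem lengthWeight_pos (f : X ⟶ Y) [LocallyQuasiFinite f] [LocallyOfFiniteType f] (x : X) :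
    0 < lengthWeight f x := by
  refine mul_pos (Nat.cast_pos.2 (ENat.toNat_pos (fibreLength_ne f x).1 (fibreLength_ne f x).2)) (Nat.cast_pos.2 ?_)
  unfold insepDeg
  letI := (f.residueFieldMap x).hom.toAlgebra
  haveI : Module.Finite (Y.residueField (f x)) (X.residueField x) := finite_residueFieldMap f x
  exact Nat.pos_of_ne_zero (NeZero.ne _)

theorem isWeighting_lengthWeight (f : X ⟶ Y) [LocallyQuasiFinite f] [Flat f] [LocallyOfFinitePresentation f] :
    MoreMor.IsWeighting f (lengthWeight f) := by
  intro T g _ W hW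
  let π := W.ι ≫ pullback.snd f g
  have hw : (fun u => lengthWeight f (pullback.fst f g (W.ι u))) = lengthWeight π := funext fun u => by
    haveI : Etale (pullback.fst f g) := inferInstance
    haveI : LocallyQuasiFinite g := locallyQuasiFinite_of_etale g
    exact (lengthWeight_square (W.ι ≫ pullback.fst f g) g f π (by simp [π, pullback.condition]) u).symm
  rw [hw, show MoreMor.fibreIntegral π (lengthWeight π) = fun v => (π.finrank v : ℤ) from
    funext fun v => fibreIntegral_lengthWeight π v]
  exact (Scheme.Hom.isLocallyConstant_finrank π).comp _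

end Groth.Agent.Weighting
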