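import Groth.Agent.Weighting.Split

/-!
Weightings: the fibre integral of a finite piece is locally constant over an arbitrary base change.
-/

set_option autoImplicit false
set_option linter.style.haveILetI false
universe u

open AlgebraicGeometry CategoryTheory Limits

namespace Groth.Agent.Weighting

variable {X Y V : Scheme.{u}}

theorem L_top (f : X ⟶ Y) (g : V ⟶ Y) {Ω : Type u} [Field Ω] (v : Spec (CommRingCat.of Ω) ⟶ V) :
    L (⊤ : (pullback f g).Opens) v = Fib f (v ≫ g) := by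
  ext x
  exact mem_L_iff.trans ⟨fun h => h.1, fun h => ⟨h, trivial⟩⟩

/-- Geometric form of the weighting condition. -/
theorem exists_nhd_wsum_eq {f : X ⟶ Y} [LocallyQuasiFinite f] {w : X → ℤ} (hw : MoreMor.IsWeighting f w)
    {g : V ⟶ Y} [Etale g] (W : (pullback f g).Opens) [IsFinite (W.ι ≫ pullback.snd f g)]
    {Ω : Type u} [Field Ω] [IsAlgClosed Ω] (v : Spec (CommRingCat.of Ω) ⟶ V) :
    ∃ N : V.Opens, pt v ∈ N ∧ ∀ (Ω' : Type u) [Field Ω'] [IsAlgClosed Ω'] (v' : Spec (CommRingCat.of Ω') ⟶ V),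
      pt v' ∈ N → ∑ᶠ x ∈ L W v', w (pt x) = ∑ᶠ x ∈ L W v, w (pt x) := by
  obtain ⟨N, hN, hv, hconst⟩ := (IsLocallyConstant.iff_exists_open _).1 (hw V g W inferInstance) (pt v)
  refine ⟨⟨N, hN⟩, hv, fun Ω' _ _ v' hv' => ?_⟩
  rw [← fibreIntegral_eq_L W w v', ← fibreIntegral_eq_L W w v]
  exact hconst _ hv'

set_option maxHeartbeats 400000 in
/-- Étale-locally around a geometric point, a separated piece `U` contains disjoint finite pieces, one
for each geometric point of the fibre, and is covered by them if it is finite. -/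
theorem exists_decomp {f : X ⟶ Y} [LocallyOfFiniteType f] [LocallyQuasiFinite f] {g : V ⟶ Y}
    (U : (pullback f g).Opens) [IsSeparated (U.ι ≫ pullback.snd f g)] {Ω : Type u} [Field Ω] [IsAlgClosed Ω]
    (v : Spec (CommRingCat.of Ω) ⟶ V) (hfin : (L U v).Finite) :
    ∃ (V' : Scheme.{u}) (h : V' ⟶ V) (_ : Etale h) (v' : Spec (CommRingCat.of Ω) ⟶ V') (_ : v' ≫ h = v)
      (V'' : Scheme.{u}) (g'' : V'' ⟶ Y) (_ : Etale g'') (b : V' ⟶ V'') (_ : b ≫ g'' = h ≫ g)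
      (W : (Spec (CommRingCat.of Ω) ⟶ X) → (pullback f g'').Opens) (N : V'.Opens),
      pt v' ∈ N ∧
      (∀ x ∈ L U v, IsFinite ((W x).ι ≫ pullback.snd f g'') ∧ L (W x) (v' ≫ b) = {x}) ∧
      ∀ (Ω' : Type u) [Field Ω'] (v₁ : Spec (CommRingCat.of Ω') ⟶ V'), pt v₁ ∈ N →
        (∀ x ∈ L U v, L (W x) (v₁ ≫ b) ⊆ L U (v₁ ≫ h)) ∧
        ((L U v).PairwiseDisjoint fun x => L (W x) (v₁ ≫ b)) ∧
        (IsFinite (U.ι ≫ pullback.snd f g) → L U (v₁ ≫ h) ⊆ ⋃ x ∈ L U v, L (W x) (v₁ ≫ b)) := by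
  classical
  obtain ⟨V'', g'', hg'', v'', hv'', hch⟩ := exists_charts f (v ≫ g) (L U v) hfin
    fun x hx => comp_eq_of_mem_L hx
  choose W' hW'fin hW'L using hch
  let W : (Spec (CommRingCat.of Ω) ⟶ X) → (pullback f g'').Opens :=
    fun x => if hx : x ∈ L U v then W' x hx else ⊥
  have hWfin : ∀ x ∈ L U v, IsFinite ((W x).ι ≫ pullback.snd f g'') ∧ L (W x) v'' = {x} := fun x hx => by
    have e : W x = W' x hx := dif_pos hx
    rw [e]; exact ⟨hW'fin x hx, hW'L x hx⟩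
  let P := pullback g g''
  haveI : Etale (pullback.fst g g'') := MorphismProperty.pullback_fst _ _ hg''
  let v₀ : Spec (CommRingCat.of Ω) ⟶ P := pullback.lift v v'' hv''.symm
  have hS : ∀ x ∈ L U v, ∃ N : P.Opens, pt v₀ ∈ N ∧
      ∀ p : ↥(pullback f (pullback.fst g g'' ≫ g)), p ∈ bc (pullback.snd g g'') pullback.condition.symm (W x) →
        pullback.snd f (pullback.fst g g'' ≫ g) p ∈ N → p ∈ bc (pullback.fst g g'') rfl U := by
    intro x hx
    haveI := isFinite_bc (pullback.snd g g'') (g' := pullback.fst g g'' ≫ g) pullback.condition.symm (hWfin x hx).1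
    obtain ⟨N, h1, h2, -⟩ := exists_nhd_L_subset (bc (pullback.snd g g'') pullback.condition.symm (W x))
      (bc (pullback.fst g g'') rfl U) v₀ (by
        rw [L_bc, L_bc, pullback.lift_snd, pullback.lift_fst, (hWfin x hx).2, Set.singleton_subset_iff]
        exact hx)
    exact ⟨N, h1, h2⟩
  choose N₁ hN₁ hsub₁ using hS
  haveI : Finite (L U v) := hfin.to_subtype
  let M : P.Opens := ⟨⋂ x : L U v, (N₁ x.1 x.2 : Set P), isOpen_iInter_of_finite fun x => (N₁ x.1 x.2).isOpen⟩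
  have hM : pt v₀ ∈ M := Set.mem_iInter.2 fun x => hN₁ x.1 x.2
  let v' : Spec (CommRingCat.of Ω) ⟶ M := IsOpenImmersion.lift M.ι v₀ (by
    rw [range_eq_pt, Scheme.Opens.range_ι, Set.singleton_subset_iff]; exact hM)
  let h : (M : Scheme.{u}) ⟶ V := M.ι ≫ pullback.fst g g''
  let b : (M : Scheme.{u}) ⟶ V'' := M.ι ≫ pullback.snd g g''
  have hbg : b ≫ g'' = h ≫ g := by simp [b, h, pullback.condition]
  have hv'h : v' ≫ h = v := by rw [IsOpenImmersion.lift_fac_assoc, pullback.lift_fst]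
  have hv'b : v' ≫ b = v'' := by rw [IsOpenImmersion.lift_fac_assoc, pullback.lift_snd]
  let U₁ := bc h (g' := h ≫ g) rfl U
  let W₁ := fun x => bc b (g' := h ≫ g) hbg (W x)
  have hle : ∀ x ∈ L U v, W₁ x ≤ U₁ := by
    intro x hx p hp
    let m : pullback f (h ≫ g) ⟶ pullback f (pullback.fst g g'' ≫ g) :=
      bcMap M.ι (g := pullback.fst g g'' ≫ g) (by simp [h])
    have e1 : m ≫ bcMap (pullback.snd g g'') pullback.condition.symm = bcMap b hbg := by
      apply pullback.hom_ext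
      · exact (Category.assoc _ _ _).trans ((congrArg (m ≫ ·) (bcMap_fst _ _)).trans ((bcMap_fst _ _).trans (bcMap_fst _ _).symm))
      · refine (Category.assoc _ _ _).trans ((congrArg (m ≫ ·) (bcMap_snd _ _)).trans ?_)
        refine (Category.assoc _ _ _).symm.trans ((congrArg (· ≫ pullback.snd g g'') (bcMap_snd _ _)).trans ?_)
        exact (Category.assoc _ _ _).trans (bcMap_snd _ _).symm
    have e2 : m ≫ bcMap (pullback.fst g g'') rfl = bcMap h rfl := by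
      apply pullback.hom_ext
      · exact (Category.assoc _ _ _).trans ((congrArg (m ≫ ·) (bcMap_fst _ _)).trans ((bcMap_fst _ _).trans (bcMap_fst _ _).symm))
      · refine (Category.assoc _ _ _).trans ((congrArg (m ≫ ·) (bcMap_snd _ _)).trans ?_)
        refine (Category.assoc _ _ _).symm.trans ((congrArg (· ≫ pullback.fst g g'') (bcMap_snd _ _)).trans ?_)
        exact (Category.assoc _ _ _).trans (bcMap_snd _ _).symm
    have h1 : m p ∈ bc (pullback.snd g g'') (g' := pullback.fst g g'' ≫ g) pullback.condition.symm (W x) := by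
      show bcMap (pullback.snd g g'') _ (m p) ∈ W x
      rw [← Scheme.Hom.comp_apply, e1]; exact hp
    have h2 : pullback.snd f (pullback.fst g g'' ≫ g) (m p) ∈ N₁ x hx := by
      rw [← Scheme.Hom.comp_apply, bcMap_snd, Scheme.Hom.comp_apply]
      exact Set.mem_iInter.1 (pullback.snd f (h ≫ g) p).2 ⟨x, hx⟩
    have := hsub₁ x hx _ h1 h2
    show bcMap h rfl p ∈ U
    rw [← e2, Scheme.Hom.comp_apply]
    exact this
  haveI : IsSeparated (U₁.ι ≫ pullback.snd f (h ≫ g)) :=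
    MorphismProperty.of_isPullback (P := @IsSeparated) (isPullback_bc h rfl U) inferInstance
  have hWL : ∀ x ∈ L U v, L (W₁ x) v' = {x} := fun x hx => by rw [L_bc, hv'b, (hWfin x hx).2]
  have hdisj : ∀ x y : L U v, x ≠ y → ∃ N : (M : Scheme.{u}).Opens, pt v' ∈ N ∧
      ∀ (Ω' : Type u) [Field Ω'] (v₁ : Spec (CommRingCat.of Ω') ⟶ M), pt v₁ ∈ N →
        Disjoint (L (W₁ x.1) v₁) (L (W₁ y.1) v₁) := by
    intro x y hxy
    haveI : IsFinite ((W₁ x.1).ι ≫ pullback.snd f (h ≫ g)) := isFinite_bc b hbg (hWfin x.1 x.2).1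
    haveI : IsFinite ((W₁ y.1).ι ≫ pullback.snd f (h ≫ g)) := isFinite_bc b hbg (hWfin y.1 y.2).1
    refine exists_nhd_disjoint U₁ _ _ (hle x.1 x.2) (hle y.1 y.2) v' ?_
    rw [hWL _ x.2, hWL _ y.2, Set.disjoint_singleton]
    exact Subtype.coe_ne_coe.2 hxy
  choose N₂ hN₂ hdisj₂ using hdisj
  have hcover : ∃ N : (M : Scheme.{u}).Opens, pt v' ∈ N ∧ ∀ (Ω' : Type u) [Field Ω'] (v₁ : Spec (CommRingCat.of Ω') ⟶ M),
      pt v₁ ∈ N → IsFinite (U.ι ≫ pullback.snd f g) → L U (v₁ ≫ h) ⊆ ⋃ x ∈ L U v, L (W x) (v₁ ≫ b) := by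
    by_cases hU : IsFinite (U.ι ≫ pullback.snd f g)
    · haveI : IsFinite (U₁.ι ≫ pullback.snd f (h ≫ g)) := isFinite_bc h rfl hU
      let T := ⨆ x : L U v, W₁ x.1
      obtain ⟨N, h1, -, h3⟩ := exists_nhd_L_subset U₁ T v' (by
        intro x hx
        rw [L_bc, hv'h] at hx
        exact L_mono (le_iSup (fun x : L U v => W₁ x.1) ⟨x, hx⟩) v' ((hWL x hx).symm ▸ rfl))
      refine ⟨N, h1, fun Ω' _ v₁ hv₁ _ x hx => ?_⟩
      obtain ⟨e, hp⟩ := mem_L_iff.1 (h3 Ω' v₁ hv₁ (by rw [L_bc]; exact hx))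
      obtain ⟨y, hy⟩ := TopologicalSpace.Opens.mem_iSup.1 hp
      exact Set.mem_biUnion y.2 (by rw [← L_bc b hbg]; exact mem_L_iff.2 ⟨e, hy⟩)
    · exact ⟨⊤, trivial, fun _ _ _ _ h' => absurd h' hU⟩
  obtain ⟨N₃, hN₃, hcov⟩ := hcover
  haveI : Finite {p : ↥(L U v) × ↥(L U v) // p.1 ≠ p.2} := inferInstance
  let N : (M : Scheme.{u}).Opens :=
    ⟨(N₃ : Set _) ∩ Set.iInter fun (p : {q : ↥(L U v) × ↥(L U v) // q.1 ≠ q.2}) => (N₂ p.1.1 p.1.2 p.2 : Set (M : Scheme.{u})),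
      N₃.isOpen.inter (isOpen_iInter_of_finite fun (p : {q : ↥(L U v) × ↥(L U v) // q.1 ≠ q.2}) => (N₂ p.1.1 p.1.2 p.2).isOpen)⟩
  refine ⟨M, h, inferInstance, v', hv'h, V'', g'', hg'', b, hbg, W, N,
    ⟨hN₃, Set.mem_iInter.2 fun p => hN₂ _ _ _⟩, fun x hx => ⟨(hWfin x hx).1, hv'b ▸ (hWfin x hx).2⟩,
    fun Ω' _ v₁ hv₁ => ⟨fun x hx => ?_, ?_, hcov Ω' v₁ hv₁.1⟩⟩
  · rw [← L_bc b hbg, ← L_bc h rfl]
    exact L_mono (hle x hx) v₁
  · intro x hx y hy hxy
    have := hdisj₂ ⟨x, hx⟩ ⟨y, hy⟩ (by simpa using hxy) Ω' v₁ (Set.mem_iInter.1 hv₁.2 ⟨(⟨x, hx⟩, ⟨y, hy⟩), by simpa using hxy⟩)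
    show Disjoint (L (W x) (v₁ ≫ b)) (L (W y) (v₁ ≫ b))
    rwa [← L_bc b hbg, ← L_bc b hbg]

theorem isOpen_image_etale {V' : Scheme.{u}} (h : V' ⟶ V) [Etale h] (N : V'.Opens) : IsOpen (h '' (N : Set V')) :=
  h.isOpenMap _ N.isOpen

/-- The fibre integral of a finite open piece is locally constant over any base change. -/
theorem isLocallyConstant_fibreIntegral {f : X ⟶ Y} [LocallyOfFiniteType f] [LocallyQuasiFinite f]
    {w : X → ℤ} (hw : MoreMor.IsWeighting f w) (g : V ⟶ Y) (U : (pullback f g).Opens)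
    [IsFinite (U.ι ≫ pullback.snd f g)] :
    IsLocallyConstant (MoreMor.fibreIntegral (U.ι ≫ pullback.snd f g) (fun u => w (pullback.fst f g (U.ι u)))) := by
  classical
  rw [IsLocallyConstant.iff_exists_open]
  intro v₀
  obtain ⟨Ω, _, _, v, rfl⟩ := exists_geomPt v₀
  have hfin : (L U v).Finite := finite_L U v
  obtain ⟨V', h, hh, v', hv', V'', g'', hg'', b, hbg, W, N, hN, hW, hdec⟩ := exists_decomp U v hfin
  have hloc : ∀ x : L U v, ∃ M : V''.Opens, pt (v' ≫ b) ∈ M ∧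
      ∀ (Ω' : Type u) [Field Ω'] [IsAlgClosed Ω'] (v₁ : Spec (CommRingCat.of Ω') ⟶ V''),
        pt v₁ ∈ M → ∑ᶠ y ∈ L (W x.1) v₁, w (pt y) = w (pt x.1) := by
    intro x
    haveI := (hW x.1 x.2).1
    obtain ⟨M, hM, hMe⟩ := exists_nhd_wsum_eq hw (W x.1) (v' ≫ b)
    exact ⟨M, hM, fun Ω' _ _ v₁ h₁ => by rw [hMe Ω' v₁ h₁, (hW x.1 x.2).2, finsum_mem_singleton]⟩
  choose M hM hMe using hloc
  haveI : Finite (L U v) := hfin.to_subtype
  let N' : V'.Opens := ⟨(N : Set V') ∩ ⋂ x, b ⁻¹' (M x : Set V''),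
    N.isOpen.inter (isOpen_iInter_of_finite fun x => (M x).isOpen.preimage b.continuous)⟩
  have key : ∀ (Ω' : Type u) [Field Ω'] [IsAlgClosed Ω'] (v₁ : Spec (CommRingCat.of Ω') ⟶ V'), pt v₁ ∈ N' →
      ∑ᶠ y ∈ L U (v₁ ≫ h), w (pt y) = ∑ᶠ x ∈ L U v, w (pt x) := by
    intro Ω' _ _ v₁ hv₁
    obtain ⟨hsub, hdj, hcov⟩ := hdec Ω' v₁ hv₁.1
    have heq : L U (v₁ ≫ h) = ⋃ x ∈ L U v, L (W x) (v₁ ≫ b) :=
      (hcov inferInstance).antisymm (Set.iUnion₂_subset hsub)
    rw [heq, finsum_mem_biUnion hdj hfin fun x hx => by haveI := (hW x hx).1; exact finite_L _ _]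
    refine finsum_mem_congr rfl fun x hx => hMe ⟨x, hx⟩ Ω' _ ?_
    exact Set.mem_iInter.1 hv₁.2 ⟨x, hx⟩
  refine ⟨h '' (N' : Set V'), isOpen_image_etale h N',
    ⟨pt v', ⟨hN, Set.mem_iInter.2 fun x => hM x⟩, by rw [← pt_comp, hv']⟩, ?_⟩
  rintro _ ⟨p, hp, rfl⟩
  obtain ⟨Ω', _, _, v₁, rfl⟩ := exists_geomPt p
  rw [← pt_comp, fibreIntegral_eq_L U w (v₁ ≫ h), fibreIntegral_eq_L U w v]
  exact key Ω' v₁ hp

/-- Weightings are stable under base change. -/
theorem isWeighting_baseChange {X' Y' : Scheme.{u}} {f : X ⟶ Y} [LocallyOfFiniteType f] [LocallyQuasiFinite f]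
    {w : X → ℤ} (hw : MoreMor.IsWeighting f w) {f' : X' ⟶ Y'} {k : X' ⟶ X} {g : Y' ⟶ Y}
    (hc : IsPullback k f' f g) : MoreMor.IsWeighting f' (w ∘ k) := by
  intro V g' _ U hU
  haveI : LocallyQuasiFinite f' := MorphismProperty.of_isPullback hc inferInstance
  let e : pullback f' g' ≅ pullback f (g' ≫ g) :=
    ((IsPullback.of_hasPullback f' g').paste_horiz hc).isoPullback
  have he1 : e.hom ≫ pullback.fst f (g' ≫ g) = pullback.fst f' g' ≫ k := IsPullback.isoPullback_hom_fst _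
  have he2 : e.hom ≫ pullback.snd f (g' ≫ g) = pullback.snd f' g' := IsPullback.isoPullback_hom_snd _
  let U' : (pullback f (g' ≫ g)).Opens := e.inv ⁻¹ᵁ U
  have hU' : IsFinite (U'.ι ≫ pullback.snd f (g' ≫ g)) := by
    have : U'.ι ≫ pullback.snd f (g' ≫ g) = (e.inv ∣_ U) ≫ U.ι ≫ pullback.snd f' g' := by
      rw [morphismRestrict_ι_assoc, ← he2, Iso.inv_hom_id_assoc]
    rw [this]
    infer_instance
  have hlc := isLocallyConstant_fibreIntegral hw (g' ≫ g) U'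
  convert hlc using 1
  funext p
  obtain ⟨Ω, _, _, v, rfl⟩ := exists_geomPt p
  rw [fibreIntegral_eq_L U' w v]
  refine (fibreIntegral_eq_L U (w ∘ k) v).trans ?_
  refine finsum_mem_eq_of_bijOn (fun x => x ≫ k) ⟨?_, ?_, ?_⟩ fun x _ => rfl
  · intro x hx
    obtain ⟨hcomp, hp⟩ := mem_L_iff.1 hx
    have hcomp' : (x ≫ k) ≫ f = v ≫ g' ≫ g := by rw [Category.assoc, hc.w, reassoc_of% hcomp]
    refine mem_L_iff.2 ⟨hcomp', ?_⟩
    show e.inv (pt (pullback.lift (x ≫ k) v hcomp')) ∈ U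
    rw [← pt_comp]
    convert hp using 2
    rw [Iso.comp_inv_eq]
    apply pullback.hom_ext
    · rw [pullback.lift_fst, Category.assoc, he1, pullback.lift_fst_assoc]
    · rw [pullback.lift_snd, Category.assoc, he2, pullback.lift_snd]
  · intro x hx y hy hxy
    refine hc.hom_ext hxy ?_
    rw [comp_eq_of_mem_L hx, comp_eq_of_mem_L hy]
  · intro x hx
    obtain ⟨hcomp, hp⟩ := mem_L_iff.1 hx
    have hcomp2 : x ≫ f = (v ≫ g') ≫ g := by rw [Category.assoc]; exact hcomp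
    refine ⟨hc.lift x (v ≫ g') hcomp2, ?_, hc.lift_fst _ _ _⟩
    refine mem_L_iff.2 ⟨hc.lift_snd _ _ _, ?_⟩
    have hp' : e.inv (pt (pullback.lift x v hcomp)) ∈ U := hp
    rw [← pt_comp] at hp'
    convert hp' using 2
    rw [Iso.eq_comp_inv]
    apply pullback.hom_ext
    · rw [pullback.lift_fst, Category.assoc, he1, pullback.lift_fst_assoc, hc.lift_fst]
    · rw [pullback.lift_snd, Category.assoc, he2, pullback.lift_snd]

/-- Restriction of a weighting to an open subscheme. -/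
theorem isWeighting_restrict {f : X ⟶ Y} [LocallyQuasiFinite f]
    {w : X → ℤ} (hw : MoreMor.IsWeighting f w) (X' : X.Opens) :
    MoreMor.IsWeighting (X'.ι ≫ f) (fun x => w (X'.ι x)) := by
  intro V g _ U hU
  let j : pullback (X'.ι ≫ f) g ⟶ pullback f g :=
    pullback.map _ _ _ _ X'.ι (𝟙 V) (𝟙 Y) (by simp) (by simp)
  have hj1 : j ≫ pullback.fst f g = pullback.fst (X'.ι ≫ f) g ≫ X'.ι := pullback.lift_fst _ _ _
  have hj2 : j ≫ pullback.snd f g = pullback.snd (X'.ι ≫ f) g := (pullback.lift_snd _ _ _).trans (Category.comp_id _)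
  have hU' : IsFinite ((j ''ᵁ U).ι ≫ pullback.snd f g) := by
    rw [← MorphismProperty.cancel_left_of_respectsIso @IsFinite (j.isoImage U).hom, ← Category.assoc,
      Scheme.Hom.isoImage_hom_ι, Category.assoc, hj2]
    exact hU
  have hlc := hw V g (j ''ᵁ U) hU'
  convert hlc using 1
  funext p
  obtain ⟨Ω, _, _, v, rfl⟩ := exists_geomPt p
  rw [fibreIntegral_eq_L (j ''ᵁ U) w v]
  refine (fibreIntegral_eq_L U (fun x => w (X'.ι x)) v).trans ?_
  refine finsum_mem_eq_of_bijOn (fun x => x ≫ X'.ι) ⟨?_, ?_, ?_⟩ fun x _ => rfl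
  · intro x hx
    obtain ⟨hcomp, hp⟩ := mem_L_iff.1 hx
    refine mem_L_iff.2 ⟨by rw [Category.assoc]; exact hcomp, ⟨pt (pullback.lift x v hcomp), hp, ?_⟩⟩
    show j (pt (pullback.lift x v hcomp)) = _
    rw [← pt_comp]
    congr 1
    apply pullback.hom_ext
    · rw [Category.assoc, hj1, pullback.lift_fst_assoc, pullback.lift_fst]
    · rw [Category.assoc, hj2, pullback.lift_snd, pullback.lift_snd]
  · intro x _ y _ hxy
    exact (cancel_mono X'.ι).1 hxy
  · intro x hx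
    obtain ⟨hcomp, q, hq, hqp⟩ := mem_L_iff.1 hx
    have hr : Set.range x ⊆ Set.range X'.ι := by
      rw [range_eq_pt, Set.singleton_subset_iff]
      refine ⟨pullback.fst (X'.ι ≫ f) g q, ?_⟩
      rw [← Scheme.Hom.comp_apply, ← hj1, Scheme.Hom.comp_apply]
      show pullback.fst f g (j q) = pt x
      rw [show j q = pt (pullback.lift x v hcomp) from hqp, ← pt_comp, pullback.lift_fst]
    refine ⟨IsOpenImmersion.lift X'.ι x hr, mem_L_iff.2 ⟨?_, ?_⟩, IsOpenImmersion.lift_fac _ _ _⟩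
    · rw [IsOpenImmersion.lift_fac_assoc]; exact hcomp
    · convert hq using 0
      rw [iff_iff_eq]
      congr 1
      apply j.isOpenEmbedding.injective
      rw [show j q = pt (pullback.lift x v hcomp) from hqp, ← pt_comp]
      congr 1
      apply pullback.hom_ext
      · rw [Category.assoc, hj1, pullback.lift_fst_assoc, IsOpenImmersion.lift_fac, pullback.lift_fst]
      · rw [Category.assoc, hj2, pullback.lift_snd, pullback.lift_snd]

/-- Étale-locally, a geometric point of `X` sits in a finite piece with no other geometric point of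
its fibre and with constant fibre integral. -/
theorem exists_chart_const {f : X ⟶ Y} [LocallyOfFiniteType f] [LocallyQuasiFinite f] {w : X → ℤ}
    (hw : MoreMor.IsWeighting f w) {Ω : Type u} [Field Ω] [IsAlgClosed Ω] (x : Spec (CommRingCat.of Ω) ⟶ X) :
    ∃ (V : Scheme.{u}) (g : V ⟶ Y) (_ : Etale g) (v : Spec (CommRingCat.of Ω) ⟶ V)
      (W : (pullback f g).Opens) (N : V.Opens), v ≫ g = x ≫ f ∧ IsFinite (W.ι ≫ pullback.snd f g) ∧
      L W v = {x} ∧ pt v ∈ N ∧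
      ∀ (Ω' : Type u) [Field Ω'] [IsAlgClosed Ω'] (v' : Spec (CommRingCat.of Ω') ⟶ V), pt v' ∈ N →
        ∑ᶠ y ∈ L W v', w (pt y) = w (pt x) := by
  obtain ⟨V, g, hg, v, W, hv, hWfin, hWL⟩ := exists_chart f x
  haveI := hWfin
  obtain ⟨N, hN, hNe⟩ := exists_nhd_wsum_eq hw W v
  exact ⟨V, g, hg, v, W, N, hv, hWfin, hWL, hN, fun Ω' _ _ v' h' => by rw [hNe Ω' v' h', hWL, finsum_mem_singleton]⟩

end Groth.Agent.Weighting
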