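import Groth.Agent.Weighting.Semicont

/-!
Products of weightings are weightings of a composition.
-/

set_option autoImplicit false
set_option linter.style.haveILetI false
universe u

open AlgebraicGeometry CategoryTheory Limits

namespace Groth.Agent.Weighting

variable {X Y Z V : Scheme.{u}}

/-- It suffices to test a weighting on finite pieces with a single geometric point over the given one. -/
theorem isWeighting_of_single {f : X ⟶ Y} [LocallyOfFiniteType f] [LocallyQuasiFinite f] {w : X → ℤ}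
    (H : ∀ (V : Scheme.{u}) (g : V ⟶ Y) [Etale g] (W : (pullback f g).Opens) [IsFinite (W.ι ≫ pullback.snd f g)]
      (Ω : Type u) [Field Ω] [IsAlgClosed Ω] (v : Spec (CommRingCat.of Ω) ⟶ V) (x : Spec (CommRingCat.of Ω) ⟶ X),
      L W v = {x} → ∃ N : V.Opens, pt v ∈ N ∧ ∀ (Ω' : Type u) [Field Ω'] [IsAlgClosed Ω']
        (v' : Spec (CommRingCat.of Ω') ⟶ V), pt v' ∈ N → ∑ᶠ y ∈ L W v', w (pt y) = w (pt x)) :
    MoreMor.IsWeighting f w := by
  classical
  intro V g _ U hU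
  rw [IsLocallyConstant.iff_exists_open]
  intro v₀
  obtain ⟨Ω, _, _, v, rfl⟩ := exists_geomPt v₀
  have hfin : (L U v).Finite := finite_L U v
  obtain ⟨V', h, hh, v', hv', V'', g'', hg'', b, hbg, W, N, hN, hW, hdec⟩ := exists_decomp U v hfin
  have hloc : ∀ x : L U v, ∃ M : V''.Opens, pt (v' ≫ b) ∈ M ∧
      ∀ (Ω' : Type u) [Field Ω'] [IsAlgClosed Ω'] (v₁ : Spec (CommRingCat.of Ω') ⟶ V''),
        pt v₁ ∈ M → ∑ᶠ y ∈ L (W x.1) v₁, w (pt y) = w (pt x.1) := by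
    intro x
    haveI := (hW x.1 x.2).1
    exact H V'' g'' (W x.1) Ω (v' ≫ b) x.1 (hW x.1 x.2).2
  choose M hM hMe using hloc
  haveI : Finite (L U v) := hfin.to_subtype
  haveI := locallyQuasiFinite_of_etale h
  let N' : V'.Opens := ⟨(N : Set V') ∩ ⋂ x, b ⁻¹' (M x : Set V''),
    N.isOpen.inter (isOpen_iInter_of_finite fun x => (M x).isOpen.preimage b.continuous)⟩
  refine ⟨h '' (N' : Set V'), isOpen_image_etale h N',
    ⟨pt v', ⟨hN, Set.mem_iInter.2 fun x => hM x⟩, by rw [← pt_comp, hv']⟩, ?_⟩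
  rintro _ ⟨p, hp, rfl⟩
  obtain ⟨Ω', _, _, v₁, rfl⟩ := exists_geomPt p
  rw [← pt_comp, fibreIntegral_eq_L U w (v₁ ≫ h), fibreIntegral_eq_L U w v]
  obtain ⟨hsub, hdj, hcov⟩ := hdec Ω' v₁ hp.1
  have heq : L U (v₁ ≫ h) = ⋃ x ∈ L U v, L (W x) (v₁ ≫ b) :=
    (hcov inferInstance).antisymm (Set.iUnion₂_subset hsub)
  rw [heq, finsum_mem_biUnion hdj hfin fun x hx => by haveI := (hW x hx).1; exact finite_L _ _]
  refine finsum_mem_congr rfl fun x hx => hMe ⟨x, hx⟩ Ω' _ ?_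
  exact Set.mem_iInter.1 hp.2 ⟨x, hx⟩

variable (f : X ⟶ Y) (g : Y ⟶ Z) (gV : V ⟶ Z)

/-- The map of base changes induced by `f`. -/
noncomputable def compMap : pullback (f ≫ g) gV ⟶ pullback g gV :=
  pullback.lift (pullback.fst _ _ ≫ f) (pullback.snd _ _) (by rw [Category.assoc]; exact pullback.condition)

theorem isPullback_compMap : IsPullback (pullback.fst (f ≫ g) gV) (compMap f g gV) f (pullback.fst g gV) :=
  IsPullback.of_bot (by rw [compMap, pullback.lift_snd]; exact IsPullback.of_hasPullback (f ≫ g) gV)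
    (pullback.lift_fst _ _ _).symm (IsPullback.of_hasPullback g gV)

@[reassoc (attr := simp)]
theorem compMap_fst : compMap f g gV ≫ pullback.fst g gV = pullback.fst (f ≫ g) gV ≫ f := pullback.lift_fst _ _ _

@[reassoc (attr := simp)]
theorem compMap_snd : compMap f g gV ≫ pullback.snd g gV = pullback.snd (f ≫ g) gV := pullback.lift_snd _ _ _

variable {f g gV}

/-- The finite piece `W`, lying over the finite piece `Wy`: the product weighting is constant near `v`. -/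
theorem exists_nhd_comp_of_le [LocallyOfFiniteType f] [LocallyQuasiFinite f] [LocallyQuasiFinite g]
    {wf : X → ℤ} {wg : Y → ℤ} (hf : MoreMor.IsWeighting f wf) (hg : MoreMor.IsWeighting g wg) [Etale gV]
    (W : (pullback (f ≫ g) gV).Opens) [IsFinite (W.ι ≫ pullback.snd (f ≫ g) gV)]
    (Wy : (pullback g gV).Opens) [IsFinite (Wy.ι ≫ pullback.snd g gV)] (hle : W ≤ compMap f g gV ⁻¹ᵁ Wy)
    {Ω : Type u} [Field Ω] [IsAlgClosed Ω] (v : Spec (CommRingCat.of Ω) ⟶ V) (x : Spec (CommRingCat.of Ω) ⟶ X)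
    (hW : L W v = {x}) (hWy : L Wy v = {x ≫ f}) :
    ∃ N : V.Opens, pt v ∈ N ∧ ∀ (Ω' : Type u) [Field Ω'] [IsAlgClosed Ω'] (v' : Spec (CommRingCat.of Ω') ⟶ V),
      pt v' ∈ N → ∑ᶠ y ∈ L W v', wf (pt y) * wg (f (pt y)) = wf (pt x) * wg (f (pt x)) := by
  classical
  let β : Wy.toScheme ⟶ Y := Wy.ι ≫ pullback.fst g gV
  let πy : Wy.toScheme ⟶ V := Wy.ι ≫ pullback.snd g gV
  let ψ : pullback f β ⟶ pullback (f ≫ g) gV :=
    pullback.lift (pullback.fst f β) (pullback.snd f β ≫ πy) (by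
      rw [pullback.condition_assoc]; simp [β, πy, pullback.condition])
  have hψ : IsPullback ψ (pullback.snd f β) (compMap f g gV) Wy.ι := by
    refine IsPullback.of_right (by rw [pullback.lift_fst]; exact IsPullback.of_hasPullback f β) ?_
      (isPullback_compMap f g gV)
    apply pullback.hom_ext
    · rw [Category.assoc, compMap_fst, ← Category.assoc, pullback.lift_fst]
      simp only [Category.assoc]; exact pullback.condition
    · rw [Category.assoc, compMap_snd, pullback.lift_snd]; simp [πy]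
  haveI : IsOpenImmersion ψ := MorphismProperty.of_isPullback (P := @IsOpenImmersion) hψ.flip inferInstance
  let W' : (pullback f β).Opens := ψ ⁻¹ᵁ W
  haveI : Surjective (ψ ∣_ W) := ⟨fun p => by
    have hp : compMap f g gV p.1 ∈ Set.range Wy.ι := by rw [Scheme.Opens.range_ι]; exact hle p.2
    obtain ⟨q, hq⟩ := hp
    obtain ⟨r, hr, -⟩ := Scheme.exists_preimage_of_isPullback hψ p.1 q hq.symm
    refine ⟨⟨r, by show ψ r ∈ W; rw [hr]; exact p.2⟩, Subtype.ext ?_⟩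
    exact (morphismRestrict_base_coe ψ W _).trans hr⟩
  haveI : IsIso (ψ ∣_ W) := (isIso_iff_isOpenImmersion_and_surjective _).mpr ⟨inferInstance, inferInstance⟩
  haveI : IsFinite (W'.ι ≫ pullback.snd f β) := by
    have e : (W'.ι ≫ pullback.snd f β) ≫ πy = (ψ ∣_ W) ≫ W.ι ≫ pullback.snd (f ≫ g) gV := by
      rw [morphismRestrict_ι_assoc, Category.assoc, pullback.lift_snd]
    haveI : IsFinite ((W'.ι ≫ pullback.snd f β) ≫ πy) := by rw [e]; infer_instance
    exact MorphismProperty.of_postcomp (W := @IsFinite) (W' := @IsSeparated) _ πy inferInstance inferInstance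
  have hmem : ∀ (Ω' : Type u) [Field Ω'] (v' : Spec (CommRingCat.of Ω') ⟶ V) (l : Spec (CommRingCat.of Ω') ⟶ Wy.toScheme),
      l ≫ πy = v' → ∀ x', x' ∈ L W' l ↔ x' ∈ L W v' ∧ x' ≫ f = l ≫ β := by
    intro Ω' _ v' l hl x'
    have key : ∀ (e : x' ≫ f = l ≫ β) (e' : x' ≫ f ≫ g = v' ≫ gV),
        ψ (pt (pullback.lift x' l e)) = pt (pullback.lift x' v' e') := fun e e' => by
      rw [← pt_comp]
      congr 1
      apply pullback.hom_ext
      · rw [Category.assoc, pullback.lift_fst, pullback.lift_fst, pullback.lift_fst]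
      · rw [Category.assoc, pullback.lift_snd, pullback.lift_snd_assoc, pullback.lift_snd, hl]
    rw [mem_L_iff, mem_L_iff]
    constructor
    · rintro ⟨e, hp⟩
      have e' : x' ≫ f ≫ g = v' ≫ gV := by
        rw [reassoc_of% e, ← hl]; simp [β, πy, pullback.condition]
      exact ⟨⟨e', key e e' ▸ hp⟩, e⟩
    · rintro ⟨⟨e', hp⟩, e⟩
      exact ⟨e, show ψ _ ∈ W from (key e e').symm ▸ hp⟩
  obtain ⟨l₀, hl₀, hl₀β⟩ : x ≫ f ∈ L Wy v := hWy ▸ rfl
  have hl₀L : L W' l₀ = {x} := by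
    ext x'
    rw [hmem Ω v l₀ hl₀, hW, Set.mem_singleton_iff]
    exact ⟨And.left, fun e => ⟨e, by rw [e]; exact hl₀β.symm⟩⟩
  let J := MoreMor.fibreIntegral (W'.ι ≫ pullback.snd f β) (fun u => wf (pullback.fst f β (W'.ι u)))
  have hJ : IsLocallyConstant J := isLocallyConstant_fibreIntegral hf β W'
  have hJ₀ : J (pt l₀) = wf (pt x) := by
    rw [show J (pt l₀) = _ from fibreIntegral_eq_L W' wf l₀, hl₀L, finsum_mem_singleton]
  let C := πy '' {q | J q ≠ wf (pt x)}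
  have hC : IsClosed C := πy.isClosedMap _ (hJ.isClopen_fiber (wf (pt x))).compl.isClosed
  have hvC : pt v ∉ C := by
    rintro ⟨q, hq, hqv⟩
    obtain ⟨l, hl, rfl⟩ := exists_mem_fib_at πy v q hqv
    have : l ≫ β ∈ L Wy v := ⟨l, hl, rfl⟩
    rw [hWy, Set.mem_singleton_iff] at this
    exact hq (by rw [injOn_L Wy v hl hl₀ (this.trans hl₀β.symm)]; exact hJ₀)
  obtain ⟨N, hN, hNe⟩ := exists_nhd_wsum_eq hg Wy v
  refine ⟨N ⊓ ⟨Cᶜ, hC.isOpen_compl⟩, ⟨hN, hvC⟩, fun Ω' _ _ v' hv' => ?_⟩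
  have hfy : (Fib πy v').Finite := finite_fib _ _ (Scheme.Hom.finite_preimage_singleton _ _)
  have heq : L W v' = ⋃ l ∈ Fib πy v', L W' l := by
    ext x'
    simp only [Set.mem_iUnion₂]
    refine ⟨fun hx' => ?_, fun ⟨l, hl, hx'⟩ => ((hmem Ω' v' l hl x').1 hx').1⟩
    obtain ⟨e, hp⟩ := mem_L_iff.1 hx'
    have e2 : (x' ≫ f) ≫ g = v' ≫ gV := by rw [Category.assoc]; exact e
    have : x' ≫ f ∈ L Wy v' := by
      refine mem_L_iff.2 ⟨e2, ?_⟩
      have h2 : compMap f g gV (pt (pullback.lift x' v' e)) ∈ Wy := hle hp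
      rw [← pt_comp] at h2
      convert h2 using 2
      apply pullback.hom_ext
      · rw [pullback.lift_fst, Category.assoc, compMap_fst, ← Category.assoc, pullback.lift_fst]
      · rw [pullback.lift_snd, Category.assoc, compMap_snd, pullback.lift_snd]
    obtain ⟨l, hl, hlβ⟩ := this
    exact ⟨l, hl, (hmem Ω' v' l hl x').2 ⟨hx', hlβ.symm⟩⟩
  have hdj : (Fib πy v').PairwiseDisjoint fun l => L W' l := by
    intro a ha b hb hab
    refine Set.disjoint_left.2 fun x' h1 h2 => hab (injOn_L Wy v' ha hb ?_)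
    exact ((hmem Ω' v' a ha x').1 h1).2.symm.trans ((hmem Ω' v' b hb x').1 h2).2
  rw [heq, finsum_mem_biUnion hdj hfy fun l _ => finite_L W' l]
  have hinner : ∀ l ∈ Fib πy v', ∑ᶠ y ∈ L W' l, wf (pt y) * wg (f (pt y)) = wf (pt x) * wg (pt (l ≫ β)) := by
    intro l hl
    have hJl : J (pt l) = wf (pt x) := by
      by_contra hne
      exact hv'.2 ⟨pt l, hne, by rw [← pt_comp]; exact congrArg pt hl⟩
    rw [← hJl, show J (pt l) = _ from fibreIntegral_eq_L W' wf l, finsum_mem_mul]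
    exact finsum_mem_congr rfl fun y hy => by rw [← pt_comp, comp_eq_of_mem_L hy]
  rw [finsum_mem_congr rfl hinner, ← mul_finsum_mem, ← pt_comp x f]
  congr 1
  have := hNe Ω' v' hv'.1
  rw [hWy, finsum_mem_singleton, L, finsum_mem_image (injOn_L Wy v')] at this
  exact this

/-- The product weighting is constant near `v` on a finite piece with a single geometric point. -/
theorem exists_nhd_comp [LocallyOfFiniteType f] [LocallyQuasiFinite f] [LocallyOfFiniteType g] [LocallyQuasiFinite g]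
    {wf : X → ℤ} {wg : Y → ℤ} (hf : MoreMor.IsWeighting f wf) (hg : MoreMor.IsWeighting g wg) [Etale gV]
    (W : (pullback (f ≫ g) gV).Opens) [IsFinite (W.ι ≫ pullback.snd (f ≫ g) gV)]
    {Ω : Type u} [Field Ω] [IsAlgClosed Ω] (v : Spec (CommRingCat.of Ω) ⟶ V) (x : Spec (CommRingCat.of Ω) ⟶ X)
    (hW : L W v = {x}) :
    ∃ N : V.Opens, pt v ∈ N ∧ ∀ (Ω' : Type u) [Field Ω'] [IsAlgClosed Ω'] (v' : Spec (CommRingCat.of Ω') ⟶ V),
      pt v' ∈ N → ∑ᶠ y ∈ L W v', wf (pt y) * wg (f (pt y)) = wf (pt x) * wg (f (pt x)) := by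
  classical
  obtain ⟨V₁, g₁, hg₁, v₁, Wy, hv₁, hWyfin, hWy⟩ := exists_chart g (x ≫ f)
  have hxW : x ∈ L W v := hW ▸ rfl
  have hvv : v ≫ gV = v₁ ≫ g₁ := by rw [hv₁, Category.assoc]; exact (comp_eq_of_mem_L hxW).symm
  haveI := hg₁
  haveI : Etale (pullback.fst gV g₁) := MorphismProperty.pullback_fst _ _ hg₁
  let a := pullback.fst gV g₁
  let v₂ := pullback.lift v v₁ hvv
  let W₂ : (pullback (f ≫ g) (a ≫ gV)).Opens := bc a rfl W
  let Wy₂ : (pullback g (a ≫ gV)).Opens := bc (pullback.snd gV g₁) pullback.condition.symm Wy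
  haveI : IsFinite (W₂.ι ≫ pullback.snd (f ≫ g) (a ≫ gV)) := isFinite_bc _ _ ‹_›
  haveI : IsFinite (Wy₂.ι ≫ pullback.snd g (a ≫ gV)) := isFinite_bc _ _ hWyfin
  have hW₂ : L W₂ v₂ = {x} := by rw [L_bc, pullback.lift_fst, hW]
  have hWy₂ : L Wy₂ v₂ = {x ≫ f} := by rw [L_bc, pullback.lift_snd, hWy]
  let π := W₂.ι ≫ pullback.snd (f ≫ g) (a ≫ gV)
  let C := π '' (W₂.ι ⁻¹' (compMap f g (a ≫ gV) ⁻¹' (Wy₂ : Set ↥(pullback g (a ≫ gV))))ᶜ)
  have hC : IsClosed C := π.isClosedMap _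
    (((Wy₂.isOpen.preimage (compMap f g (a ≫ gV)).continuous).isClosed_compl).preimage W₂.ι.continuous)
  have hvC : pt v₂ ∉ C := by
    rintro ⟨⟨p, hp⟩, hp', hpv⟩
    obtain ⟨x', hx', h, hxp⟩ := exists_mem_L_of_mem W₂ v₂ p hp hpv
    rw [hW₂, Set.mem_singleton_iff] at hx'
    subst hx'
    have : x' ≫ f ∈ L Wy₂ v₂ := hWy₂ ▸ rfl
    obtain ⟨h', hp''⟩ := mem_L_iff.1 this
    apply hp'
    show compMap f g (a ≫ gV) p ∈ Wy₂
    rw [← hxp, ← pt_comp]
    convert hp'' using 2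
    apply pullback.hom_ext
    · rw [pullback.lift_fst, Category.assoc, compMap_fst, ← Category.assoc, pullback.lift_fst]
    · rw [pullback.lift_snd, Category.assoc, compMap_snd, pullback.lift_snd]
  let N₁ : (pullback gV g₁).Opens := ⟨Cᶜ, hC.isOpen_compl⟩
  let W₃ : (pullback (f ≫ g) (N₁.ι ≫ a ≫ gV)).Opens := bc N₁.ι rfl W₂
  let Wy₃ : (pullback g (N₁.ι ≫ a ≫ gV)).Opens := bc N₁.ι rfl Wy₂
  haveI : IsFinite (W₃.ι ≫ pullback.snd (f ≫ g) (N₁.ι ≫ a ≫ gV)) := isFinite_bc _ _ ‹_›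
  haveI : IsFinite (Wy₃.ι ≫ pullback.snd g (N₁.ι ≫ a ≫ gV)) := isFinite_bc _ _ ‹_›
  have hle : W₃ ≤ compMap f g (N₁.ι ≫ a ≫ gV) ⁻¹ᵁ Wy₃ := by
    intro p hp
    show bcMap N₁.ι rfl (compMap f g (N₁.ι ≫ a ≫ gV) p) ∈ Wy₂
    have e : compMap f g (N₁.ι ≫ a ≫ gV) ≫ bcMap N₁.ι rfl = bcMap N₁.ι rfl ≫ compMap f g (a ≫ gV) := by
      apply pullback.hom_ext
      · rw [Category.assoc, bcMap_fst, compMap_fst, Category.assoc, compMap_fst, reassoc_of% (bcMap_fst (f := f ≫ g) N₁.ι (rfl : N₁.ι ≫ a ≫ gV = _))]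
      · rw [Category.assoc, bcMap_snd, Category.assoc, compMap_snd, bcMap_snd, compMap_snd_assoc]
    rw [← Scheme.Hom.comp_apply, e, Scheme.Hom.comp_apply]
    by_contra hne
    have h2 : pullback.snd (f ≫ g) (a ≫ gV) (bcMap N₁.ι rfl p) ∈ C := ⟨⟨bcMap N₁.ι rfl p, hp⟩, hne, rfl⟩
    rw [← Scheme.Hom.comp_apply, bcMap_snd, Scheme.Hom.comp_apply] at h2
    exact (pullback.snd (f ≫ g) (N₁.ι ≫ a ≫ gV) p).2 h2
  let v₃ : Spec (CommRingCat.of Ω) ⟶ N₁.toScheme := IsOpenImmersion.lift N₁.ι v₂ (by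
    rw [range_eq_pt, Scheme.Opens.range_ι, Set.singleton_subset_iff]; exact hvC)
  have hv₃ : v₃ ≫ N₁.ι = v₂ := IsOpenImmersion.lift_fac _ _ _
  obtain ⟨N, hN, hNe⟩ := exists_nhd_comp_of_le hf hg W₃ Wy₃ hle v₃ x
    (by rw [L_bc, hv₃, hW₂]) (by rw [L_bc, hv₃, hWy₂])
  haveI := locallyQuasiFinite_of_etale (N₁.ι ≫ a)
  refine ⟨⟨(N₁.ι ≫ a) '' (N : Set N₁.toScheme), isOpen_image_etale _ N⟩,
    ⟨pt v₃, hN, by rw [← pt_comp, ← Category.assoc, hv₃, pullback.lift_fst]⟩, fun Ω' _ _ v' hv' => ?_⟩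
  obtain ⟨p, hp, hpv⟩ := hv'
  obtain ⟨l, hl, rfl⟩ := exists_mem_fib_at (N₁.ι ≫ a) v' p hpv
  have hl' : l ≫ N₁.ι ≫ a = v' := hl
  have := hNe Ω' l hp
  rw [L_bc, L_bc, Category.assoc, hl'] at this
  exact this

theorem isWeighting_comp [LocallyOfFiniteType f] [LocallyQuasiFinite f] [LocallyOfFiniteType g] [LocallyQuasiFinite g]
    {wf : X → ℤ} {wg : Y → ℤ} (hf : MoreMor.IsWeighting f wf) (hg : MoreMor.IsWeighting g wg) :
    MoreMor.IsWeighting (f ≫ g) (fun x => wf x * wg (f x)) :=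
  isWeighting_of_single fun _ _ _ W _ _ _ _ v x hW => exists_nhd_comp hf hg W v x hW

end Groth.Agent.Weighting
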