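import Groth.Agent.Weighting.Semicont
import Mathlib.Topology.Spectral.ConstructibleTopology
import Mathlib.AlgebraicGeometry.Morphisms.FinitePresentation

/-!
The level sets of a weighting are locally constructible.
-/

set_option autoImplicit false
set_option linter.style.haveILetI false
universe u

open AlgebraicGeometry CategoryTheory Limits Topology

namespace Groth.Agent.Weighting

variable {X Y : Scheme.{u}}

section Spectral

variable {T : Type*} [TopologicalSpace T] [CompactSpace T] [QuasiSeparatedSpace T]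

theorem isOpen_constructible_of_isConstructible {s : Set T} (hs : IsConstructible s) :
    IsOpen[constructibleTopology T] s ∧ IsOpen[constructibleTopology T] sᶜ := by
  induction hs using IsConstructible.empty_union_induction with
  | open_retrocompact U hU hUc =>
    exact ⟨hUc.isCompact.isOpen_constructibleTopology_of_isOpen hU,
      (show IsCompact Uᶜᶜ by rw [compl_compl]; exact hUc.isCompact).isOpen_constructibleTopology_of_isClosed hU.isClosed_compl⟩
  | union s _ t _ hs ht =>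
    letI := constructibleTopology T
    exact ⟨hs.1.union ht.1, by rw [Set.compl_union]; exact hs.2.inter ht.2⟩
  | compl s _ hs => exact ⟨hs.2, by rw [compl_compl]; exact hs.1⟩

/-- A cover by constructible sets has a finite subcover, of any set closed in the constructible topology. -/
theorem exists_finite_constructible_cover [QuasiSober T] [PrespectralSpace T] {S : Set T}
    (hS : IsOpen[constructibleTopology T] Sᶜ) (C : S → Set T) (hC : ∀ x, IsConstructible (C x))
    (hmem : ∀ x, (x : T) ∈ C x) : ∃ t : Finset S, S ⊆ ⋃ x ∈ t, C x := by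
  have hclosed : IsClosed (WithTopology.ofTopology (t := constructibleTopology T) ⁻¹' S) := by
    rw [WithConstructibleTopology.isClosed_iff]
    letI := constructibleTopology T
    exact ⟨hS⟩
  obtain ⟨t, ht⟩ := hclosed.isCompact.elim_finite_subcover
    (fun x => WithTopology.ofTopology (t := constructibleTopology T) ⁻¹' C x)
    (fun x => by rw [WithConstructibleTopology.isOpen_iff]; exact (isOpen_constructible_of_isConstructible (hC x)).1)
    (fun y hy => Set.mem_iUnion.2 ⟨⟨_, hy⟩, hmem ⟨_, hy⟩⟩)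
  refine ⟨t, fun y hy => ?_⟩
  obtain ⟨x, hx, hxy⟩ := Set.mem_iUnion₂.1 (ht (show WithTopology.toTopology _ y ∈ _ from hy))
  exact Set.mem_iUnion₂.2 ⟨x, hx, hxy⟩

theorem isConstructible_level [QuasiSober T] [PrespectralSpace T] (w : T → ℤ)
    (h : ∀ x, ∃ C, IsConstructible C ∧ x ∈ C ∧ ∀ y ∈ C, w y = w x) (n : ℤ) :
    IsConstructible {x | w x = n} := by
  classical
  choose C hC hmem hw using h
  obtain ⟨t, ht⟩ := exists_finite_constructible_cover (S := (Set.univ : Set T))
    (by rw [Set.compl_univ]; letI := constructibleTopology T; exact isOpen_empty) (fun x => C x.1) (fun x => hC _) (fun x => hmem _)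
  have : {x | w x = n} = ⋃ x ∈ {x ∈ (t : Set (Set.univ : Set T)) | w x.1 = n}, C x.1 := by
    ext y
    simp only [Set.mem_setOf_eq, Set.mem_iUnion₂]
    constructor
    · intro hy
      obtain ⟨x, hx, hxy⟩ := Set.mem_iUnion₂.1 (ht (Set.mem_univ y))
      exact ⟨x, ⟨hx, (hw _ _ hxy).symm.trans hy⟩, hxy⟩
    · rintro ⟨x, ⟨_, hx⟩, hxy⟩
      exact (hw _ _ hxy).trans hx
  rw [this]
  exact IsConstructible.biUnion (t.finite_toSet.subset fun x hx => hx.1) fun x _ => hC _

end Spectral

/-- A point outside the image of a compact open set has a constructible neighbourhood missing the image. -/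
theorem exists_constructible_disjoint {P A : Scheme.{u}} [IsAffine P] [IsAffine A] (φ : P ⟶ A)
    (S : P.Opens) (hS : IsCompact (S : Set P)) (v : A) (hv : ∀ z ∈ S, φ z ≠ v) :
    ∃ C : Set A, IsConstructible C ∧ v ∈ C ∧ ∀ z ∈ S, φ z ∉ C := by
  classical
  have sep : ∀ z : (S : Set P), ∃ C : Set A, IsConstructible C ∧ v ∈ C ∧ φ z ∉ C := by
    intro z
    obtain ⟨U, hU, hxor⟩ := exists_isOpen_xor'_mem (hv z z.2)
    rcases hxor with ⟨h1, h2⟩ | ⟨h1, h2⟩
    · obtain ⟨B, ⟨hBo, hBc⟩, hzB, hBU⟩ := PrespectralSpace.isTopologicalBasis.exists_subset_of_mem_open h1 hU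
      exact ⟨Bᶜ, (hBc.isConstructible hBo).compl, fun hh => h2 (hBU hh), not_not.2 hzB⟩
    · obtain ⟨B, ⟨hBo, hBc⟩, hvB, hBU⟩ := PrespectralSpace.isTopologicalBasis.exists_subset_of_mem_open h1 hU
      exact ⟨B, hBc.isConstructible hBo, hvB, fun hh => h2 (hBU hh)⟩
  choose C hC hvC hzC using sep
  obtain ⟨t, ht⟩ := exists_finite_constructible_cover (S := (S : Set P))
    (isOpen_constructible_of_isConstructible (hS.isConstructible S.isOpen)).2
    (fun z => φ ⁻¹' (C z)ᶜ) (fun z => Scheme.Hom.isConstructible_preimage φ (hC z).compl) hzC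
  refine ⟨⋂ z ∈ (t : Set (S : Set P)), C z, IsConstructible.biInter t.finite_toSet fun z _ => hC z,
    Set.mem_iInter₂.2 fun z _ => hvC z, fun z hz hzI => ?_⟩
  obtain ⟨x, hx, hxz⟩ := Set.mem_iUnion₂.1 (ht hz)
  exact hxz (Set.mem_iInter₂.1 hzI x hx)

theorem pt_mem_basicOpen {Z : Scheme.{u}} {Ω : Type u} [Field Ω] (l : Spec (CommRingCat.of Ω) ⟶ Z) (s : Γ(Z, ⊤))
    (hs : l.appTop s ≠ 0) : pt l ∈ Z.basicOpen s := by
  show IsLocalRing.closedPoint Ω ∈ l ⁻¹ᵁ Z.basicOpen s
  rw [Scheme.preimage_basicOpen_top, Scheme.basicOpen_of_isUnit _ ?_]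
  · trivial
  have h : ((Scheme.ΓSpecIso (CommRingCat.of Ω)).hom (l.appTop s) : Ω) ≠ 0 := fun h0 =>
    hs ((Scheme.ΓSpecIso (CommRingCat.of Ω)).commRingCatIsoToRingEquiv.map_eq_zero_iff.1 h0)
  exact (isUnit_map_iff (Scheme.ΓSpecIso (CommRingCat.of Ω)).commRingCatIsoToRingEquiv _).1 (IsUnit.mk0 _ h)

/-- For a finite morphism to an affine scheme, a point with a single geometric point above it has a
constructible neighbourhood of such points. -/
theorem exists_constructible_subsingleton_fib {Z A : Scheme.{u}} [IsAffine A] (π : Z ⟶ A) [IsFinite π]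
    {Ω : Type u} [Field Ω] [IsAlgClosed Ω] (v : Spec (CommRingCat.of Ω) ⟶ A) (hsub : (Fib π v).Subsingleton) :
    ∃ C : Set A, IsConstructible C ∧ pt v ∈ C ∧ ∀ (Ω' : Type u) [Field Ω'] (v' : Spec (CommRingCat.of Ω') ⟶ A),
      pt v' ∈ C → (Fib π v').Subsingleton := by
  classical
  haveI : IsAffine Z := isAffine_of_isAffineHom π
  have hfin : π.appTop.hom.Finite := ((HasAffineProperty.iff_of_isAffine (P := @IsFinite)).1 ‹IsFinite π›).2
  algebraize [π.appTop.hom]
  obtain ⟨s, hs⟩ := (inferInstance : Module.Finite Γ(A, ⊤) Γ(Z, ⊤)).fg_top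
  let p₁ := pullback.fst π π
  let p₂ := pullback.snd π π
  let D : Γ(Z, ⊤) → (pullback π π).Opens := fun b => (pullback π π).basicOpen (p₁.appTop b - p₂.appTop b)
  let S : (pullback π π).Opens := ⨆ b ∈ s, D b
  have hScpt : IsCompact (S : Set ↥(pullback π π)) := by
    simp only [S, TopologicalSpace.Opens.coe_iSup]
    exact s.finite_toSet.isCompact_biUnion fun b _ => ((isAffineOpen_top _).basicOpen _).isCompact
  have hne : ∀ (Ω' : Type u) [Field Ω'] (v' : Spec (CommRingCat.of Ω') ⟶ A) (l l' : Spec (CommRingCat.of Ω') ⟶ Z)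
      (h : l ≫ π = v') (h' : l' ≫ π = v'), pt (pullback.lift l l' (h.trans h'.symm)) ∉ S → l = l' := by
    intro Ω' _ v' l l' h h' hS
    apply ext_of_isAffine
    ext b
    have hb : b ∈ Submodule.span Γ(A, ⊤) (s : Set Γ(Z, ⊤)) := hs ▸ Submodule.mem_top
    induction hb using Submodule.span_induction with
    | mem b hb =>
      by_contra hcon
      apply hS
      refine TopologicalSpace.Opens.mem_iSup.2 ⟨b, TopologicalSpace.Opens.mem_iSup.2 ⟨hb, pt_mem_basicOpen _ _ ?_⟩⟩
      rw [map_sub, sub_ne_zero, ← CommRingCat.comp_apply, ← CommRingCat.comp_apply, ← Scheme.Hom.comp_appTop,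
        ← Scheme.Hom.comp_appTop, pullback.lift_fst, pullback.lift_snd]
      exact hcon
    | zero => simp
    | add x y _ _ hx hy => rw [map_add, map_add, hx, hy]
    | smul a x _ hx =>
      rw [Algebra.smul_def, map_mul, map_mul, hx]
      congr 1
      show l.appTop (π.appTop a) = l'.appTop (π.appTop a)
      rw [← CommRingCat.comp_apply, ← CommRingCat.comp_apply, ← Scheme.Hom.comp_appTop, ← Scheme.Hom.comp_appTop, h, h']
  have hv : ∀ z ∈ S, (p₁ ≫ π) z ≠ pt v := by
    intro z hz hzv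
    haveI : LocallyQuasiFinite (p₁ ≫ π) := inferInstance
    obtain ⟨m, hm, rfl⟩ := exists_mem_fib_at (p₁ ≫ π) v z hzv
    have h1 : (m ≫ p₁) ≫ π = v := (Category.assoc _ _ _).trans hm
    have h2 : (m ≫ p₂) ≫ π = v := by rw [Category.assoc, ← pullback.condition, ← Category.assoc]; exact h1
    have he : m ≫ p₁ = m ≫ p₂ := hsub h1 h2
    obtain ⟨b, hb⟩ := TopologicalSpace.Opens.mem_iSup.1 hz
    obtain ⟨-, hb⟩ := TopologicalSpace.Opens.mem_iSup.1 hb
    have hb' : IsLocalRing.closedPoint Ω ∈ m ⁻¹ᵁ D b := hb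
    rw [Scheme.preimage_basicOpen_top, map_sub, ← CommRingCat.comp_apply, ← CommRingCat.comp_apply,
      ← Scheme.Hom.comp_appTop, ← Scheme.Hom.comp_appTop, he, sub_self, Scheme.basicOpen_zero] at hb'
    exact hb'
  obtain ⟨C, hC, hvC, hCS⟩ := exists_constructible_disjoint (p₁ ≫ π) S hScpt (pt v) hv
  refine ⟨C, hC, hvC, fun Ω' _ v' hv' l hl l' hl' => hne Ω' v' l l' hl hl' fun hS => hCS _ hS ?_⟩
  rw [← pt_comp, pullback.lift_fst_assoc]
  exact (congrArg pt hl).symm ▸ hv'

/-- Every point of an affine source has a constructible neighbourhood where the weighting is constant. -/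
theorem exists_constructible_const [IsAffine X] {f : X ⟶ Y} [LocallyOfFiniteType f] [LocallyQuasiFinite f]
    {w : X → ℤ} (hw : MoreMor.IsWeighting f w) (x₀ : X) :
    ∃ C : Set X, IsConstructible C ∧ x₀ ∈ C ∧ ∀ y ∈ C, w y = w x₀ := by
  classical
  obtain ⟨Ω, _, _, x, rfl⟩ := exists_geomPt x₀
  obtain ⟨V, g, hg, v, W, N, hv, hWfin, hWL, hN, hNe⟩ := exists_chart_const hw x
  obtain ⟨SA, hSA, hvA, hAN⟩ := V.isBasis_affineOpens.exists_subset_of_mem_open hN N.isOpen
  obtain ⟨A, hA, rfl⟩ : ∃ U : V.Opens, IsAffineOpen U ∧ (U : Set V) = SA := hSA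
  haveI : IsAffine A.toScheme := hA
  let WA : (pullback f (A.ι ≫ g)).Opens := bc A.ι rfl W
  let π := WA.ι ≫ pullback.snd f (A.ι ≫ g)
  haveI : IsFinite π := isFinite_bc _ _ hWfin
  haveI : IsAffine WA.toScheme := isAffine_of_isAffineHom π
  let r := WA.ι ≫ pullback.fst f (A.ι ≫ g)
  haveI : Etale (pullback.fst f (A.ι ≫ g)) := MorphismProperty.pullback_fst _ _ inferInstance
  haveI : Etale r := inferInstance
  let v₀ : Spec (CommRingCat.of Ω) ⟶ A.toScheme := IsOpenImmersion.lift A.ι v (by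
    rw [range_eq_pt, Scheme.Opens.range_ι, Set.singleton_subset_iff]; exact hvA)
  have hv₀ : v₀ ≫ A.ι = v := IsOpenImmersion.lift_fac _ _ _
  have hWA : L WA v₀ = {x} := by rw [L_bc, hv₀, hWL]
  have hsub : (Fib π v₀).Subsingleton := fun a ha b hb => injOn_L WA v₀ ha hb <| by
    have h1 : a ≫ r ∈ L WA v₀ := ⟨a, ha, rfl⟩
    have h2 : b ≫ r ∈ L WA v₀ := ⟨b, hb, rfl⟩
    rw [hWA, Set.mem_singleton_iff] at h1 h2
    exact h1.trans h2.symm
  obtain ⟨C, hC, hvC, hCsub⟩ := exists_constructible_subsingleton_fib π v₀ hsub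
  refine ⟨r '' (π ⁻¹' C), r.isConstructible_image (Scheme.Hom.isConstructible_preimage π hC), ?_, ?_⟩
  · obtain ⟨l, hl, hlx⟩ : x ∈ L WA v₀ := hWA ▸ rfl
    refine ⟨pt l, ?_, by rw [← pt_comp]; exact congrArg pt hlx⟩
    show π (pt l) ∈ C
    rw [← pt_comp]; exact (congrArg pt hl).symm ▸ hvC
  · rintro _ ⟨z, hz, rfl⟩
    obtain ⟨Ω', _, _, l, rfl⟩ := exists_geomPt z
    have hN' : pt ((l ≫ π) ≫ A.ι) ∈ N := by rw [pt_comp]; exact hAN (pt (l ≫ π)).2
    have hsum := hNe Ω' ((l ≫ π) ≫ A.ι) hN'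
    rw [← L_bc A.ι rfl W] at hsum
    have hz' : pt (l ≫ π) ∈ C := by rw [pt_comp]; exact hz
    have hLs : L WA (l ≫ π) = {l ≫ r} := by
      refine Set.eq_singleton_iff_unique_mem.2 ⟨⟨l, rfl, rfl⟩, ?_⟩
      rintro _ ⟨l', hl', rfl⟩
      rw [hCsub Ω' (l ≫ π) hz' hl' rfl]
    rw [hLs, finsum_mem_singleton, pt_comp] at hsum
    exact hsum

theorem isLocallyConstructible_level {f : X ⟶ Y} [LocallyOfFiniteType f] [LocallyQuasiFinite f]
    {w : X → ℤ} (hw : MoreMor.IsWeighting f w) (n : ℤ) : IsLocallyConstructible {x : X | w x = n} := by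
  intro x
  obtain ⟨SU, hSU, hxU, -⟩ := X.isBasis_affineOpens.exists_subset_of_mem_open (Set.mem_univ x) isOpen_univ
  obtain ⟨U, hU, rfl⟩ : ∃ V : X.Opens, IsAffineOpen V ∧ (V : Set X) = SU := hSU
  haveI : IsAffine U.toScheme := hU
  refine ⟨U, U.isOpen.mem_nhds hxU, U.isOpen, ?_⟩
  exact isConstructible_level (fun y : U.toScheme => w (U.ι y))
    (exists_constructible_const (isWeighting_restrict hw U)) n

end Groth.Agent.Weighting
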