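import Groth.Agent.Weighting.LevelSets
import Mathlib

/-!
Fibre integrals of a weighting on a quasi-compact source are bounded and attain their maximum.
-/

set_option autoImplicit false
set_option linter.style.haveILetI false
universe u

open AlgebraicGeometry CategoryTheory Limits

namespace Groth.Agent.Weighting

variable {X Y : Scheme.{u}}

/-- A locally quasi-finite morphism is locally an open piece of a finite morphism of affines. -/
theorem exists_finite_chart (f : X ⟶ Y) [LocallyQuasiFinite f] [LocallyOfFiniteType f] (x : X) :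
    ∃ (A B : CommRingCat.{u}) (φ : A ⟶ B) (v : Spec A ⟶ Y) (W : Scheme.{u}) (ι : W ⟶ X) (j : W ⟶ Spec B),
      φ.hom.Finite ∧ IsOpenImmersion v ∧ IsOpenImmersion ι ∧ IsOpenImmersion j ∧
        ι ≫ f = j ≫ Spec.map φ ≫ v ∧ x ∈ Set.range ι := by
  obtain ⟨_, ⟨V : Y.Opens, hV, rfl⟩, hxV, -⟩ := Y.isBasis_affineOpens.exists_subset_of_mem_open
    (Set.mem_univ (f x)) isOpen_univ
  obtain ⟨_, ⟨U : X.Opens, hU, rfl⟩, hxU, hUV⟩ := X.isBasis_affineOpens.exists_subset_of_mem_open
    hxV (f ⁻¹ᵁ V).2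
  let ψ := f.appLE V U hUV
  have hft : ψ.hom.FiniteType := HasRingHomProperty.appLE (P := @LocallyOfFiniteType) f inferInstance ⟨V, hV⟩ ⟨U, hU⟩ hUV
  have hqf : ψ.hom.QuasiFinite := HasRingHomProperty.appLE (P := @LocallyQuasiFinite) f inferInstance ⟨V, hV⟩ ⟨U, hU⟩ hUV
  algebraize [ψ.hom]
  obtain ⟨p, hp⟩ : ∃ p, hU.fromSpec p = x := by
    have : x ∈ Set.range hU.fromSpec := by rw [hU.range_fromSpec]; exact hxU
    exact this
  obtain ⟨S', hfg, r, hr, hbij⟩ :=
    Algebra.QuasiFiniteAt.exists_fg_and_exists_notMem_and_awayMap_bijective (R := Γ(Y, V)) p.asIdeal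
  let e := (RingEquiv.ofBijective _ hbij).toCommRingCatIso
  refine ⟨Γ(Y, V), CommRingCat.of S', CommRingCat.ofHom (algebraMap Γ(Y, V) S'), hV.fromSpec,
    Spec (CommRingCat.of (Localization.Away r.1)),
    Spec.map (CommRingCat.ofHom (algebraMap Γ(X, U) (Localization.Away r.1))) ≫ hU.fromSpec,
    Spec.map e.hom ≫ Spec.map (CommRingCat.ofHom (algebraMap S' (Localization.Away r))), ?_, inferInstance, ?_, ?_, ?_, ?_⟩
  · exact RingHom.finite_algebraMap.2 (Module.Finite.iff_fg.2 hfg)
  · haveI : IsOpenImmersion (Spec.map (CommRingCat.ofHom (algebraMap Γ(X, U) (Localization.Away r.1)))) :=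
      IsOpenImmersion.of_isLocalization r.1
    infer_instance
  · haveI : IsOpenImmersion (Spec.map (CommRingCat.ofHom (algebraMap S' (Localization.Away r)))) :=
      IsOpenImmersion.of_isLocalization r
    infer_instance
  · rw [Category.assoc, ← IsAffineOpen.SpecMap_appLE_fromSpec f hV hU hUV]
    simp only [← Category.assoc, ← Spec.map_comp]
    congr 2
    ext a
    change algebraMap Γ(X, U) (Localization.Away r.1) (S'.val (algebraMap Γ(Y, V) S' a)) =
      Localization.awayMap S'.val.toRingHom r (algebraMap S' (Localization.Away r) (algebraMap Γ(Y, V) S' a))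
    simp only [Localization.awayMap, IsLocalization.Away.map, IsLocalization.map_eq]
    rfl
  · obtain ⟨q, hq⟩ := (PrimeSpectrum.localization_away_comap_range (Localization.Away r.1) r.1).ge (show p ∈ PrimeSpectrum.basicOpen r.1 from hr)
    exact ⟨q, by rw [← hp, ← hq]; rfl⟩

theorem algHom_finite_and_ncard_le (A B K : Type u) [CommRing A] [CommRing B] [Field K] [Algebra A B] [Algebra A K]
    (s : Finset B) (hs : Submodule.span A (s : Set B) = ⊤) (S : Set (B →ₐ[A] K)) : S.Finite ∧ S.ncard ≤ s.card := by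
  have hli : LinearIndependent K fun σ : B →ₐ[A] K => fun b : (s : Set B) => σ b.1 := by
    have h := linearIndependent_monoidHom B K
    have hinj : Function.Injective fun σ : B →ₐ[A] K => (σ : B →* K) := fun a b e =>
      AlgHom.ext fun z => DFunLike.congr_fun e z
    have h2 := h.comp _ hinj
    rw [linearIndependent_iff'] at h2 ⊢
    intro t c hc i hi
    refine h2 t c ?_ i hi
    funext b
    simp only [Finset.sum_apply, Pi.smul_apply, Function.comp_apply, Pi.zero_apply, smul_eq_mul]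
    have hb : b ∈ Submodule.span A (s : Set B) := hs ▸ Submodule.mem_top
    induction hb using Submodule.span_induction with
    | mem b hb => simpa using congrFun hc ⟨b, hb⟩
    | zero => exact Finset.sum_eq_zero fun σ _ => by simp
    | add x y _ _ hx hy =>
      rw [Finset.sum_congr rfl fun σ _ => show c σ * (σ : B →* K) (x + y) = c σ * (σ : B →* K) x + c σ * (σ : B →* K) y by
        show c σ * σ (x + y) = c σ * σ x + c σ * σ y
        rw [map_add, mul_add], Finset.sum_add_distrib, hx, hy, add_zero]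
    | smul a x _ hx =>
      rw [Finset.sum_congr rfl fun σ _ => show c σ * (σ : B →* K) (a • x) = algebraMap A K a * (c σ * (σ : B →* K) x) by
        show c σ * σ (a • x) = algebraMap A K a * (c σ * σ x)
        rw [map_smul, Algebra.smul_def]; ring, ← Finset.mul_sum, hx, mul_zero]
  haveI : Finite (B →ₐ[A] K) := hli.finite
  refine ⟨Set.toFinite _, ?_⟩
  haveI := Fintype.ofFinite (B →ₐ[A] K)
  have := hli.fintype_card_le_finrank
  rw [Module.finrank_fintype_fun_eq_card] at this
  calc S.ncard ≤ (Set.univ : Set (B →ₐ[A] K)).ncard := Set.ncard_le_ncard (Set.subset_univ _) (Set.toFinite _)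
    _ ≤ s.card := by rw [Set.ncard_univ, Nat.card_eq_fintype_card]; simpa using this

/-- The geometric fibres of a locally quasi-finite morphism with quasi-compact source are bounded. -/
theorem exists_fib_bound [CompactSpace X] (f : X ⟶ Y) [LocallyQuasiFinite f] [LocallyOfFiniteType f] :
    ∃ d : ℕ, ∀ (Ω : Type u) [Field Ω] (y : Spec (CommRingCat.of Ω) ⟶ Y),
      (Fib f y).Finite ∧ (Fib f y).ncard ≤ d := by
  classical
  choose A B φ v W ι j hφ hv hι hj heq hmem using exists_finite_chart f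
  obtain ⟨t, ht⟩ := isCompact_univ.elim_finite_subcover (fun x : X => Set.range (ι x))
    (fun x => (@Scheme.Hom.isOpenEmbedding _ _ (ι x) (hι x)).isOpen_range) (fun x _ => Set.mem_iUnion.2 ⟨x, hmem x⟩)
  have hgen : ∀ x, ∃ d : ℕ, ∀ (Ω : Type u) [Field Ω] (y : Spec (CommRingCat.of Ω) ⟶ Y),
      (Fib (ι x ≫ f) y).Finite ∧ (Fib (ι x ≫ f) y).ncard ≤ d := by
    intro x
    haveI := hv x; haveI := hj x
    letI := (φ x).hom.toAlgebra
    haveI : Module.Finite (A x) (B x) := hφ x
    obtain ⟨s, hs⟩ := (inferInstance : Module.Finite (A x) (B x)).fg_top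
    refine ⟨s.card, fun Ω _ y => ?_⟩
    rcases (Fib (ι x ≫ f) y).eq_empty_or_nonempty with he | ⟨l₀, hl₀⟩
    · simp [he]
    let ψ₀ := Spec.preimage (l₀ ≫ j x)
    letI : Algebra (A x) Ω := (φ x ≫ ψ₀).hom.toAlgebra
    have hfac : ∀ l ∈ Fib (ι x ≫ f) y, φ x ≫ Spec.preimage (l ≫ j x) = φ x ≫ ψ₀ := by
      intro l hl
      apply Spec.map_injective
      rw [← cancel_mono (v x)]
      simp only [Spec.map_comp, ψ₀, Spec.map_preimage, Category.assoc]
      rw [← heq]; exact Eq.trans hl hl₀.symm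
    let Φ : Fib (ι x ≫ f) y → (B x →ₐ[A x] Ω) := fun l =>
      { toRingHom := (Spec.preimage (l.1 ≫ j x)).hom
        commutes' := fun a => congrArg (fun k => k.hom a) (hfac l.1 l.2) }
    have hΦ : Function.Injective Φ := fun a b e => Subtype.ext <| (cancel_mono (j x)).1 <| by
      rw [← Spec.map_preimage (a.1 ≫ j x), ← Spec.map_preimage (b.1 ≫ j x)]
      exact congrArg Spec.map (CommRingCat.hom_ext (congrArg AlgHom.toRingHom e))
    obtain ⟨hf, hn⟩ := algHom_finite_and_ncard_le (A x) (B x) Ω s hs (Set.range Φ)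
    haveI := hf.to_subtype
    haveI : Finite (Fib (ι x ≫ f) y) := Finite.of_injective (Set.rangeFactorization Φ) fun a b e => hΦ (congrArg Subtype.val e)
    refine ⟨Set.toFinite _, ?_⟩
    rwa [Set.ncard_range_of_injective hΦ, Nat.card_coe_set_eq] at hn
  choose d hd using hgen
  refine ⟨∑ x ∈ t, d x, fun Ω _ y => ?_⟩
  have hsub : Fib f y ⊆ ⋃ x ∈ t, (fun l => l ≫ ι x) '' Fib (ι x ≫ f) y := by
    intro l hl
    obtain ⟨x, hx, hlx⟩ := Set.mem_iUnion₂.1 (ht (Set.mem_univ (pt l)))
    haveI := hι x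
    have hr : Set.range l ⊆ Set.range (ι x) := by rw [range_eq_pt, Set.singleton_subset_iff]; exact hlx
    refine Set.mem_iUnion₂.2 ⟨x, hx, IsOpenImmersion.lift (ι x) l hr, ?_, IsOpenImmersion.lift_fac _ _ _⟩
    show IsOpenImmersion.lift (ι x) l hr ≫ ι x ≫ f = y
    rw [IsOpenImmersion.lift_fac_assoc]; exact hl
  have hfin := t.finite_toSet.biUnion fun x _ => ((hd x Ω y).1.image fun l => l ≫ ι x)
  refine ⟨hfin.subset hsub, (Set.ncard_le_ncard hsub hfin).trans ((Finset.set_ncard_biUnion_le _ _).trans ?_)⟩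
  exact Finset.sum_le_sum fun x _ => (Set.ncard_image_le (hd x Ω y).1).trans (hd x Ω y).2

/-- A weighting on a quasi-compact scheme takes finitely many values. -/
theorem finite_range_weighting [CompactSpace X] {f : X ⟶ Y} [LocallyQuasiFinite f] [LocallyOfFiniteType f]
    {w : X → ℤ} (hw : MoreMor.IsWeighting f w) : (Set.range w).Finite := by
  classical
  obtain ⟨t, ht⟩ := isCompact_univ.elim_finite_subcover (fun U : X.affineOpens => (U.1 : Set X))
    (fun U => U.1.isOpen) (fun x _ => by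
      obtain ⟨SU, ⟨U, hU, rfl⟩, hxU, -⟩ := X.isBasis_affineOpens.exists_subset_of_mem_open (Set.mem_univ x) isOpen_univ
      exact Set.mem_iUnion.2 ⟨⟨U, hU⟩, hxU⟩)
  have hU : ∀ U : X.affineOpens, (w '' (U.1 : Set X)).Finite := by
    intro U
    haveI : IsAffine U.1.toScheme := U.2
    have h := exists_constructible_const (isWeighting_restrict hw U.1)
    choose C hC hmem hwC using h
    obtain ⟨s, hs⟩ := exists_finite_constructible_cover (S := (Set.univ : Set U.1.toScheme))
      (by rw [Set.compl_univ]; letI := constructibleTopology U.1.toScheme; exact isOpen_empty) (fun x => C x.1) (fun x => hC _) (fun x => hmem _)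
    refine (s.finite_toSet.image fun x => w (U.1.ι x.1)).subset ?_
    rintro _ ⟨y, hy, rfl⟩
    obtain ⟨x, hx, hxy⟩ := Set.mem_iUnion₂.1 (hs (Set.mem_univ (⟨y, hy⟩ : U.1.toScheme)))
    exact ⟨x, hx, (hwC _ _ hxy).symm⟩
  refine (t.finite_toSet.biUnion fun U _ => hU U).subset ?_
  rintro _ ⟨x, rfl⟩
  obtain ⟨U, hUt, hx⟩ := Set.mem_iUnion₂.1 (ht (Set.mem_univ x))
  exact Set.mem_iUnion₂.2 ⟨U, hUt, x, hx, rfl⟩

theorem exists_max_fibreIntegral [CompactSpace X] {f : X ⟶ Y} [LocallyQuasiFinite f] [LocallyOfFiniteType f]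
    {w : X → ℤ} (hw : MoreMor.IsWeighting f w) [Nonempty Y] :
    ∃ y₀ : Y, ∀ y : Y, MoreMor.fibreIntegral f w y ≤ MoreMor.fibreIntegral f w y₀ := by
  classical
  obtain ⟨d, hd⟩ := exists_fib_bound f
  obtain ⟨M, hM⟩ := ((finite_range_weighting hw).image fun z : ℤ => |z|).bddAbove
  have hb : ∀ y : Y, MoreMor.fibreIntegral f w y ≤ d * max M 0 := by
    intro y
    obtain ⟨Ω, _, _, v, rfl⟩ := exists_geomPt y
    obtain ⟨hfin, hn⟩ := hd Ω v
    have hpre : (f ⁻¹' {pt v}).Finite := (hfin.image pt).subset fun x hx => by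
      obtain ⟨l, hl, hlx⟩ := exists_mem_fib_at f v x hx
      exact ⟨l, hl, hlx⟩
    rw [fibreIntegral_eq f w v hpre, finsum_mem_eq_finite_toFinset_sum _ hfin]
    refine (Finset.sum_le_card_nsmul _ _ (max M 0) fun l _ =>
      (le_abs_self _).trans ((hM ⟨_, ⟨_, rfl⟩, rfl⟩).trans (le_max_left _ _))).trans ?_
    rw [nsmul_eq_mul, ← Set.ncard_eq_toFinset_card _ hfin]
    exact mul_le_mul_of_nonneg_right (by exact_mod_cast hn) (le_max_right _ _)
  obtain ⟨m, ⟨y₀, hy₀⟩, hm⟩ := Int.exists_greatest_of_bdd (P := fun z => ∃ y : Y, MoreMor.fibreIntegral f w y = z)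
    ⟨d * max M 0, fun z ⟨y, hy⟩ => hy ▸ hb y⟩ ⟨_, Classical.arbitrary Y, rfl⟩
  exact ⟨y₀, fun y => hy₀.symm ▸ hm _ ⟨y, rfl⟩⟩

end Groth.Agent.Weighting
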