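import Groth.Agent.Weighting.Semicont
import Mathlib.AlgebraicGeometry.Morphisms.FlatDescent
import Mathlib.AlgebraicGeometry.ZariskisMainTheorem

/-!
Over the open locus where the fibre integral of a positive weighting is maximal the morphism is finite.
-/

set_option autoImplicit false
set_option linter.style.haveILetI false
universe u

open AlgebraicGeometry CategoryTheory Limits

namespace Groth.Agent.Weighting

variable {X Y : Scheme.{u}}

theorem isOpen_maxLocus {f : X ⟶ Y} [LocallyOfFiniteType f] [LocallyQuasiFinite f]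
    [IsSeparated f] (hfin : ∀ y : Y, (f ⁻¹' {y}).Finite) {w : X → ℤ}
    (hw : MoreMor.IsWeighting f w) (hpos : ∀ x, 0 < w x) (d : ℤ)
    (hmax : ∀ y : Y, MoreMor.fibreIntegral f w y ≤ d) :
    IsOpen {y : Y | MoreMor.fibreIntegral f w y = d} := by
  have e : {y : Y | MoreMor.fibreIntegral f w y = d} = MoreMor.fibreIntegral f w ⁻¹' Set.Ioi (d - 1) := by
    ext y; have := hmax y; simp only [Set.mem_setOf_eq, Set.mem_preimage, Set.mem_Ioi]; omega
  rw [e]; exact (lowerSemicontinuous_fibreIntegral hfin hw hpos).isOpen_preimage _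

set_option maxHeartbeats 400000 in
theorem isFinite_restrict_maxLocus {f : X ⟶ Y} [LocallyOfFiniteType f] [LocallyQuasiFinite f]
    [IsSeparated f] (hfin : ∀ y : Y, (f ⁻¹' {y}).Finite) {w : X → ℤ}
    (hw : MoreMor.IsWeighting f w) (hpos : ∀ x, 0 < w x) (d : ℤ) (Yd : Y.Opens)
    (hYd : ∀ y ∈ Yd, MoreMor.fibreIntegral f w y = d) : IsFinite (f ∣_ Yd) := by
  classical
  haveI : UniversallyClosed (f ∣_ Yd) := by
    suffices h : ∀ y ∈ Yd, ∃ D : Y.Opens, y ∈ D ∧ D ≤ Yd ∧ UniversallyClosed (f ∣_ D) by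
      choose D hD hDle hUC using fun y : ↥Yd => h y.1 y.2
      have e : ⨆ y, (Yd.ι ⁻¹ᵁ D y) = ⊤ := top_le_iff.1 fun y _ => TopologicalSpace.Opens.mem_iSup.2 ⟨y, hD y⟩
      rw [IsZariskiLocalAtTarget.iff_of_iSup_eq_top (P := @UniversallyClosed) (fun y => Yd.ι ⁻¹ᵁ D y) e]
      intro y
      rw [MorphismProperty.arrow_mk_iso_iff @UniversallyClosed (morphismRestrictRestrict f Yd (Yd.ι ⁻¹ᵁ D y))]
      have e' : Yd.ι ''ᵁ (Yd.ι ⁻¹ᵁ D y) = D y := by
        rw [Scheme.Hom.image_preimage_eq_opensRange_inf, Scheme.Opens.opensRange_ι, inf_eq_right]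
        exact hDle y
      rw [MorphismProperty.arrow_mk_iso_iff @UniversallyClosed (morphismRestrictEq f e')]
      exact hUC y
    intro y hy
    obtain ⟨Ω, _, _, v, rfl⟩ := exists_geomPt y
    have hU : (L (⊤ : (pullback f (𝟙 Y)).Opens) v).Finite := L_top_id f v ▸ finite_fib f v (hfin _)
    obtain ⟨V', h, hh, v', hv', V'', g'', hg'', b, hbg, W, N, hN, hW, hdec⟩ :=
      exists_decomp (⊤ : (pullback f (𝟙 Y)).Opens) v hU
    haveI := locallyQuasiFinite_of_etale h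
    have hloc : ∀ x : L (⊤ : (pullback f (𝟙 Y)).Opens) v, ∃ M : V''.Opens, pt (v' ≫ b) ∈ M ∧
        ∀ (Ω' : Type u) [Field Ω'] [IsAlgClosed Ω'] (v₁ : Spec (CommRingCat.of Ω') ⟶ V''),
          pt v₁ ∈ M → ∑ᶠ y ∈ L (W x.1) v₁, w (pt y) = w (pt x.1) := by
      intro x
      haveI := (hW x.1 x.2).1
      obtain ⟨M, hM, hMe⟩ := exists_nhd_wsum_eq hw (W x.1) (v' ≫ b)
      exact ⟨M, hM, fun Ω' _ _ v₁ h₁ => by rw [hMe Ω' v₁ h₁, (hW x.1 x.2).2, finsum_mem_singleton]⟩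
    choose M hM hMe using hloc
    haveI : Finite (L (⊤ : (pullback f (𝟙 Y)).Opens) v) := hU.to_subtype
    obtain ⟨SA, hSA, hyA, hAYd⟩ := Y.isBasis_affineOpens.exists_subset_of_mem_open hy Yd.isOpen
    obtain ⟨Ay, hAy, rfl⟩ : ∃ U : Y.Opens, IsAffineOpen U ∧ (U : Set Y) = SA := hSA
    let N' : V'.Opens := ⟨(N : Set V') ∩ (⋂ x, b ⁻¹' (M x : Set V'')) ∩ h ⁻¹' (Ay : Set Y),
      (N.isOpen.inter (isOpen_iInter_of_finite fun x => (M x).isOpen.preimage b.continuous)).inter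
        (Ay.isOpen.preimage h.continuous)⟩
    have hv'N : pt v' ∈ N' := ⟨⟨hN, Set.mem_iInter.2 fun x => hM x⟩, by
      show h (pt v') ∈ Ay
      rw [← pt_comp, hv']; exact hyA⟩
    obtain ⟨SA', hSA', hvA', hA'N⟩ := V'.isBasis_affineOpens.exists_subset_of_mem_open hv'N N'.isOpen
    obtain ⟨A', hA', rfl⟩ : ∃ U : V'.Opens, IsAffineOpen U ∧ (U : Set V') = SA' := hSA'
    let D : Y.Opens := ⟨h '' (A' : Set V'), isOpen_image_etale h A'⟩
    have hDA : D ≤ Ay := by rintro _ ⟨p, hp, rfl⟩; exact (hA'N hp).2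
    have hA'D : A' ≤ h ⁻¹ᵁ D := fun p hp => ⟨p, hp, rfl⟩
    refine ⟨D, ⟨pt v', hvA', by rw [← pt_comp, hv']⟩, hDA.trans hAYd, ?_⟩
    let q : A'.toScheme ⟶ D.toScheme := h.resLE D A' hA'D
    haveI : Surjective q := ⟨fun z => by
      obtain ⟨p, hp, hpz⟩ := z.2
      refine ⟨⟨p, hp⟩, Subtype.ext ?_⟩
      show D.ι (q ⟨p, hp⟩) = _
      rw [← Scheme.Hom.comp_apply, Scheme.Hom.resLE_comp_ι, Scheme.Hom.comp_apply]; exact hpz⟩
    haveI : IsAffine A'.toScheme := hA'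
    haveI : QuasiSeparatedSpace D.toScheme := by
      haveI : IsAffine Ay.toScheme := hAy
      exact quasiSeparatedSpace_of_quasiSeparated (Y.homOfLE hDA)
    haveI : QuasiCompact q := quasiCompact_of_compactSpace q
    haveI : Etale q := inferInstance
    let t : A'.toScheme ⟶ Y := q ≫ D.ι
    have ht : A'.ι ≫ h = t := (Scheme.Hom.resLE_comp_ι _ _).symm
    have hD := isPullback_morphismRestrict f D
    let r := hD.lift (pullback.snd f t ≫ q) (pullback.fst f t) (by rw [Category.assoc]; exact pullback.condition.symm)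
    have hsq : IsPullback (pullback.snd f t) r q (f ∣_ D) :=
      IsPullback.of_bot (by
        rw [hD.lift_snd]; exact (IsPullback.of_hasPullback f t).flip) (hD.lift_fst _ _ _).symm hD
    refine MorphismProperty.of_isPullback_of_descendsAlong (P := (@UniversallyClosed : MorphismProperty Scheme.{u}))
      (Q := (@Surjective : MorphismProperty Scheme.{u}) ⊓ @Flat ⊓ @QuasiCompact) hsq
      ⟨⟨inferInstance, inferInstance⟩, inferInstance⟩ ?_
    have hbt : (A'.ι ≫ b) ≫ g'' = t := by rw [Category.assoc, hbg, Category.comp_id, ht]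
    refine universallyClosed_of_finite_cover (pullback.snd f t)
      (fun x : L (⊤ : (pullback f (𝟙 Y)).Opens) v => bc (A'.ι ≫ b) hbt (W x.1))
      (fun x => isFinite_bc _ _ (hW x.1 x.2).1) fun p => ?_
    obtain ⟨Ω', _, _, l, rfl⟩ := exists_geomPt p
    let x₁ := l ≫ pullback.fst f t
    let v₁ := l ≫ pullback.snd f t ≫ A'.ι
    have hv₁ : pt v₁ ∈ N' := by
      have : pt v₁ = A'.ι (pt (l ≫ pullback.snd f t)) := by rw [← pt_comp]; simp [v₁]
      rw [this]; exact hA'N (pt (l ≫ pullback.snd f t)).2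
    have hx₁ : x₁ ∈ Fib f (v₁ ≫ h) := by
      show x₁ ≫ f = v₁ ≫ h
      simp only [x₁, v₁, Category.assoc, ht]; rw [pullback.condition]
    obtain ⟨hsub, hdj, -⟩ := hdec Ω' v₁ hv₁.1.1
    have hfin₁ : (L (⊤ : (pullback f (𝟙 Y)).Opens) (v₁ ≫ h)).Finite :=
      L_top_id f (v₁ ≫ h) ▸ finite_fib f (v₁ ≫ h) (hfin _)
    have hWf : ∀ x ∈ L (⊤ : (pullback f (𝟙 Y)).Opens) v, (L (W x) (v₁ ≫ b)).Finite := fun x hx => by
      haveI := (hW x hx).1; exact finite_L _ _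
    have hs : ⋃ x ∈ L (⊤ : (pullback f (𝟙 Y)).Opens) v, L (W x) (v₁ ≫ b) ⊆ L ⊤ (v₁ ≫ h) :=
      Set.iUnion₂_subset hsub
    have hsum : ∑ᶠ y ∈ ⋃ x ∈ L (⊤ : (pullback f (𝟙 Y)).Opens) v, L (W x) (v₁ ≫ b), w (pt y) =
        ∑ᶠ y ∈ L (⊤ : (pullback f (𝟙 Y)).Opens) (v₁ ≫ h), w (pt y) := by
      rw [finsum_mem_biUnion hdj hU hWf,
        finsum_mem_congr (g := fun x => w (pt x)) rfl fun x hx => hMe ⟨x, hx⟩ Ω' (v₁ ≫ b) (by rw [pt_comp]; exact Set.mem_iInter.1 hv₁.1.2 ⟨x, hx⟩),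
        L_top_id, L_top_id, ← fibreIntegral_eq f w v (hfin _), ← fibreIntegral_eq f w _ (hfin _),
        hYd _ hy, hYd]
      · exact hAYd (by show pt (v₁ ≫ h) ∈ Ay; rw [pt_comp]; exact hv₁.2)
    have hx₂ : x₁ ∈ ⋃ x ∈ L (⊤ : (pullback f (𝟙 Y)).Opens) v, L (W x) (v₁ ≫ b) := by
      by_contra hcon
      have hlt := Finset.sum_lt_sum_of_subset (f := fun y => w (pt y))
        (Set.Finite.toFinset_subset_toFinset.2 hs : (hU.biUnion hWf).toFinset ⊆ hfin₁.toFinset)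
        (hfin₁.mem_toFinset.2 (by rw [L_top_id]; exact hx₁)) (fun hh => hcon ((hU.biUnion hWf).mem_toFinset.1 hh))
        (hpos _) (fun y _ _ => (hpos _).le)
      rw [← finsum_mem_eq_finite_toFinset_sum _ (hU.biUnion hWf), ← finsum_mem_eq_finite_toFinset_sum _ hfin₁,
        hsum] at hlt
      exact lt_irrefl _ hlt
    obtain ⟨x, hx, hxW⟩ := Set.mem_iUnion₂.1 hx₂
    refine ⟨⟨x, hx⟩, ?_⟩
    have hl : x₁ ∈ L (bc (A'.ι ≫ b) hbt (W x)) (l ≫ pullback.snd f t) := by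
      rw [L_bc]; simpa only [v₁, Category.assoc] using hxW
    obtain ⟨e, he⟩ := mem_L_iff.1 hl
    rwa [show pullback.lift x₁ (l ≫ pullback.snd f t) e = l from pullback.hom_ext (pullback.lift_fst _ _ _) (pullback.lift_snd _ _ _)] at he
  haveI : IsProper (f ∣_ Yd) := ⟨⟩
  exact IsFinite.of_isProper_of_locallyQuasiFinite _

end Groth.Agent.Weighting
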