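import Groth.Agent.AbsApprox.Chevalley
import Mathlib.AlgebraicGeometry.AffineTransitionLimit
import Mathlib.FieldTheory.IsAlgClosed.AlgebraicClosure

/-!
A quasi-compact open of an affine scheme is affine once its preimage in every absolutely integrally closed
domain is.
-/

set_option autoImplicit false
set_option linter.style.haveILetI false
set_option backward.isDefEq.respectTransparency false
universe u

open AlgebraicGeometry CategoryTheory Limits

namespace Groth.Agent.Weighting

variable {A : Type u} [CommRing A]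

/-- The preimage of an open of `Spec A` in a closed subscheme. -/
noncomputable def closedPreimage (U : (Spec (CommRingCat.of A)).Opens) (I : Ideal A) : (Spec (CommRingCat.of (A ⧸ I))).Opens :=
  Spec.map (CommRingCat.ofHom (Ideal.Quotient.mk I)) ⁻¹ᵁ U

/-- The quotients by a monotone family of ideals, as a cofiltered diagram. -/
noncomputable def quotDiagram {ι : Type u} [Preorder ι] (J : ι → Ideal A) (hJ : Monotone J) : ι ⥤ CommRingCat.{u} where
  obj i := CommRingCat.of (A ⧸ J i)
  map {i j} h := CommRingCat.ofHom (Ideal.Quotient.factor (hJ h.le))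
  map_id i := by
    ext x
    rfl
  map_comp f g := by
    ext x
    rfl

/-- Its colimit is the quotient by the union. -/
noncomputable def quotCocone {ι : Type u} [Preorder ι] (J : ι → Ideal A) (hJ : Monotone J) : Cocone (quotDiagram J hJ) where
  pt := CommRingCat.of (A ⧸ ⨆ i, J i)
  ι :=
    { app := fun i => CommRingCat.ofHom (Ideal.Quotient.factor (le_iSup J i))
      naturality := fun i j h => by
        refine CommRingCat.hom_ext (RingHom.ext fun x => ?_)
        obtain ⟨a, rfl⟩ := Ideal.Quotient.mk_surjective (x : A ⧸ J i)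
        rfl }

/-- The colimit property. -/
noncomputable def isColimitQuotCocone {ι : Type u} [Preorder ι] [IsDirectedOrder ι] [Nonempty ι] (J : ι → Ideal A)
    (hJ : Monotone J) : IsColimit (quotCocone J hJ) := by
  have key : ∀ (s : Cocone (quotDiagram J hJ)) (i j : ι) (a : A),
      (s.ι.app i).hom (Ideal.Quotient.mk (J i) a) = (s.ι.app j).hom (Ideal.Quotient.mk (J j) a) := by
    intro s i j a
    obtain ⟨k, hik, hjk⟩ := exists_ge_ge i j
    rw [← s.w (homOfLE hik), ← s.w (homOfLE hjk)]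
    rfl
  let i₀ : ι := Classical.arbitrary ι
  refine
    { desc := fun s => CommRingCat.ofHom (Ideal.Quotient.lift (⨆ i, J i)
        ((s.ι.app i₀).hom.comp (Ideal.Quotient.mk (J i₀))) fun a ha => ?_)
      fac := fun s i => ?_
      uniq := fun s m hm => ?_ }
  · obtain ⟨i, hi⟩ := (Submodule.mem_iSup_of_directed J hJ.directed_le).1 ha
    show (s.ι.app i₀).hom (Ideal.Quotient.mk (J i₀) a) = 0
    rw [key s i₀ i a, Ideal.Quotient.eq_zero_iff_mem.2 hi]
    exact map_zero _
  · ext a
    obtain ⟨a, rfl⟩ := Ideal.Quotient.mk_surjective a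
    exact key s i₀ i a
  · ext a
    obtain ⟨a, rfl⟩ := Ideal.Quotient.mk_surjective a
    exact congrArg (fun g => g.hom (Ideal.Quotient.mk (J i₀) a)) (hm i₀)

/-- An affine preimage in the closed subscheme of a directed union of ideals is affine at some stage. -/
theorem exists_isAffineOpen_closedPreimage {ι : Type u} [Preorder ι] [IsDirectedOrder ι] [Nonempty ι]
    (J : ι → Ideal A) (hJ : Monotone J) (U : (Spec (CommRingCat.of A)).Opens)
    (hU : IsCompact (U : Set (Spec (CommRingCat.of A)))) (h : IsAffineOpen (closedPreimage U (⨆ i, J i))) :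
    ∃ i, IsAffineOpen (closedPreimage U (J i)) := by
  let D : ιᵒᵖ ⥤ Scheme.{u} := (quotDiagram J hJ).op ⋙ Scheme.Spec
  let c : Cone D := Scheme.Spec.mapCone (quotCocone J hJ).op
  have hc : IsLimit c := isLimitOfPreserves Scheme.Spec (isColimitQuotCocone J hJ).op
  haveI : ∀ i, IsAffine (D.obj i) := fun i => inferInstanceAs (IsAffine (Spec _))
  haveI : ∀ {i j} (f : i ⟶ j), IsAffineHom (D.map f) := fun f => inferInstance
  let o : ιᵒᵖ := Opposite.op (Classical.arbitrary ι)
  let q : ∀ i : ιᵒᵖ, D.obj i ⟶ Spec (CommRingCat.of A) := fun i =>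
    Spec.map (CommRingCat.ofHom (Ideal.Quotient.mk (J i.unop)))
  have hq : ∀ {i j : ιᵒᵖ} (a : i ⟶ j), D.map a ≫ q j = q i := fun a =>
    (Spec.map_comp _ _).symm.trans rfl
  have hqc : c.π.app o ≫ q o = Spec.map (CommRingCat.ofHom (Ideal.Quotient.mk (⨆ i, J i))) :=
    (Spec.map_comp _ _).symm.trans rfl
  let W : (D.obj o).Opens := q o ⁻¹ᵁ U
  have hW : IsCompact (W : Set (D.obj o)) := QuasiCompact.isCompact_preimage (f := q o) _ U.2 hU
  have : ∀ j : Over o, CompactSpace ((opensDiagram D o W).obj j) := fun j =>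
    isCompact_iff_compactSpace.mp (QuasiCompact.isCompact_preimage (f := D.map j.hom) _ W.2 hW)
  have : ∀ j : Over o, QuasiSeparatedSpace ((opensDiagram D o W).obj j) := fun j =>
    (isQuasiSeparated_iff_quasiSeparatedSpace _ (D.map j.hom ⁻¹ᵁ W).2).mp (.of_quasiSeparatedSpace _)
  have : IsAffine (opensCone D c o W).pt := by
    show IsAffineOpen (c.π.app o ⁻¹ᵁ q o ⁻¹ᵁ U)
    rw [← Scheme.Hom.comp_preimage, hqc]
    exact h
  obtain ⟨k, hk⟩ := Scheme.exists_isAffine_of_isLimit (opensDiagram D o W) _ (isLimitOpensCone D c hc o W)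
  refine ⟨k.left.unop, ?_⟩
  have h2 : IsAffineOpen (D.map k.hom ⁻¹ᵁ q o ⁻¹ᵁ U) := hk
  rw [← Scheme.Hom.comp_preimage, hq] at h2
  exact h2

/-- An open is affine if it is so on both parts of a decomposition into closed subschemes. -/
theorem isAffineOpen_closedPreimage_of_mul_le {U : (Spec (CommRingCat.of A)).Opens} {I J₁ J₂ : Ideal A}
    (h₁ : I ≤ J₁) (h₂ : I ≤ J₂) (hmul : J₁ * J₂ ≤ I) (ha₁ : IsAffineOpen (closedPreimage U J₁))
    (ha₂ : IsAffineOpen (closedPreimage U J₂)) : IsAffineOpen (closedPreimage U I) := by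
  let q₁ : Spec (CommRingCat.of (A ⧸ J₁)) ⟶ Spec (CommRingCat.of (A ⧸ I)) :=
    Spec.map (CommRingCat.ofHom (Ideal.Quotient.factor h₁))
  let q₂ : Spec (CommRingCat.of (A ⧸ J₂)) ⟶ Spec (CommRingCat.of (A ⧸ I)) :=
    Spec.map (CommRingCat.ofHom (Ideal.Quotient.factor h₂))
  haveI : IsClosedImmersion q₁ := IsClosedImmersion.spec_of_surjective _ (Ideal.Quotient.factor_surjective h₁)
  haveI : IsClosedImmersion q₂ := IsClosedImmersion.spec_of_surjective _ (Ideal.Quotient.factor_surjective h₂)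
  let W := closedPreimage U I
  let q := coprod.desc q₁ q₂
  haveI : IsAffine (q₁ ⁻¹ᵁ W).toScheme := by
    show IsAffineOpen (q₁ ⁻¹ᵁ Spec.map _ ⁻¹ᵁ U)
    rw [← Scheme.Hom.comp_preimage, ← Spec.map_comp]
    exact ha₁
  haveI : IsAffine (q₂ ⁻¹ᵁ W).toScheme := by
    show IsAffineOpen (q₂ ⁻¹ᵁ Spec.map _ ⁻¹ᵁ U)
    rw [← Scheme.Hom.comp_preimage, ← Spec.map_comp]
    exact ha₂
  let r := coprod.desc (q₁ ∣_ W) (q₂ ∣_ W)
  have hclosed : ∀ {T : Scheme.{u}} (g : T ⟶ W.toScheme) (_ : IsClosedImmersion g), UniversallyClosed g :=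
    fun g _ => inferInstance
  haveI : Surjective r := ⟨fun z => by
    let p : PrimeSpectrum (A ⧸ I) := W.ι z
    rcases (Ideal.IsPrime.mul_le inferInstance).1 (hmul.trans
      (show I ≤ p.asIdeal.comap (Ideal.Quotient.mk I) from fun a ha => by
        rw [Ideal.mem_comap, Ideal.Quotient.eq_zero_iff_mem.2 ha]; exact Ideal.zero_mem _)) with h | h
    · obtain ⟨p', hp'⟩ : W.ι z ∈ Set.range q₁ := by
        show p ∈ Set.range (PrimeSpectrum.comap (Ideal.Quotient.factor h₁))
        rw [range_comap_of_surjective _ _ (Ideal.Quotient.factor_surjective h₁)]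
        intro x hx
        obtain ⟨a, rfl⟩ := Ideal.Quotient.mk_surjective x
        exact h (Ideal.Quotient.eq_zero_iff_mem.1 hx)
      refine ⟨(coprod.inl : (q₁ ⁻¹ᵁ W).toScheme ⟶ _) ⟨p', show q₁ p' ∈ W from hp' ▸ z.2⟩, ?_⟩
      rw [← Scheme.Hom.comp_apply, coprod.inl_desc]
      apply Subtype.ext
      exact (morphismRestrict_base_coe q₁ W _).trans hp'
    · obtain ⟨p', hp'⟩ : W.ι z ∈ Set.range q₂ := by
        show p ∈ Set.range (PrimeSpectrum.comap (Ideal.Quotient.factor h₂))
        rw [range_comap_of_surjective _ _ (Ideal.Quotient.factor_surjective h₂)]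
        intro x hx
        obtain ⟨a, rfl⟩ := Ideal.Quotient.mk_surjective x
        exact h (Ideal.Quotient.eq_zero_iff_mem.1 hx)
      refine ⟨(coprod.inr : (q₂ ⁻¹ᵁ W).toScheme ⟶ _) ⟨p', show q₂ p' ∈ W from hp' ▸ z.2⟩, ?_⟩
      rw [← Scheme.Hom.comp_apply, coprod.inr_desc]
      apply Subtype.ext
      exact (morphismRestrict_base_coe q₂ W _).trans hp'⟩
  haveI : IsFinite r := inferInstance
  haveI : IsAffine W.toScheme := AbsApprox.isAffine_of_universallyClosed r
  exact ‹IsAffine W.toScheme›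

/-- A quasi-compact open of `Spec A` which is affine on every integral closed subscheme is affine. -/
theorem isAffineOpen_of_forall_prime (U : (Spec (CommRingCat.of A)).Opens) (hU : IsCompact (U : Set (Spec (CommRingCat.of A))))
    (h : ∀ p : Ideal A, p.IsPrime → IsAffineOpen (closedPreimage U p)) : IsAffineOpen U := by
  suffices hbot : IsAffineOpen (closedPreimage U ⊥) by
    let e : Spec (CommRingCat.of (A ⧸ (⊥ : Ideal A))) ⟶ Spec (CommRingCat.of A) :=
      Spec.map (CommRingCat.ofHom (Ideal.Quotient.mk ⊥))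
    haveI : IsIso e := by
      have : IsIso (CommRingCat.ofHom (Ideal.Quotient.mk (⊥ : Ideal A))) :=
        (ConcreteCategory.isIso_iff_bijective _).2 ⟨(RingHom.injective_iff_ker_eq_bot _).2 Ideal.mk_ker,
          Ideal.Quotient.mk_surjective⟩
      exact inferInstanceAs (IsIso (Spec.map _))
    have h2 := hbot.image_of_isOpenImmersion e
    rwa [show e ''ᵁ closedPreimage U ⊥ = U from by
      rw [closedPreimage, Scheme.Hom.image_preimage_eq_opensRange_inf, Scheme.Hom.opensRange_of_isIso, top_inf_eq]] at h2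
  by_contra hbot
  obtain ⟨I, -, hI⟩ := zorn_le_nonempty₀ {I : Ideal A | ¬ IsAffineOpen (closedPreimage U I)}
    (fun c hcS hc y hy => by
      haveI : Nonempty c := ⟨⟨y, hy⟩⟩
      haveI : IsDirectedOrder c := ⟨fun a b => by
        rcases hc.total a.2 b.2 with hab | hab
        · exact ⟨b, hab, le_rfl⟩
        · exact ⟨a, le_rfl, hab⟩⟩
      refine ⟨⨆ i : c, (i : Ideal A), fun hsup => ?_, fun z hz => le_iSup_of_le (⟨z, hz⟩ : c) le_rfl⟩
      obtain ⟨i, hi⟩ := exists_isAffineOpen_closedPreimage (fun i : c => (i : Ideal A)) (fun _ _ h => h) U hU hsup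
      exact hcS i.2 hi) ⊥ hbot
  have hne : I ≠ ⊤ := by
    rintro rfl
    haveI : Subsingleton (A ⧸ (⊤ : Ideal A)) := Ideal.Quotient.subsingleton_iff.2 rfl
    haveI : IsEmpty (Spec (CommRingCat.of (A ⧸ (⊤ : Ideal A)))) :=
      inferInstanceAs (IsEmpty (PrimeSpectrum (A ⧸ (⊤ : Ideal A))))
    haveI : IsEmpty (closedPreimage U (⊤ : Ideal A)).toScheme := ⟨fun z => IsEmpty.false z.1⟩
    exact hI.prop (inferInstanceAs (IsAffine _))
  refine hI.prop (h I ⟨hne, fun {a b} hab => or_iff_not_and_not.2 fun ⟨ha, hb⟩ => hI.prop ?_⟩)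
  have hlt : ∀ x, x ∉ I → IsAffineOpen (closedPreimage U (I ⊔ Ideal.span {x})) := fun x hx => by
    by_contra hn
    exact hx (hI.le_of_ge hn le_sup_left (Ideal.mem_sup_right (Ideal.mem_span_singleton_self x)))
  refine isAffineOpen_closedPreimage_of_mul_le le_sup_left le_sup_left ?_ (hlt a ha) (hlt b hb)
  refine Ideal.mul_le.2 fun x hx y hy => ?_
  obtain ⟨i₁, hi₁, _, hx', rfl⟩ := Submodule.mem_sup.1 hx
  obtain ⟨i₂, hi₂, _, hy', rfl⟩ := Submodule.mem_sup.1 hy
  obtain ⟨r, rfl⟩ := Ideal.mem_span_singleton'.1 hx'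
  obtain ⟨t, rfl⟩ := Ideal.mem_span_singleton'.1 hy'
  have e : (i₁ + r * a) * (i₂ + t * b) = i₁ * (i₂ + t * b) + r * a * i₂ + r * t * (a * b) := by ring
  rw [e]
  exact I.add_mem (I.add_mem (I.mul_mem_right _ hi₁) (I.mul_mem_left _ hi₂)) (I.mul_mem_left _ hab)

/-- It suffices to test on normal domains with algebraically closed fraction field. -/
theorem isAffineOpen_of_forall_aic (U : (Spec (CommRingCat.of A)).Opens) (hU : IsCompact (U : Set (Spec (CommRingCat.of A))))
    (h : ∀ (R : Type u) [CommRing R] [IsDomain R] [IsIntegrallyClosed R] [IsAlgClosed (FractionRing R)] (φ : A →+* R),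
      IsAffineOpen (Spec.map (CommRingCat.ofHom φ) ⁻¹ᵁ U)) : IsAffineOpen U := by
  refine isAffineOpen_of_forall_prime U hU fun p hp => ?_
  haveI := hp
  let L := AlgebraicClosure (FractionRing (A ⧸ p))
  let R := integralClosure (A ⧸ p) L
  haveI : FaithfulSMul (A ⧸ p) L := by
    rw [faithfulSMul_iff_algebraMap_injective, IsScalarTower.algebraMap_eq (A ⧸ p) (FractionRing (A ⧸ p)) L]
    exact (algebraMap (FractionRing (A ⧸ p)) L).injective.comp (IsFractionRing.injective (A ⧸ p) _)
  haveI : Algebra.IsAlgebraic (A ⧸ p) L := by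
    haveI : Algebra.IsAlgebraic (A ⧸ p) (FractionRing (A ⧸ p)) := IsLocalization.isAlgebraic _ (nonZeroDivisors (A ⧸ p))
    exact Algebra.IsAlgebraic.trans (A ⧸ p) (FractionRing (A ⧸ p)) L
  haveI : IsFractionRing R L := IsIntegralClosure.isFractionRing_of_algebraic (A := A ⧸ p) (C := R) (L := L)
    (fun x hx => (FaithfulSMul.algebraMap_injective (A ⧸ p) L) (hx.trans (map_zero _).symm))
  haveI : IsIntegrallyClosed R := (isIntegrallyClosed_iff_isIntegralClosure L).2
    ⟨Subtype.val_injective, fun {x} => ⟨fun hx => ⟨⟨x, isIntegral_trans x hx⟩, rfl⟩, fun ⟨y, hy⟩ => hy ▸ isIntegral_algebraMap⟩⟩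
  haveI : IsAlgClosed (FractionRing R) := IsAlgClosed.of_ringEquiv L _ (FractionRing.algEquiv R L).symm.toRingEquiv
  haveI : FaithfulSMul (A ⧸ p) R := (faithfulSMul_iff_algebraMap_injective _ _).2 fun x y hxy =>
    FaithfulSMul.algebraMap_injective (A ⧸ p) L (congrArg Subtype.val hxy)
  let π : Spec (CommRingCat.of R) ⟶ Spec (CommRingCat.of (A ⧸ p)) :=
    Spec.map (CommRingCat.ofHom (algebraMap (A ⧸ p) R))
  haveI : IsIntegralHom π := IsIntegralHom.SpecMap_iff.2 (fun x => Algebra.IsIntegral.isIntegral x)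
  haveI : Surjective π := ⟨fun P => by
    obtain ⟨Q, hQ⟩ := Algebra.IsIntegral.comap_surjective (R := A ⧸ p) (S := R) (P : PrimeSpectrum (A ⧸ p))
    exact ⟨Q, hQ⟩⟩
  let W := closedPreimage U p
  haveI : IsAffine (π ⁻¹ᵁ W).toScheme := by
    show IsAffineOpen (π ⁻¹ᵁ Spec.map _ ⁻¹ᵁ U)
    rw [← Scheme.Hom.comp_preimage, ← Spec.map_comp]
    exact h R _
  haveI : Surjective (π ∣_ W) := MorphismProperty.of_isPullback (isPullback_morphismRestrict π W).flip ‹_›
  exact AbsApprox.isAffine_of_universallyClosed (π ∣_ W)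

end Groth.Agent.Weighting
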