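import Groth.Agent.Weighting.ConstrLFT
import Groth.Agent.Weighting.ZMTFP
import Groth.Agent.Weighting.MaxLocus
import Groth.Agent.Weighting.AffineOpenCrit
import Groth.Agent.S1418
import Groth.Agent.S1420

/-!
The locus where the fibre integral of a positive weighting is maximal is affine (affine base and source).
-/

set_option autoImplicit false
set_option linter.style.haveILetI false
set_option backward.isDefEq.respectTransparency false
universe u

open AlgebraicGeometry CategoryTheory Limits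

namespace Groth.Agent.Weighting

/-- Over an absolutely integrally closed domain, a quasi-finite domain containing it gives an open subscheme. -/
theorem isOpenImmersion_of_quasiFinite_aic {R B : Type u} [CommRing R] [IsDomain R] [IsIntegrallyClosed R]
    [IsAlgClosed (FractionRing R)] [CommRing B] [IsDomain B] [Algebra R B] [FaithfulSMul R B]
    [Algebra.FiniteType R B] [Algebra.QuasiFinite R B] :
    IsOpenImmersion (Spec.map (CommRingCat.ofHom (algebraMap R B))) := by
  classical
  let K := FractionRing R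
  let L := FractionRing B
  letI : Algebra K L := FractionRing.liftAlgebra R L
  haveI : IsScalarTower R K L := FractionRing.isScalarTower_liftAlgebra R L
  have hint : ∀ b : B, IsIntegral R b → b ∈ Set.range (algebraMap R B) := by
    intro b hb
    have hbL : IsIntegral R (algebraMap B L b) := hb.map (IsScalarTower.toAlgHom R B L)
    have hbK : IsIntegral K (algebraMap B L b) := hbL.tower_top
    obtain ⟨k, hk⟩ := (IsAlgClosed.algebraMap_bijective_of_isIntegral (k := K) (K := integralClosure K L)).2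
      ⟨_, hbK⟩
    have hk' : algebraMap K L k = algebraMap B L b := congrArg Subtype.val hk
    have hkR : IsIntegral R k :=
      (isIntegral_algebraMap_iff (A := K) (B := L) (algebraMap K L).injective).1 (hk' ▸ hbL)
    obtain ⟨r, rfl⟩ := IsIntegrallyClosed.isIntegral_iff.1 hkR
    refine ⟨r, IsFractionRing.injective B L ?_⟩
    rw [← hk', ← IsScalarTower.algebraMap_apply, ← IsScalarTower.algebraMap_apply]
  have hloc : ∀ p : PrimeSpectrum B, ∃ a : R, algebraMap R B a ∉ p.asIdeal ∧
      Function.Bijective (Localization.awayMap (algebraMap R B) a) := by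
    intro p
    obtain ⟨S', hfg, r, hr, hbij⟩ :=
      Algebra.QuasiFiniteAt.exists_fg_and_exists_notMem_and_awayMap_bijective (R := R) p.asIdeal
    have hS' : S' ≤ (Algebra.ofId R B).range := fun x hx => hint x (IsIntegral.of_mem_of_fg S' hfg x hx)
    obtain ⟨a, ha⟩ : ∃ a, algebraMap R B a = (r : B) := hS' r.2
    refine ⟨a, ha ▸ hr, ?_, fun y => ?_⟩
    · haveI : IsLocalization ((Submonoid.powers a).map (algebraMap R B)) (Localization.Away (algebraMap R B a)) := by
        rw [Submonoid.map_powers]; infer_instance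
      exact IsLocalization.map_injective_of_injective (Submonoid.powers a) (Localization.Away a)
        (Localization.Away (algebraMap R B a)) (FaithfulSMul.algebraMap_injective R B)
    · obtain ⟨⟨x, ⟨_, m, rfl⟩⟩, hx⟩ := IsLocalization.surj (Submonoid.powers (algebraMap R B a)) y
      obtain ⟨N, c, hc⟩ := exists_pow_mul_mem_range_of_awayMap_surjective (Algebra.ofId R B) S' hS' r hbij x
      refine ⟨IsLocalization.mk' (Localization.Away a) c (⟨a ^ (N + m), N + m, rfl⟩ : Submonoid.powers a), ?_⟩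
      show IsLocalization.map (M := Submonoid.powers a) (Localization.Away (algebraMap R B a)) (algebraMap R B)
        (show Submonoid.powers a ≤ (Submonoid.powers (algebraMap R B a)).comap (algebraMap R B) from by
          rintro _ ⟨j, rfl⟩; exact ⟨j, (map_pow _ _ j).symm⟩) (IsLocalization.mk' (Localization.Away a) _ _) = y
      rw [IsLocalization.map_mk', IsLocalization.mk'_eq_iff_eq_mul]
      show algebraMap B _ (algebraMap R B c) = y * algebraMap B _ (algebraMap R B (a ^ (N + m)))
      have hc' : algebraMap R B c = algebraMap R B a ^ N * x := by rw [ha]; exact hc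
      rw [map_pow (algebraMap R B), pow_add, map_mul, hc', map_mul, ← mul_assoc, mul_comm y, mul_assoc]
      congr 1
      exact hx.symm
  choose a ha hbij using hloc
  obtain ⟨t, ht⟩ := isCompact_univ.elim_finite_subcover
    (fun p => (PrimeSpectrum.basicOpen (algebraMap R B (a p)) : Set (PrimeSpectrum B)))
    (fun p => (PrimeSpectrum.basicOpen _).isOpen) (fun p _ => Set.mem_iUnion.2 ⟨p, ha p⟩)
  refine isOpenImmersion_Spec_of_awayMap_bijective (algebraMap R B) (fun i => a (t.equivFin.symm i).1)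
    (fun p => ?_) fun i => hbij _
  obtain ⟨p₀, hp₀, hp⟩ := Set.mem_iUnion₂.1 (ht (Set.mem_univ p))
  exact ⟨t.equivFin ⟨p₀, hp₀⟩, by rw [Equiv.symm_apply_apply]; exact hp⟩

/-- A morphism covered by finitely many sections is universally closed. -/
theorem universallyClosed_of_sections {P T : Scheme.{u}} (π : P ⟶ T) {ι : Type u} [Finite ι] {Q : ι → Scheme.{u}}
    (g : ∀ x, Q x ⟶ P) (hg : ∀ x, IsIso (g x ≫ π)) (hcov : ∀ p : P, ∃ x q, g x q = p) : UniversallyClosed π := by
  haveI : Surjective (Sigma.desc g) := ⟨fun p => by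
    obtain ⟨x, q, hq⟩ := hcov p
    exact ⟨Sigma.ι Q x q, by rw [← Scheme.Hom.comp_apply, Sigma.ι_desc]; exact hq⟩⟩
  haveI : UniversallyClosed (Sigma.desc g ≫ π) := by
    refine universallyClosed_of_finite_cover _ (fun x => (Sigma.ι Q x).opensRange) (fun x => ?_) fun p => ?_
    · haveI := hg x
      have e : (Sigma.ι Q x).opensRange.ι ≫ Sigma.desc g ≫ π = (Scheme.Hom.isoOpensRange (Sigma.ι Q x)).inv ≫ g x ≫ π := by
        rw [Iso.eq_inv_comp, ← Category.assoc, Scheme.Hom.isoOpensRange_hom_ι, Sigma.ι_desc_assoc]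
      rw [e]; infer_instance
    · obtain ⟨x, z, rfl⟩ := (sigmaOpenCover Q).exists_eq p
      exact ⟨x, z, rfl⟩
  exact UniversallyClosed.of_comp_surjective (Sigma.desc g) π

/-- A morphism covered by finitely many open sections is universally closed over their common image. -/
theorem universallyClosed_restrict_of_open_sections {P T : Scheme.{u}} (π : P ⟶ T) {ι : Type u} [Finite ι]
    {Q : ι → Scheme.{u}} (g : ∀ x, Q x ⟶ P) (hg : ∀ x, IsOpenImmersion (g x ≫ π)) (V : T.Opens)
    (hV : ∀ x z, z ∈ V → ∃ q, (g x ≫ π) q = z) (hcov : ∀ p : P, ∃ x q, g x q = p) :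
    UniversallyClosed (π ∣_ V) := by
  refine universallyClosed_of_sections (Q := fun x => (g x ⁻¹ᵁ π ⁻¹ᵁ V).toScheme) (π ∣_ V)
    (fun x => g x ∣_ (π ⁻¹ᵁ V)) ?_ ?_
  rotate_left
  · intro p
    obtain ⟨x, q, hq⟩ := hcov p.1
    exact ⟨x, ⟨q, show g x q ∈ π ⁻¹ᵁ V from hq ▸ p.2⟩, Subtype.ext ((morphismRestrict_base_coe _ _ _).trans hq)⟩
  intro x
  · haveI := hg x
    rw [← morphismRestrict_comp (g x) π V]
    haveI : Surjective ((g x ≫ π) ∣_ V) := ⟨fun z => by
      obtain ⟨q, hq⟩ := hV x z.1 z.2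
      exact ⟨⟨q, show (g x ≫ π) q ∈ V from hq ▸ z.2⟩, Subtype.ext ((morphismRestrict_base_coe _ _ _).trans hq)⟩⟩
    exact isIso_of_isOpenImmersion_of_opensRange_eq_top _
      (TopologicalSpace.Opens.ext ((g x ≫ π) ∣_ V).surjective.range_eq)

/-- If the closures of the points of the generic fibre are open sections, the maximal locus is the
intersection of their images. -/
theorem eq_iInter_opensRange {X Y : Scheme.{u}} (f : X ⟶ Y) [LocallyQuasiFinite f] [LocallyOfFiniteType f]
    [IsSeparated f] [QuasiCompact f] {w : X → ℤ} (hw : MoreMor.IsWeighting f w) (hpos : ∀ x, 0 < w x) (d : ℤ)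
    (hmax : ∀ y, MoreMor.fibreIntegral f w y ≤ d) (U : Y.Opens) (hU : ∀ y, y ∈ U ↔ MoreMor.fibreIntegral f w y = d)
    (η : Y) (hη : ∀ y, η ⤳ y) (hne : ∃ y, y ∈ U) {ι : Type u} [Finite ι] {Q : ι → Scheme.{u}} (g : ∀ x, Q x ⟶ X)
    (hg : ∀ x, IsOpenImmersion (g x ≫ f)) (pt₀ : ι → X) (hpt : ∀ x, f (pt₀ x) = η)
    (hall : ∀ z, f z = η → ∃ x, pt₀ x = z) (hclos : ∀ x z, pt₀ x ⤳ z → ∃ q, g x q = z) :
    (U : Set Y) = ⋂ x, Set.range (g x ≫ f) := by
  classical
  have hfin : ∀ y : Y, (f ⁻¹' {y}).Finite := fun y => f.finite_preimage_singleton y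
  have hηU : η ∈ U := by
    obtain ⟨y, hy⟩ := hne
    exact (hη y).mem_open U.2 hy
  apply subset_antisymm
  · intro y hy
    haveI : IsFinite (f ∣_ U) := isFinite_restrict_maxLocus hfin hw hpos d U fun z hz => (hU z).1 hz
    refine Set.mem_iInter.2 fun x => ?_
    have hxU : pt₀ x ∈ f ⁻¹ᵁ U := by show f (pt₀ x) ∈ U; rw [hpt]; exact hηU
    have hcl : IsClosed ((f ∣_ U) '' closure {(⟨pt₀ x, hxU⟩ : (f ⁻¹ᵁ U).toScheme)}) := (f ∣_ U).isClosedMap _ isClosed_closure
    have hηy : (f ∣_ U) ⟨pt₀ x, hxU⟩ ⤳ ⟨y, hy⟩ := (subtype_specializes_iff _ _).2 (by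
      rw [morphismRestrict_base_coe]
      show f (pt₀ x) ⤳ y
      rw [hpt]; exact hη y)
    obtain ⟨⟨z, hzU⟩, hz, hzy⟩ := hηy.mem_closed hcl ⟨_, subset_closure rfl, rfl⟩
    obtain ⟨q, hq⟩ := hclos x z ((subtype_specializes_iff _ _).1 (specializes_iff_mem_closure.2 hz))
    refine ⟨q, ?_⟩
    rw [Scheme.Hom.comp_apply, hq]
    have h9 := morphismRestrict_base_coe f U ⟨z, hzU⟩
    rw [hzy] at h9
    exact h9.symm
  · haveI : UniversallyOpen f := S1420.result f w hw hpos
    have hcov : ∀ z, ∃ x q, g x q = z := by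
      intro z
      by_contra hcon
      push Not at hcon
      let O : Set X := ⋂ x, (closure {pt₀ x})ᶜ
      have hzO : z ∈ O := Set.mem_iInter.2 fun x h => by
        obtain ⟨q, hq⟩ := hclos x z (specializes_iff_mem_closure.2 h)
        exact hcon x q hq
      have hO : IsOpen (f '' O) := f.isOpenMap _ (isOpen_iInter_of_finite fun x => isClosed_closure.isOpen_compl)
      obtain ⟨z', hz', hz'η⟩ := (hη (f z)).mem_open hO ⟨z, hzO, rfl⟩
      obtain ⟨x, rfl⟩ := hall z' hz'η
      exact Set.mem_iInter.1 hz' x (subset_closure rfl)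
    let V : Y.Opens := ⟨⋂ x, Set.range (g x ≫ f), isOpen_iInter_of_finite fun x =>
      (haveI := hg x; (g x ≫ f).isOpenEmbedding.isOpen_range)⟩
    haveI : UniversallyClosed (f ∣_ V) :=
      universallyClosed_restrict_of_open_sections f g hg V (fun x z hz => Set.mem_iInter.1 hz x) hcov
    haveI : IsProper (f ∣_ V) := ⟨⟩
    haveI : IsFinite (f ∣_ V) := IsFinite.of_isProper_of_locallyQuasiFinite _
    haveI : IsFinite ((⊤ : (pullback f V.ι).Opens).ι ≫ pullback.snd f V.ι) := by
      haveI : IsFinite (pullback.snd f V.ι) :=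
        ((MorphismProperty.arrow_mk_iso_iff @IsFinite (Arrow.isoMk ((pullbackRestrictIsoRestrict f V).symm) (Iso.refl _)
          (by simp [← pullbackRestrictIsoRestrict_hom_morphismRestrict]))).1 ‹IsFinite (f ∣_ V)›)
      haveI : IsIso (⊤ : (pullback f V.ι).Opens).ι := by rw [← Scheme.topIso_hom]; infer_instance
      rw [MorphismProperty.cancel_left_of_respectsIso @IsFinite]; assumption
    have hlc := hw V.toScheme V.ι ⊤ inferInstance
    have hval : ∀ p : V.toScheme, MoreMor.fibreIntegral ((⊤ : (pullback f V.ι).Opens).ι ≫ pullback.snd f V.ι)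
        (fun u => w (pullback.fst f V.ι ((⊤ : (pullback f V.ι).Opens).ι u))) p =
        MoreMor.fibreIntegral f w (V.ι p) := by
      intro p
      obtain ⟨Ω, _, _, v, rfl⟩ := exists_geomPt p
      rw [fibreIntegral_eq_L, L_top, ← pt_comp, fibreIntegral_eq f w (v ≫ V.ι) (hfin _)]
    intro y hy
    have hyV : y ∈ V := hy
    have hηV : η ∈ V := (hη y).mem_open V.2 hyV
    obtain ⟨O, hO, hyO, hconst⟩ := (IsLocallyConstant.iff_exists_open _).1 hlc ⟨y, hyV⟩
    have hηO : (⟨η, hηV⟩ : V.toScheme) ∈ O :=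
      ((subtype_specializes_iff (⟨η, hηV⟩ : V.toScheme) ⟨y, hyV⟩).2 (hη y)).mem_open hO hyO
    have h1 := hconst _ hηO
    rw [hval, hval] at h1
    exact (hU y).2 (h1.symm.trans ((hU η).1 hηU))

/-- The closure of a prime, as a closed subscheme. -/
theorem exists_eq_of_specializes {S : Type u} [CommRing S] (x z : PrimeSpectrum S) (h : x ⤳ z) :
    ∃ q : PrimeSpectrum (S ⧸ x.asIdeal), PrimeSpectrum.comap (Ideal.Quotient.mk x.asIdeal) q = z := by
  have hk : RingHom.ker (Ideal.Quotient.mk x.asIdeal) ≤ z.asIdeal := by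
    rw [Ideal.mk_ker]; exact (PrimeSpectrum.le_iff_specializes _ _).2 h
  haveI := Ideal.map_isPrime_of_surjective Ideal.Quotient.mk_surjective hk
  refine ⟨⟨Ideal.map (Ideal.Quotient.mk _) z.asIdeal, inferInstance⟩, PrimeSpectrum.ext ?_⟩
  show Ideal.comap _ (Ideal.map _ _) = _
  rw [Ideal.comap_map_of_surjective _ Ideal.Quotient.mk_surjective, ← RingHom.ker_eq_comap_bot, sup_eq_left.2 hk]

theorem isOpenImmersion_quotient_comp {R S : Type u} [CommRing R] [IsDomain R] [IsIntegrallyClosed R]
    [IsAlgClosed (FractionRing R)] [CommRing S] [Algebra R S] [Algebra.FiniteType R S] [Algebra.QuasiFinite R S]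
    (P : PrimeSpectrum S) (hP : PrimeSpectrum.comap (algebraMap R S) P = ⊥) :
    IsOpenImmersion (Spec.map (CommRingCat.ofHom (Ideal.Quotient.mk P.asIdeal)) ≫
      Spec.map (CommRingCat.ofHom (algebraMap R S))) := by
  rw [← Spec.map_comp]
  haveI : FaithfulSMul R (S ⧸ P.asIdeal) := by
    rw [faithfulSMul_iff_algebraMap_injective, injective_iff_map_eq_zero]
    intro r hr
    have h1 : algebraMap R S r ∈ P.asIdeal := Ideal.Quotient.eq_zero_iff_mem.1 hr
    have h2 : r ∈ (PrimeSpectrum.comap (algebraMap R S) P).asIdeal := h1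
    rw [hP] at h2
    exact h2
  exact isOpenImmersion_of_quasiFinite_aic (R := R) (B := S ⧸ P.asIdeal)

/-- The core case: source and base are spectra, the base an absolutely integrally closed domain. -/
theorem isAffineOpen_maxLocus_aic {R S : Type u} [CommRing R] [IsDomain R] [IsIntegrallyClosed R]
    [IsAlgClosed (FractionRing R)] [CommRing S] [Algebra R S]
    (f : Spec (CommRingCat.of S) ⟶ Spec (CommRingCat.of R)) (hf : f = Spec.map (CommRingCat.ofHom (algebraMap R S)))
    [LocallyQuasiFinite f] [LocallyOfFiniteType f] {w : Spec (CommRingCat.of S) → ℤ}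
    (hw : MoreMor.IsWeighting f w) (hpos : ∀ x, 0 < w x) (d : ℤ)
    (hmax : ∀ y, MoreMor.fibreIntegral f w y ≤ d) (U : (Spec (CommRingCat.of R)).Opens)
    (hU : ∀ y, y ∈ U ↔ MoreMor.fibreIntegral f w y = d) : IsAffineOpen U := by
  classical
  haveI : Algebra.FiniteType R S :=
    RingHom.finiteType_algebraMap.1 (HasRingHomProperty.Spec_iff.1 (hf ▸ ‹LocallyOfFiniteType f›))
  haveI : Algebra.QuasiFinite R S :=
    RingHom.quasiFinite_algebraMap.1 (HasRingHomProperty.Spec_iff.1 (hf ▸ ‹LocallyQuasiFinite f›))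
  let η : Spec (CommRingCat.of R) := (⊥ : PrimeSpectrum R)
  by_cases hne : ∃ y, y ∈ U
  swap
  · haveI : IsEmpty U.toScheme := ⟨fun z => hne ⟨z.1, z.2⟩⟩
    exact inferInstanceAs (IsAffine _)
  haveI : Finite {x // f x = η} := (f.finite_preimage_singleton η).to_subtype
  haveI := Fintype.ofFinite {x // f x = η}
  let g : ∀ x : {x // f x = η}, Spec (CommRingCat.of (S ⧸ PrimeSpectrum.asIdeal x.1)) ⟶ Spec (CommRingCat.of S) :=
    fun x => Spec.map (CommRingCat.ofHom (Ideal.Quotient.mk _))
  have hg : ∀ x, IsOpenImmersion (g x ≫ f) := fun x => by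
    subst hf
    exact isOpenImmersion_quotient_comp (R := R) x.1 x.2
  have key := eq_iInter_opensRange f hw hpos d hmax U hU η
    (fun y => (PrimeSpectrum.le_iff_specializes _ _).1 bot_le) hne g hg (fun x => x.1) (fun x => x.2)
    (fun z hz => ⟨⟨z, hz⟩, rfl⟩) fun x z h => exists_eq_of_specializes x.1 z h
  have hV : U = Finset.univ.inf fun x => (haveI := hg x; (g x ≫ f).opensRange) := TopologicalSpace.Opens.ext (by
    rw [key]; simp [TopologicalSpace.Opens.coe_finset_inf, Finset.inf_set_eq_iInter])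
  rw [hV]
  exact Finset.inf_induction (isAffineOpen_top _) (fun a ha b hb => IsAffineOpen.inf ha hb)
    fun x _ => (haveI := hg x; isAffineOpen_opensRange _)

theorem isCompact_of_isOpen_of_isConstructible {T : Type*} [TopologicalSpace T] [CompactSpace T] [QuasiSeparatedSpace T]
    [QuasiSober T] [PrespectralSpace T] {U : Set T} (hU : IsOpen U) (hC : Topology.IsConstructible U) : IsCompact U := by
  have hB : ∀ x : U, ∃ B : Set T, IsOpen B ∧ IsCompact B ∧ (x : T) ∈ B ∧ B ⊆ U := fun x => by
    obtain ⟨B, ⟨hBo, hBc⟩, hxB, hBU⟩ := PrespectralSpace.isTopologicalBasis.exists_subset_of_mem_open x.2 hU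
    exact ⟨B, hBo, hBc, hxB, hBU⟩
  choose B hBo hBc hxB hBU using hB
  obtain ⟨t, ht⟩ := exists_finite_constructible_cover (S := U) (isOpen_constructible_of_isConstructible hC).2
    B (fun x => (hBc x).isConstructible (hBo x)) hxB
  have e : U = ⋃ x ∈ t, B x := subset_antisymm ht (Set.iUnion₂_subset fun x _ => hBU x)
  rw [e]
  exact t.isCompact_biUnion fun x _ => hBc x

/-- The maximal locus is open and affine. -/
theorem isAffineOpen_maxLocus {X Y : Scheme.{u}} [IsAffine X] [IsAffine Y] (f : X ⟶ Y) [LocallyQuasiFinite f]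
    [LocallyOfFiniteType f] {w : X → ℤ} (hw : MoreMor.IsWeighting f w) (hpos : ∀ x, 0 < w x) (d : ℤ)
    (hmax : ∀ y : Y, MoreMor.fibreIntegral f w y ≤ d) (U : Y.Opens)
    (hU : ∀ y, y ∈ U ↔ MoreMor.fibreIntegral f w y = d) : IsAffineOpen U := by
  have hfin : ∀ y : Y, (f ⁻¹' {y}).Finite := fun y => f.finite_preimage_singleton y
  let e := Y.isoSpec
  suffices h : IsAffineOpen (e.inv ⁻¹ᵁ U) by
    have h2 := h.preimage e.hom
    rwa [← Scheme.Hom.comp_preimage, Iso.hom_inv_id, Scheme.Hom.id_preimage] at h2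
  have hcpt : IsCompact (U : Set Y) := by
    have h : Topology.IsConstructible (U : Set Y) := by
      have hset : (U : Set Y) = {y | MoreMor.fibreIntegral f w y = d} := Set.ext hU
      rw [hset]
      exact isConstructible_level _ (constrLC_fibreIntegral_of_isWeighting f hw) d
    exact isCompact_of_isOpen_of_isConstructible U.2 h
  refine isAffineOpen_of_forall_aic (A := Γ(Y, ⊤)) _ (QuasiCompact.isCompact_preimage (f := e.inv) _ U.2 hcpt)
    fun R _ _ _ _ φ => ?_
  let g : Spec (CommRingCat.of R) ⟶ Y := Spec.map (CommRingCat.ofHom φ) ≫ e.inv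
  let S := Γ(pullback f g, ⊤)
  let f₁ := pullback.snd f g
  let ψ : CommRingCat.of R ⟶ S := (Scheme.ΓSpecIso (CommRingCat.of R)).inv ≫ f₁.appTop
  letI : Algebra R S := ψ.hom.toAlgebra
  let f₂ : Spec (CommRingCat.of S) ⟶ Spec (CommRingCat.of R) := Spec.map (CommRingCat.ofHom (algebraMap R S))
  let k : Spec (CommRingCat.of S) ⟶ X := (pullback f g).isoSpec.inv ≫ pullback.fst f g
  have hsq : IsPullback k f₂ f g := by
    refine (IsPullback.of_hasPullback f g).of_iso (pullback f g).isoSpec (Iso.refl _) (Iso.refl _) (Iso.refl _)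
      ?_ ?_ (by simp) (by simp)
    · simp [k]
    · simp only [Iso.refl_hom, Category.comp_id, f₂]
      show pullback.snd f g = (pullback f g).isoSpec.hom ≫ Spec.map ψ
      rw [Spec.map_comp, ← Category.assoc, Scheme.isoSpec_hom_naturality, Category.assoc]
      simp [Scheme.isoSpec, Scheme.toSpecΓ_naturality, f₁]
  haveI : LocallyQuasiFinite f₂ := MorphismProperty.of_isPullback hsq inferInstance
  haveI : LocallyOfFiniteType f₂ := MorphismProperty.of_isPullback hsq inferInstance
  have hi : ∀ y, MoreMor.fibreIntegral f₂ (w ∘ k) y = MoreMor.fibreIntegral f w (g y) := fun y =>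
    S1418.result f hfin f₂ k g hsq w y
  refine isAffineOpen_maxLocus_aic f₂ rfl (isWeighting_baseChange hw hsq) (fun x => hpos _) d
    (fun y => (hi y).symm ▸ hmax _) _ fun y => ?_
  rw [hi, ← hU]
  rfl

end Groth.Agent.Weighting
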