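import Groth.Agent.Weighting.ZMTFP
import Groth.Prelude.Def_MoreMor

/-!
The universal open of the base changes of a quasi-finite morphism of finite presentation between affine
schemes that is finite over the base.
-/

set_option autoImplicit false
set_option linter.style.haveILetI false
universe u

open AlgebraicGeometry CategoryTheory Limits TensorProduct

namespace Groth.Agent.Weighting

section Algebra

variable {A Z : Type u} [CommRing A] [CommRing Z] [Algebra A Z]

theorem exists_sum_tmul (A' : Type u) [CommRing A'] [Algebra A A'] {n : ℕ} (g : Fin n → Z)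
    (hg : Submodule.span A (Set.range g) = ⊤) (w : Z ⊗[A] A') : ∃ a : Fin n → A', w = ∑ k, g k ⊗ₜ[A] a k := by
  classical
  induction w with
  | zero => exact ⟨0, by simp⟩
  | tmul z a =>
    obtain ⟨c, hc⟩ := Submodule.mem_span_range_iff_exists_fun (R := A) |>.1 (hg ▸ Submodule.mem_top (x := z))
    refine ⟨fun k => c k • a, ?_⟩
    rw [← hc, sum_tmul]
    exact Finset.sum_congr rfl fun k _ => by rw [smul_tmul]
  | add x y hx hy =>
    obtain ⟨a, rfl⟩ := hx
    obtain ⟨b, rfl⟩ := hy
    exact ⟨a + b, by simp [tmul_add, Finset.sum_add_distrib]⟩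

theorem exists_relations [Module.FinitePresentation A Z] {n : ℕ} (g : Fin n → Z)
    (hg : Submodule.span A (Set.range g) = ⊤) :
    ∃ (p : ℕ) (m : Fin p → Fin n → A), (∀ l, ∑ k, m l k • g k = 0) ∧
      ∀ (A' : Type u) [CommRing A'] [Algebra A A'] (a : Fin n → A'), ∑ k, g k ⊗ₜ[A] a k = 0 →
        ∃ s : Fin p → A', ∀ k, a k = ∑ l, s l * algebraMap A A' (m l k) := by
  classical
  let π : (Fin n → A) →ₗ[A] Z := Fintype.linearCombination A g
  have hπ : Function.Surjective π := by
    rw [← LinearMap.range_eq_top, Fintype.range_linearCombination, hg]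
  obtain ⟨S, hS⟩ := Module.FinitePresentation.fg_ker π hπ
  let m : Fin S.card → Fin n → A := fun l => (S.equivFin.symm l).1
  have hrel : ∀ l, π (m l) = 0 := fun l =>
    LinearMap.mem_ker.1 (hS ▸ Submodule.subset_span (S.equivFin.symm l).2)
  refine ⟨S.card, m, fun l => by simpa [π, Fintype.linearCombination_apply] using hrel l, fun A' _ _ a ha => ?_⟩
  let μ : (Fin S.card → A) →ₗ[A] (Fin n → A) := Fintype.linearCombination A m
  have hμ : LinearMap.range μ = LinearMap.ker π := by
    rw [Fintype.range_linearCombination, ← hS]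
    congr 1
    ext v
    refine ⟨fun ⟨l, hl⟩ => hl ▸ (S.equivFin.symm l).2, fun hv => ⟨S.equivFin ⟨v, hv⟩, by simp [m]⟩⟩
  have hex : Function.Exact μ π := LinearMap.exact_iff.2 hμ.symm
  let y : (Fin n → A) ⊗[A] A' := ∑ k, (Pi.single k 1 : Fin n → A) ⊗ₜ[A] a k
  have hy : π.rTensor A' y = 0 := by
    simp only [y, map_sum, LinearMap.rTensor_tmul]
    rw [← ha]
    refine Finset.sum_congr rfl fun k _ => ?_
    congr 1
    simp [π, Fintype.linearCombination_apply_single]
  obtain ⟨z, hz⟩ := (rTensor_exact A' hex hπ y).1 hy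
  let Ψ : (Fin n → A) ⊗[A] A' →ₗ[A] (Fin n → A') :=
    TensorProduct.lift (LinearMap.mk₂ A (fun (v : Fin n → A) (b : A') => fun k => v k • b)
      (fun v w b => by funext k; simp [add_smul]) (fun c v b => by funext k; simp [mul_smul])
      (fun v b b' => by funext k; simp [smul_add]) (fun c v b => by funext k; simp [smul_comm c]))
  have hΨy : Ψ y = a := by
    funext j
    simp only [y, map_sum, Ψ, TensorProduct.lift.tmul, LinearMap.mk₂_apply, Finset.sum_apply]
    rw [Finset.sum_eq_single j]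
    · simp
    · intro k _ hk; simp [Ne.symm hk]
    · simp
  have hz' : ∀ w : (Fin S.card → A) ⊗[A] A', ∃ s : Fin S.card → A',
      ∀ k, Ψ (μ.rTensor A' w) k = ∑ l, s l * algebraMap A A' (m l k) := by
    intro w
    induction w with
    | zero => exact ⟨0, by simp⟩
    | tmul v b =>
      refine ⟨fun l => v l • b, fun k => ?_⟩
      simp only [LinearMap.rTensor_tmul, Ψ, TensorProduct.lift.tmul, LinearMap.mk₂_apply, μ,
        Fintype.linearCombination_apply, Finset.sum_apply, Pi.smul_apply, smul_eq_mul, Finset.sum_smul]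
      refine Finset.sum_congr rfl fun l _ => ?_
      rw [Algebra.smul_def, Algebra.smul_def, map_mul]; ring
    | add x y hx hy =>
      obtain ⟨s, hs⟩ := hx
      obtain ⟨t, ht⟩ := hy
      exact ⟨s + t, fun k => by simp [hs, ht, add_mul, Finset.sum_add_distrib]⟩
  obtain ⟨s, hs⟩ := hz' z
  exact ⟨s, fun k => by rw [← hs k, hz, hΨy]⟩

variable (A) in
/-- Idempotents of base changes of `Z` lying in the extension of a finitely generated ideal are
pulled back from a universal one. -/
theorem exists_universal_idempotent [Module.FinitePresentation A Z] {r : ℕ} (R : Fin r → Z) :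
    ∃ (P : Type u) (_ : CommRing P) (_ : Algebra A P) (_ : Algebra.FinitePresentation A P) (e : Z ⊗[A] P),
      IsIdempotentElem e ∧ e ∈ Ideal.span (Set.range fun i => R i ⊗ₜ[A] (1 : P)) ∧
      ∀ (A' : Type u) [CommRing A'] [Algebra A A'] (e' : Z ⊗[A] A'), IsIdempotentElem e' →
        e' ∈ Ideal.span (Set.range fun i => R i ⊗ₜ[A] (1 : A')) →
          ∃ F : P →ₐ[A] A', Algebra.TensorProduct.map (AlgHom.id A Z) F e = e' := by
  classical
  obtain ⟨n, g, hg⟩ := Module.Finite.exists_fin (R := A) (M := Z)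
  obtain ⟨p, m, hm, hrel⟩ := exists_relations g hg
  let P₀ := MvPolynomial ((Fin r × Fin n) ⊕ Fin p) A
  let e₀ : Z ⊗[A] P₀ := ∑ i, ∑ k, (R i * g k) ⊗ₜ[A] MvPolynomial.X (Sum.inl (i, k))
  let e₁ : Z ⊗[A] MvPolynomial (Fin r × Fin n) A := ∑ i, ∑ k, (R i * g k) ⊗ₜ[A] MvPolynomial.X (i, k)
  obtain ⟨c₀, hc₀⟩ := exists_sum_tmul (MvPolynomial (Fin r × Fin n) A) g hg (e₁ * e₁ - e₁)
  let c : Fin n → P₀ := fun k => MvPolynomial.rename Sum.inl (c₀ k)
  have hc : e₀ * e₀ - e₀ = ∑ k, g k ⊗ₜ[A] c k := by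
    have := congrArg (Algebra.TensorProduct.map (AlgHom.id A Z) (MvPolynomial.rename (Sum.inl : Fin r × Fin n → (Fin r × Fin n) ⊕ Fin p))) hc₀
    simpa [e₁, e₀, c] using this
  let q : Fin n → P₀ := fun k => c k - ∑ l, MvPolynomial.X (Sum.inr l) * algebraMap A P₀ (m l k)
  let Q : Ideal P₀ := Ideal.span (Set.range q)
  haveI : Algebra.FinitePresentation A (P₀ ⧸ Q) :=
    Algebra.FinitePresentation.quotient (Submodule.fg_span (Set.finite_range _))
  let mk := Ideal.Quotient.mkₐ A Q
  refine ⟨P₀ ⧸ Q, inferInstance, inferInstance, inferInstance, Algebra.TensorProduct.map (AlgHom.id A Z) mk e₀, ?_, ?_, ?_⟩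
  · show _ * _ = _
    rw [← sub_eq_zero, ← map_mul, ← map_sub, hc, map_sum]
    have hck : ∀ k, mk (c k) = ∑ l, m l k • mk (MvPolynomial.X (Sum.inr l)) := fun k => by
      have : mk (q k) = 0 := Ideal.Quotient.eq_zero_iff_mem.2 (Ideal.subset_span ⟨k, rfl⟩)
      rw [map_sub, sub_eq_zero, map_sum] at this
      rw [this]
      exact Finset.sum_congr rfl fun l _ => by rw [map_mul, AlgHom.commutes, mul_comm]; exact (Algebra.smul_def _ _).symm
    simp only [Algebra.TensorProduct.map_tmul, AlgHom.id_apply, hck, tmul_sum, tmul_smul]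
    rw [Finset.sum_comm]
    refine Finset.sum_eq_zero fun l _ => ?_
    have key : ∀ k, (m l k • (g k ⊗ₜ[A] mk (MvPolynomial.X (Sum.inr l)))) = (m l k • g k) ⊗ₜ[A] mk (MvPolynomial.X (Sum.inr l)) :=
      fun k => smul_tmul' _ _ _
    simp only [key, ← sum_tmul, hm l, zero_tmul]
  · simp only [e₀, map_sum, Algebra.TensorProduct.map_tmul, AlgHom.id_apply]
    refine Ideal.sum_mem _ fun i _ => Ideal.sum_mem _ fun k _ => ?_
    have : (R i * g k) ⊗ₜ[A] mk (MvPolynomial.X (Sum.inl (i, k))) =
        (g k ⊗ₜ[A] mk (MvPolynomial.X (Sum.inl (i, k)))) * (R i ⊗ₜ[A] (1 : P₀ ⧸ Q)) := by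
      rw [Algebra.TensorProduct.tmul_mul_tmul, mul_one, mul_comm]
    rw [this]
    exact Ideal.mul_mem_left _ _ (Ideal.subset_span ⟨i, rfl⟩)
  · intro A' _ _ e' he' hmem
    obtain ⟨w, hw⟩ := Ideal.mem_span_range_iff_exists_fun.1 hmem
    choose t ht using fun i => exists_sum_tmul A' g hg (w i)
    have he0 : e' = ∑ i, ∑ k, (R i * g k) ⊗ₜ[A] t i k := by
      rw [← hw]
      refine Finset.sum_congr rfl fun i _ => ?_
      rw [ht i, Finset.sum_mul]
      exact Finset.sum_congr rfl fun k _ => by rw [Algebra.TensorProduct.tmul_mul_tmul, mul_one, mul_comm]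
    let G : MvPolynomial (Fin r × Fin n) A →ₐ[A] A' := MvPolynomial.aeval (fun ik => t ik.1 ik.2)
    have hG : Algebra.TensorProduct.map (AlgHom.id A Z) G e₁ = e' := by
      simp only [e₁, G, map_sum, Algebra.TensorProduct.map_tmul, AlgHom.id_apply, MvPolynomial.aeval_X, he0]
    have hzero : ∑ k, g k ⊗ₜ[A] G (c₀ k) = 0 := by
      have h := congrArg (Algebra.TensorProduct.map (AlgHom.id A Z) G) hc₀
      rw [map_sub, map_mul, hG, show e' * e' = e' from he', sub_self, map_sum] at h
      simpa using h.symm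
    obtain ⟨s, hs⟩ := hrel A' _ hzero
    let F₀ : P₀ →ₐ[A] A' := MvPolynomial.aeval (Sum.elim (fun ik => t ik.1 ik.2) s)
    have hFc : ∀ x, F₀ (MvPolynomial.rename Sum.inl x) = G x := by
      have : F₀.comp (MvPolynomial.rename Sum.inl) = G := MvPolynomial.algHom_ext fun ik => by
        rw [AlgHom.comp_apply, MvPolynomial.rename_X]
        exact (MvPolynomial.aeval_X _ _).trans (MvPolynomial.aeval_X (R := A) (fun ik : Fin r × Fin n => t ik.1 ik.2) ik).symm
      exact fun x => DFunLike.congr_fun this x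
    have hFs : ∀ l, F₀ (MvPolynomial.X (Sum.inr l)) = s l := fun l => MvPolynomial.aeval_X _ _
    have hFt : ∀ i k, F₀ (MvPolynomial.X (Sum.inl (i, k))) = t i k := fun i k => MvPolynomial.aeval_X _ _
    have hF₀Q : ∀ z ∈ Q, F₀ z = 0 := fun z hz => by
      refine (Ideal.span_le (I := RingHom.ker F₀)).2 ?_ hz
      rintro _ ⟨k, rfl⟩
      show F₀ (c k - _) = 0
      rw [map_sub, map_sum, sub_eq_zero]
      have h1 : F₀ (c k) = G (c₀ k) := hFc (c₀ k)
      rw [h1, hs k]
      refine Finset.sum_congr rfl fun l _ => ?_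
      rw [map_mul, AlgHom.commutes, hFs l]
    refine ⟨Ideal.Quotient.liftₐ Q F₀ hF₀Q, ?_⟩
    have hcomp : ∀ x, Ideal.Quotient.liftₐ Q F₀ hF₀Q (mk x) = F₀ x := fun x => rfl
    simp only [e₀, map_sum, Algebra.TensorProduct.map_tmul, AlgHom.id_apply, hcomp, he0, hFt]

end Algebra

section Geometry

variable {A Z : Type u} [CommRing A] [CommRing Z] [Algebra A Z]
variable {X Y Y' : Scheme.{u}} {f : X ⟶ Y} (θ : Y ≅ Spec (CommRingCat.of A))
variable (j : X ⟶ Spec (CommRingCat.of Z))
variable (hj : j ≫ Spec.map (CommRingCat.ofHom (algebraMap A Z)) = f ≫ θ.hom)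

/-- The open immersion of a base change into the spectrum of the base change of `Z`. -/
noncomputable def kappa (A' : Type u) [CommRing A'] [Algebra A A'] {b : Y' ⟶ Y}
    (φ : Y' ≅ Spec (CommRingCat.of A'))
    (hb : b ≫ θ.hom = φ.hom ≫ Spec.map (CommRingCat.ofHom (algebraMap A A'))) :
    pullback f b ⟶ Spec (CommRingCat.of (Z ⊗[A] A')) :=
  pullback.map f b (Spec.map (CommRingCat.ofHom (algebraMap A Z))) (Spec.map (CommRingCat.ofHom (algebraMap A A')))
    j φ.hom θ.hom hj.symm hb ≫ (pullbackSpecIso A Z A').hom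

variable (A' : Type u) [CommRing A'] [Algebra A A'] {b : Y' ⟶ Y} (φ : Y' ≅ Spec (CommRingCat.of A'))
variable (hb : b ≫ θ.hom = φ.hom ≫ Spec.map (CommRingCat.ofHom (algebraMap A A')))

theorem kappa_fst : kappa θ j hj A' φ hb ≫ Spec.map (CommRingCat.ofHom Algebra.TensorProduct.includeLeftRingHom) =
    pullback.fst f b ≫ j := by
  rw [kappa, Category.assoc, pullbackSpecIso_hom_fst, pullback.map, pullback.lift_fst]

theorem kappa_snd : kappa θ j hj A' φ hb ≫
    Spec.map (CommRingCat.ofHom (RingHomClass.toRingHom (Algebra.TensorProduct.includeRight : A' →ₐ[A] Z ⊗[A] A'))) =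
      pullback.snd f b ≫ φ.hom := by
  rw [kappa, Category.assoc, pullbackSpecIso_hom_snd, pullback.map, pullback.lift_snd]

theorem isOpenImmersion_kappa [IsOpenImmersion j] : IsOpenImmersion (kappa θ j hj A' φ hb) := by
  unfold kappa; infer_instance

theorem range_kappa [IsOpenImmersion j] : Set.range (kappa θ j hj A' φ hb) =
    Spec.map (CommRingCat.ofHom (Algebra.TensorProduct.includeLeftRingHom : Z →+* Z ⊗[A] A')) ⁻¹' Set.range j := by
  ext z
  have hz : ∀ p, (pullbackSpecIso A Z A').hom p = z → Spec.map (CommRingCat.ofHom (Algebra.TensorProduct.includeLeftRingHom : Z →+* Z ⊗[A] A')) z =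
      pullback.fst (Spec.map (CommRingCat.ofHom (algebraMap A Z))) (Spec.map (CommRingCat.ofHom (algebraMap A A'))) p := fun p hp => by
    rw [← hp, ← Scheme.Hom.comp_apply, pullbackSpecIso_hom_fst]
  have hφ : Set.range φ.hom = Set.univ := φ.hom.homeomorph.surjective.range_eq
  constructor
  · rintro ⟨q, rfl⟩
    rw [Set.mem_preimage, ← Scheme.Hom.comp_apply, kappa_fst, Scheme.Hom.comp_apply]
    exact ⟨_, rfl⟩
  · intro h
    obtain ⟨p, hp⟩ := (pullbackSpecIso A Z A').hom.homeomorph.surjective z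
    rw [Set.mem_preimage, hz p hp] at h
    have : p ∈ Set.range (pullback.map f b (Spec.map (CommRingCat.ofHom (algebraMap A Z)))
        (Spec.map (CommRingCat.ofHom (algebraMap A A'))) j φ.hom θ.hom hj.symm hb) := by
      rw [Scheme.Pullback.range_map, hφ]
      exact ⟨h, trivial⟩
    obtain ⟨q, hq⟩ := this
    exact ⟨q, by rw [kappa, Scheme.Hom.comp_apply, hq]; exact hp⟩

theorem kappa_natural (A'' : Type u) [CommRing A''] [Algebra A A''] {Y'' : Scheme.{u}} {b' : Y'' ⟶ Y}
    (φ' : Y'' ≅ Spec (CommRingCat.of A''))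
    (hb' : b' ≫ θ.hom = φ'.hom ≫ Spec.map (CommRingCat.ofHom (algebraMap A A'')))
    (F : A' →ₐ[A] A'') (c : Y'' ⟶ Y') (hcF : c ≫ φ.hom = φ'.hom ≫ Spec.map (CommRingCat.ofHom F.toRingHom))
    (m : pullback f b' ⟶ pullback f b) (hm1 : m ≫ pullback.fst f b = pullback.fst f b')
    (hm2 : m ≫ pullback.snd f b = pullback.snd f b' ≫ c) :
    m ≫ kappa θ j hj A' φ hb = kappa θ j hj A'' φ' hb' ≫
      Spec.map (CommRingCat.ofHom (Algebra.TensorProduct.map (AlgHom.id A Z) F).toRingHom) := by
  rw [← cancel_mono (pullbackSpecIso A Z A').inv]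
  apply pullback.hom_ext
  · rw [Category.assoc, Category.assoc, Category.assoc, pullbackSpecIso_inv_fst, kappa_fst, reassoc_of% hm1,
      Category.assoc, ← Spec.map_comp, ← kappa_fst θ j hj A'' φ' hb']
    congr 2
    ext z
    simp
  · rw [Category.assoc, Category.assoc, Category.assoc, pullbackSpecIso_inv_snd, kappa_snd, reassoc_of% hm2, hcF,
      Category.assoc, ← Spec.map_comp, ← Category.assoc (pullback.snd f b'), ← kappa_snd θ j hj A'' φ' hb',
      Category.assoc, ← Spec.map_comp]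
    congr 2

/-- The piece cut out by an idempotent inside the open is finite over the base. -/
theorem isFinite_preimage_basicOpen [IsOpenImmersion j] [Module.Finite A Z] (e : Z ⊗[A] A') (he : IsIdempotentElem e)
    (hsub : (PrimeSpectrum.basicOpen e : Set (PrimeSpectrum (Z ⊗[A] A'))) ⊆ Set.range (kappa θ j hj A' φ hb)) :
    IsFinite ((kappa θ j hj A' φ hb ⁻¹ᵁ PrimeSpectrum.basicOpen e).ι ≫ pullback.snd f b) := by
  haveI := isOpenImmersion_kappa θ j hj A' φ hb
  let κ := kappa θ j hj A' φ hb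
  let D : (Spec (CommRingCat.of (Z ⊗[A] A'))).Opens := PrimeSpectrum.basicOpen e
  haveI : Surjective (κ ∣_ D) := ⟨fun z => by
    obtain ⟨q, hq⟩ := hsub z.2
    exact ⟨⟨q, by show κ q ∈ D; rw [hq]; exact z.2⟩, Subtype.ext ((morphismRestrict_base_coe κ D _).trans hq)⟩⟩
  haveI : IsIso (κ ∣_ D) := (isIso_iff_isOpenImmersion_and_surjective _).mpr ⟨inferInstance, inferInstance⟩
  haveI : IsClosedImmersion D.ι := IsClosedImmersion.of_isPreimmersion _ (by
    rw [Scheme.Opens.range_ι]
    exact (PrimeSpectrum.isClopen_iff.2 ⟨e, he, rfl⟩).1)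
  haveI : IsFinite (Spec.map (CommRingCat.ofHom (RingHomClass.toRingHom (Algebra.TensorProduct.includeRight : A' →ₐ[A] Z ⊗[A] A')))) := by
    rw [IsFinite.SpecMap_iff, CommRingCat.hom_ofHom]
    have h : (RingHomClass.toRingHom (Algebra.TensorProduct.includeRight : A' →ₐ[A] Z ⊗[A] A')) =
        ((Algebra.TensorProduct.comm A A' Z).toRingEquiv.toRingHom).comp (algebraMap A' (A' ⊗[A] Z)) := by
      ext a; rfl
    rw [h]
    exact RingHom.Finite.comp (RingHom.Finite.of_surjective _ (Algebra.TensorProduct.comm A A' Z).surjective)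
      (RingHom.finite_algebraMap.2 inferInstance)
  rw [← MorphismProperty.cancel_right_of_respectsIso @IsFinite _ φ.hom, Category.assoc, ← kappa_snd θ j hj A' φ hb,
    ← morphismRestrict_ι_assoc]
  infer_instance

include hj in
theorem exists_idempotent_of_isFinite [IsOpenImmersion j] [Module.Finite A Z] {r : ℕ} (R : Fin r → Z)
    (hR : Set.range j = ⋃ i, (PrimeSpectrum.basicOpen (R i) : Set (PrimeSpectrum Z)))
    (U : (pullback f b).Opens) (hU : IsFinite (U.ι ≫ pullback.snd f b)) :
    ∃ e : Z ⊗[A] A', IsIdempotentElem e ∧ e ∈ Ideal.span (Set.range fun i => R i ⊗ₜ[A] (1 : A')) ∧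
      U = kappa θ j hj A' φ hb ⁻¹ᵁ PrimeSpectrum.basicOpen e := by
  haveI := isOpenImmersion_kappa θ j hj A' φ hb
  let κ := kappa θ j hj A' φ hb
  haveI : IsFinite (U.ι ≫ κ) := by
    haveI : IsFinite ((U.ι ≫ κ) ≫ Spec.map (CommRingCat.ofHom (RingHomClass.toRingHom (Algebra.TensorProduct.includeRight : A' →ₐ[A] Z ⊗[A] A')))) := by
      rw [Category.assoc, kappa_snd, ← Category.assoc]; infer_instance
    exact MorphismProperty.of_postcomp (W := @IsFinite) (W' := @IsSeparated) _
      (Spec.map (CommRingCat.ofHom (RingHomClass.toRingHom (Algebra.TensorProduct.includeRight : A' →ₐ[A] Z ⊗[A] A')))) inferInstance inferInstance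
  have hrange : Set.range (U.ι ≫ κ) = κ '' (U : Set ↥(pullback f b)) := by
    rw [Scheme.Hom.comp_base, TopCat.coe_comp, Set.range_comp, Scheme.Opens.range_ι]
  have hclopen : IsClopen (κ '' (U : Set ↥(pullback f b))) :=
    ⟨hrange ▸ (U.ι ≫ κ).isClosedMap.isClosed_range, κ.isOpenEmbedding.isOpenMap _ U.isOpen⟩
  obtain ⟨e, he, heq⟩ := PrimeSpectrum.isClopen_iff.1 hclopen
  refine ⟨e, he, ?_, ?_⟩
  · have hrad : e ∈ (Ideal.span (Set.range fun i => R i ⊗ₜ[A] (1 : A'))).radical := by
      rw [← PrimeSpectrum.vanishingIdeal_zeroLocus_eq_radical, PrimeSpectrum.mem_vanishingIdeal]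
      intro p hp
      by_contra hep
      have hp' : p ∈ κ '' (U : Set ↥(pullback f b)) := by rw [heq]; exact hep
      have hpr : p ∈ Set.range κ := Set.image_subset_range _ _ hp'
      have hpj : Spec.map (CommRingCat.ofHom (Algebra.TensorProduct.includeLeftRingHom : Z →+* Z ⊗[A] A')) p ∈ Set.range j :=
        (range_kappa θ j hj A' φ hb).le hpr
      obtain ⟨i, hi⟩ := Set.mem_iUnion.1 (hR.le hpj)
      exact hi (hp (Ideal.subset_span ⟨i, rfl⟩))
    obtain ⟨k, hk⟩ := hrad
    rcases k with _ | k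
    · exact (Ideal.eq_top_iff_one _).2 (by simpa using hk) ▸ Submodule.mem_top
    · rwa [he.pow_succ_eq] at hk
  · ext p
    show p ∈ (U : Set ↥(pullback f b)) ↔ κ p ∈ (PrimeSpectrum.basicOpen e : Set (PrimeSpectrum (Z ⊗[A] A')))
    rw [← heq]
    exact (κ.isOpenEmbedding.injective.mem_set_image).symm

end Geometry

open MoreMor in
/-- A universal open, finite over the base. -/
theorem exists_universal_finite_open {X Y : Scheme.{u}} (f : X ⟶ Y) [IsAffine X] [IsAffine Y]
    [LocallyQuasiFinite f] [LocallyOfFinitePresentation f] :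
    ∃ (Yu : Scheme.{u}) (a : Yu ⟶ Y) (Uu : (pullback f a).Opens), LocallyOfFinitePresentation a ∧ QuasiCompact a ∧ QuasiSeparated a ∧
      IsAffine Yu ∧ IsFinite (Uu.ι ≫ pullback.snd f a) ∧
      ∀ (Y' : Scheme.{u}) (b : Y' ⟶ Y) (U' : (pullback f b).Opens), IsAffine Y' → IsFinite (U'.ι ≫ pullback.snd f b) →
        ∃ (c : Y' ⟶ Yu) (hc : c ≫ a = b),
          (pullback.map f b f a (𝟙 X) c (𝟙 Y) ((Category.comp_id f).trans (Category.id_comp f).symm) ((Category.comp_id b).trans hc.symm)) ⁻¹ᵁ Uu = U' := by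
  classical
  let A : Type u := Γ(Y, ⊤)
  let B : Type u := Γ(X, ⊤)
  letI : Algebra A B := f.appTop.hom.toAlgebra
  haveI : Algebra.QuasiFinite A B := (HasRingHomProperty.appTop (P := @LocallyQuasiFinite) f inferInstance :)
  haveI : Algebra.FinitePresentation A B := (HasRingHomProperty.appTop (P := @LocallyOfFinitePresentation) f inferInstance :)
  obtain ⟨Z, _, _, _, _, φ, r, R, hcov, hbij⟩ := exists_finite_fp_algHom (A := A) (B := B)
  haveI : Module.FinitePresentation A Z := .of_finite_of_finitePresentation A Z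
  haveI : IsOpenImmersion (Spec.map (CommRingCat.ofHom φ.toRingHom)) :=
    isOpenImmersion_Spec_of_awayMap_bijective φ.toRingHom R hcov hbij
  let j : X ⟶ Spec (CommRingCat.of Z) := X.isoSpec.hom ≫ Spec.map (CommRingCat.ofHom φ.toRingHom)
  let θ : Y ≅ Spec (CommRingCat.of A) := Y.isoSpec
  have hj : j ≫ Spec.map (CommRingCat.ofHom (algebraMap A Z)) = f ≫ θ.hom := by
    rw [Category.assoc, ← Spec.map_comp, ← CommRingCat.ofHom_comp, AlgHom.toRingHom_eq_coe, AlgHom.comp_algebraMap]
    exact Scheme.isoSpec_hom_naturality f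
  have hR : Set.range j = ⋃ i, (PrimeSpectrum.basicOpen (R i) : Set (PrimeSpectrum Z)) := by
    ext z
    constructor
    · rintro ⟨x, rfl⟩
      obtain ⟨i, hi⟩ := hcov (X.isoSpec.hom x)
      exact Set.mem_iUnion.2 ⟨i, hi⟩
    · intro hz
      obtain ⟨i, hi⟩ := Set.mem_iUnion.1 hz
      obtain ⟨q, hq⟩ := (PrimeSpectrum.localization_away_comap_range (Localization.Away (R i)) (R i)).ge hi
      let e := RingEquiv.ofBijective _ (hbij i)
      have hcomp : e.symm.toRingHom.comp ((algebraMap B (Localization.Away (φ (R i)))).comp φ.toRingHom) =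
          algebraMap Z (Localization.Away (R i)) := by
        ext a
        show e.symm (algebraMap B _ (φ a)) = _
        rw [RingEquiv.symm_apply_eq]
        show algebraMap B (Localization.Away (φ (R i))) (φ a) = Localization.awayMap φ.toRingHom (R i) (algebraMap Z (Localization.Away (R i)) a)
        simp [Localization.awayMap, IsLocalization.Away.map]
      refine ⟨X.isoSpec.inv (PrimeSpectrum.comap (e.symm.toRingHom.comp (algebraMap B (Localization.Away (φ (R i))))) q), ?_⟩
      rw [← Scheme.Hom.comp_apply, Iso.inv_hom_id_assoc]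
      rw [← hq, ← hcomp]
      rfl
  obtain ⟨P, _, _, _, e, he, hemem, huniv⟩ := exists_universal_idempotent A R
  let a : Spec (CommRingCat.of P) ⟶ Y := Spec.map (CommRingCat.ofHom (algebraMap A P)) ≫ θ.inv
  have ha : a ≫ θ.hom = (Iso.refl (Spec (CommRingCat.of P))).hom ≫ Spec.map (CommRingCat.ofHom (algebraMap A P)) := by
    simp [a]
  let Uu : (pullback f a).Opens := kappa θ j hj P (Iso.refl _) ha ⁻¹ᵁ PrimeSpectrum.basicOpen e
  haveI : LocallyOfFinitePresentation (Spec.map (CommRingCat.ofHom (algebraMap A P))) :=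
    LocallyOfFinitePresentation.SpecMap_iff _ |>.2 (RingHom.finitePresentation_algebraMap.2 ‹_›)
  refine ⟨Spec (CommRingCat.of P), a, Uu, inferInstance, inferInstance, inferInstance, inferInstance, ?_, ?_⟩
  · refine isFinite_preimage_basicOpen θ j hj P (Iso.refl _) ha e he ?_
    intro p hp
    refine (range_kappa θ j hj P (Iso.refl _) ha).ge (hR.ge ?_)
    by_contra hcon
    apply hp
    refine Ideal.span_le.2 ?_ hemem
    rintro _ ⟨i, rfl⟩
    exact not_not.1 fun h => hcon (Set.mem_iUnion.2 ⟨i, h⟩)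
  · intro Y' b U' _ hU'
    let A' : Type u := Γ(Y', ⊤)
    letI : Algebra A A' := b.appTop.hom.toAlgebra
    have hb : b ≫ θ.hom = Y'.isoSpec.hom ≫ Spec.map (CommRingCat.ofHom (algebraMap A A')) :=
      (Scheme.isoSpec_hom_naturality b).symm
    obtain ⟨e', he', he'mem, hU'eq⟩ := exists_idempotent_of_isFinite θ j hj A' Y'.isoSpec hb R hR U' hU'
    obtain ⟨F, hF⟩ := huniv A' e' he' he'mem
    have hc : (Y'.isoSpec.hom ≫ Spec.map (CommRingCat.ofHom F.toRingHom)) ≫ a = b := by
      rw [← cancel_mono θ.hom, hb]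
      simp only [a, Category.assoc, Iso.inv_hom_id, Category.comp_id, ← Spec.map_comp, ← CommRingCat.ofHom_comp,
        AlgHom.toRingHom_eq_coe, AlgHom.comp_algebraMap]
    refine ⟨_, hc, ?_⟩
    rw [hU'eq, ← hF]
    have := kappa_natural θ j hj P (Iso.refl _) ha A' Y'.isoSpec hb F _ (by simp) (pullback.map f b f a (𝟙 X) _ (𝟙 Y)
      ((Category.comp_id f).trans (Category.id_comp f).symm) ((Category.comp_id b).trans hc.symm))
      ((pullback.lift_fst _ _ _).trans (Category.comp_id _)) (pullback.lift_snd _ _ _)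
    rw [← Scheme.Hom.comp_preimage, this, Scheme.Hom.comp_preimage]
    rfl

end Groth.Agent.Weighting
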