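import Groth.Agent.Weighting.MaxLocus

/-!
The geometric number of points of the fibres of a flat quasi-finite morphism.
-/

set_option autoImplicit false
set_option linter.style.haveILetI false
universe u

open AlgebraicGeometry CategoryTheory Limits

namespace Groth.Agent.Weighting

variable {X Y V : Scheme.{u}}

/-- A finite piece of a flat morphism has geometric points over a neighbourhood. -/
theorem exists_nhd_card_pos {f : X ⟶ Y} [LocallyOfFinitePresentation f] [Flat f] [LocallyQuasiFinite f]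
    {g : V ⟶ Y} (W : (pullback f g).Opens) [IsFinite (W.ι ≫ pullback.snd f g)] {Ω : Type u} [Field Ω] [IsAlgClosed Ω]
    (v : Spec (CommRingCat.of Ω) ⟶ V) (x : Spec (CommRingCat.of Ω) ⟶ X) (hx : L W v = {x}) :
    ∃ M : V.Opens, pt v ∈ M ∧ ∀ (Ω' : Type u) [Field Ω'] [IsAlgClosed Ω'] (v₁ : Spec (CommRingCat.of Ω') ⟶ V),
      pt v₁ ∈ M → (1 : ℤ) ≤ ∑ᶠ y ∈ L W v₁, 1 := by
  classical
  haveI : Flat (pullback.snd f g) := MorphismProperty.pullback_snd _ _ inferInstance
  haveI : LocallyOfFinitePresentation (pullback.snd f g) := MorphismProperty.pullback_snd _ _ inferInstance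
  let π := W.ι ≫ pullback.snd f g
  haveI : UniversallyOpen π := UniversallyOpen.of_flat π
  obtain ⟨l, hl, -⟩ : x ∈ L W v := hx ▸ rfl
  refine ⟨⟨π '' Set.univ, π.isOpenMap _ isOpen_univ⟩, ⟨pt l, trivial, by rw [← pt_comp]; exact congrArg pt hl⟩,
    fun Ω' _ _ v₁ hv₁ => ?_⟩
  obtain ⟨p, -, hp⟩ := hv₁
  obtain ⟨m, hm, -⟩ := exists_mem_fib_at π v₁ p hp
  have hfin := finite_L W v₁
  rw [finsum_mem_eq_finite_toFinset_sum _ hfin, Finset.sum_const, nsmul_one, Nat.one_le_cast, Nat.one_le_iff_ne_zero,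
    ← Nat.pos_iff_ne_zero, Finset.card_pos]
  exact ⟨_, hfin.mem_toFinset.2 ⟨m, hm, rfl⟩⟩

/-- The number of geometric points of the fibres is lower semicontinuous. -/
theorem lowerSemicontinuous_fibreCard {f : X ⟶ Y} [LocallyOfFinitePresentation f] [Flat f] [LocallyQuasiFinite f]
    [IsSeparated f] (hfin : ∀ y : Y, (f ⁻¹' {y}).Finite) :
    LowerSemicontinuous (MoreMor.fibreIntegral f fun _ => (1 : ℤ)) := by
  classical
  intro y c hc
  obtain ⟨Ω, _, _, v, rfl⟩ := exists_geomPt y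
  have hU : (L (⊤ : (pullback f (𝟙 Y)).Opens) v).Finite := L_top_id f v ▸ finite_fib f v (hfin _)
  obtain ⟨V', h, hh, v', hv', V'', g'', hg'', b, hbg, W, N, hN, hW, hdec⟩ :=
    exists_decomp (⊤ : (pullback f (𝟙 Y)).Opens) v hU
  haveI := locallyQuasiFinite_of_etale h
  have hloc : ∀ x : L (⊤ : (pullback f (𝟙 Y)).Opens) v, ∃ M : V''.Opens, pt (v' ≫ b) ∈ M ∧
      ∀ (Ω' : Type u) [Field Ω'] [IsAlgClosed Ω'] (v₁ : Spec (CommRingCat.of Ω') ⟶ V''),
        pt v₁ ∈ M → (1 : ℤ) ≤ ∑ᶠ y ∈ L (W x.1) v₁, 1 := by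
    intro x
    haveI := (hW x.1 x.2).1
    exact exists_nhd_card_pos (W x.1) (v' ≫ b) x.1 (hW x.1 x.2).2
  choose M hM hMe using hloc
  haveI : Finite (L (⊤ : (pullback f (𝟙 Y)).Opens) v) := hU.to_subtype
  let N' : V'.Opens := ⟨(N : Set V') ∩ ⋂ x, b ⁻¹' (M x : Set V''),
    N.isOpen.inter (isOpen_iInter_of_finite fun x => (M x).isOpen.preimage b.continuous)⟩
  refine Filter.mem_of_superset ((isOpen_image_etale h N').mem_nhds
    ⟨pt v', ⟨hN, Set.mem_iInter.2 fun x => hM x⟩, by rw [← pt_comp, hv']⟩) ?_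
  rintro _ ⟨p, hp, rfl⟩
  obtain ⟨Ω', _, _, v₁, rfl⟩ := exists_geomPt p
  obtain ⟨hsub, hdj, -⟩ := hdec Ω' v₁ hp.1
  show c < MoreMor.fibreIntegral f _ (h (pt v₁))
  rw [← pt_comp, fibreIntegral_eq f _ _ (hfin _), ← L_top_id]
  rw [fibreIntegral_eq f _ v (hfin _), ← L_top_id] at hc
  refine hc.trans_le ?_
  have hfin₁ : (L (⊤ : (pullback f (𝟙 Y)).Opens) (v₁ ≫ h)).Finite :=
    L_top_id f (v₁ ≫ h) ▸ finite_fib f (v₁ ≫ h) (hfin _)
  have hWf : ∀ x ∈ L (⊤ : (pullback f (𝟙 Y)).Opens) v, (L (W x) (v₁ ≫ b)).Finite := fun x hx => by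
    haveI := (hW x hx).1; exact finite_L _ _
  calc ∑ᶠ x ∈ L (⊤ : (pullback f (𝟙 Y)).Opens) v, (1 : ℤ)
      ≤ ∑ᶠ x ∈ L (⊤ : (pullback f (𝟙 Y)).Opens) v, ∑ᶠ y ∈ L (W x) (v₁ ≫ b), (1 : ℤ) := by
        rw [finsum_mem_eq_finite_toFinset_sum _ hU, finsum_mem_eq_finite_toFinset_sum _ hU]
        exact Finset.sum_le_sum fun x hx => hMe ⟨x, hU.mem_toFinset.1 hx⟩ Ω' (v₁ ≫ b)
          (Set.mem_iInter.1 hp.2 ⟨x, hU.mem_toFinset.1 hx⟩)
    _ = ∑ᶠ y ∈ ⋃ x ∈ L (⊤ : (pullback f (𝟙 Y)).Opens) v, L (W x) (v₁ ≫ b), (1 : ℤ) :=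
        (finsum_mem_biUnion hdj hU hWf).symm
    _ ≤ ∑ᶠ y ∈ L (⊤ : (pullback f (𝟙 Y)).Opens) (v₁ ≫ h), (1 : ℤ) := by
        rw [finsum_mem_eq_finite_toFinset_sum _ (hU.biUnion hWf), finsum_mem_eq_finite_toFinset_sum _ hfin₁]
        exact Finset.sum_le_sum_of_subset_of_nonneg
          (Set.Finite.toFinset_subset_toFinset.2 (Set.iUnion₂_subset hsub)) fun _ _ _ => zero_le_one

set_option maxHeartbeats 400000 in
theorem isFinite_restrict_of_fibreCard_eq {f : X ⟶ Y} [LocallyOfFinitePresentation f] [Flat f] [LocallyQuasiFinite f]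
    [IsSeparated f] (hfin : ∀ y : Y, (f ⁻¹' {y}).Finite) (d : ℤ) (Yd : Y.Opens)
    (hYd : ∀ y ∈ Yd, MoreMor.fibreIntegral f (fun _ => 1) y = d) : IsFinite (f ∣_ Yd) := by
  classical
  have hpos : ∀ x : X, (0 : ℤ) < (fun _ => 1) x := fun _ => one_pos
  haveI : UniversallyClosed (f ∣_ Yd) := by
    suffices h : ∀ y ∈ Yd, ∃ D : Y.Opens, y ∈ D ∧ D ≤ Yd ∧ UniversallyClosed (f ∣_ D) by
      choose D hD hDle hUC using fun y : ↥Yd => h y.1 y.2
      have e : ⨆ y, (Yd.ι ⁻¹ᵁ D y) = ⊤ := top_le_iff.1 fun y _ => TopologicalSpace.Opens.mem_iSup.2 ⟨y, hD y⟩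
      rw [IsZariskiLocalAtTarget.iff_of_iSup_eq_top (P := @UniversallyClosed) (fun y => Yd.ι ⁻¹ᵁ D y) e]
      intro y
      rw [MorphismProperty.arrow_mk_iso_iff @UniversallyClosed (morphismRestrictRestrict f Yd (Yd.ι ⁻¹ᵁ D y))]
      have e' : Yd.ι ''ᵁ (Yd.ι ⁻¹ᵁ D y) = D y := by
        rw [Scheme.Hom.image_preimage_eq_opensRange_inf, Scheme.Opens.opensRange_ι, inf_eq_right]
        exact hDle y
      rw [MorphismProperty.arrow_mk_iso_iff @UniversallyClosed (morphismRestrictEq f e')]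
      exact hUC y
    intro y hy
    obtain ⟨Ω, _, _, v, rfl⟩ := exists_geomPt y
    have hU : (L (⊤ : (pullback f (𝟙 Y)).Opens) v).Finite := L_top_id f v ▸ finite_fib f v (hfin _)
    obtain ⟨V', h, hh, v', hv', V'', g'', hg'', b, hbg, W, N, hN, hW, hdec⟩ :=
      exists_decomp (⊤ : (pullback f (𝟙 Y)).Opens) v hU
    haveI := locallyQuasiFinite_of_etale h
    have hloc : ∀ x : L (⊤ : (pullback f (𝟙 Y)).Opens) v, ∃ M : V''.Opens, pt (v' ≫ b) ∈ M ∧
        ∀ (Ω' : Type u) [Field Ω'] [IsAlgClosed Ω'] (v₁ : Spec (CommRingCat.of Ω') ⟶ V''),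
          pt v₁ ∈ M → (1 : ℤ) ≤ ∑ᶠ y ∈ L (W x.1) v₁, 1 := by
      intro x
      haveI := (hW x.1 x.2).1
      exact exists_nhd_card_pos (W x.1) (v' ≫ b) x.1 (hW x.1 x.2).2
    choose M hM hMe using hloc
    haveI : Finite (L (⊤ : (pullback f (𝟙 Y)).Opens) v) := hU.to_subtype
    obtain ⟨SA, hSA, hyA, hAYd⟩ := Y.isBasis_affineOpens.exists_subset_of_mem_open hy Yd.isOpen
    obtain ⟨Ay, hAy, rfl⟩ : ∃ U : Y.Opens, IsAffineOpen U ∧ (U : Set Y) = SA := hSA
    let N' : V'.Opens := ⟨(N : Set V') ∩ (⋂ x, b ⁻¹' (M x : Set V'')) ∩ h ⁻¹' (Ay : Set Y),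
      (N.isOpen.inter (isOpen_iInter_of_finite fun x => (M x).isOpen.preimage b.continuous)).inter
        (Ay.isOpen.preimage h.continuous)⟩
    have hv'N : pt v' ∈ N' := ⟨⟨hN, Set.mem_iInter.2 fun x => hM x⟩, by
      show h (pt v') ∈ Ay
      rw [← pt_comp, hv']; exact hyA⟩
    obtain ⟨SA', hSA', hvA', hA'N⟩ := V'.isBasis_affineOpens.exists_subset_of_mem_open hv'N N'.isOpen
    obtain ⟨A', hA', rfl⟩ : ∃ U : V'.Opens, IsAffineOpen U ∧ (U : Set V') = SA' := hSA'
    let D : Y.Opens := ⟨h '' (A' : Set V'), isOpen_image_etale h A'⟩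
    have hDA : D ≤ Ay := by rintro _ ⟨p, hp, rfl⟩; exact (hA'N hp).2
    have hA'D : A' ≤ h ⁻¹ᵁ D := fun p hp => ⟨p, hp, rfl⟩
    refine ⟨D, ⟨pt v', hvA', by rw [← pt_comp, hv']⟩, hDA.trans hAYd, ?_⟩
    let q : A'.toScheme ⟶ D.toScheme := h.resLE D A' hA'D
    haveI : Surjective q := ⟨fun z => by
      obtain ⟨p, hp, hpz⟩ := z.2
      refine ⟨⟨p, hp⟩, Subtype.ext ?_⟩
      show D.ι (q ⟨p, hp⟩) = _
      rw [← Scheme.Hom.comp_apply, Scheme.Hom.resLE_comp_ι, Scheme.Hom.comp_apply]; exact hpz⟩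
    haveI : IsAffine A'.toScheme := hA'
    haveI : QuasiSeparatedSpace D.toScheme := by
      haveI : IsAffine Ay.toScheme := hAy
      exact quasiSeparatedSpace_of_quasiSeparated (Y.homOfLE hDA)
    haveI : QuasiCompact q := quasiCompact_of_compactSpace q
    haveI : Etale q := inferInstance
    let t : A'.toScheme ⟶ Y := q ≫ D.ι
    have ht : A'.ι ≫ h = t := (Scheme.Hom.resLE_comp_ι _ _).symm
    have hD := isPullback_morphismRestrict f D
    let r := hD.lift (pullback.snd f t ≫ q) (pullback.fst f t) (by rw [Category.assoc]; exact pullback.condition.symm)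
    have hsq : IsPullback (pullback.snd f t) r q (f ∣_ D) :=
      IsPullback.of_bot (by
        rw [hD.lift_snd]; exact (IsPullback.of_hasPullback f t).flip) (hD.lift_fst _ _ _).symm hD
    refine MorphismProperty.of_isPullback_of_descendsAlong (P := (@UniversallyClosed : MorphismProperty Scheme.{u}))
      (Q := (@Surjective : MorphismProperty Scheme.{u}) ⊓ @Flat ⊓ @QuasiCompact) hsq
      ⟨⟨inferInstance, inferInstance⟩, inferInstance⟩ ?_
    have hbt : (A'.ι ≫ b) ≫ g'' = t := by rw [Category.assoc, hbg, Category.comp_id, ht]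
    refine universallyClosed_of_finite_cover (pullback.snd f t)
      (fun x : L (⊤ : (pullback f (𝟙 Y)).Opens) v => bc (A'.ι ≫ b) hbt (W x.1))
      (fun x => isFinite_bc _ _ (hW x.1 x.2).1) fun p => ?_
    obtain ⟨Ω', _, _, l, rfl⟩ := exists_geomPt p
    let x₁ := l ≫ pullback.fst f t
    let v₁ := l ≫ pullback.snd f t ≫ A'.ι
    have hv₁ : pt v₁ ∈ N' := by
      have : pt v₁ = A'.ι (pt (l ≫ pullback.snd f t)) := by rw [← pt_comp]; simp [v₁]
      rw [this]; exact hA'N (pt (l ≫ pullback.snd f t)).2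
    have hx₁ : x₁ ∈ Fib f (v₁ ≫ h) := by
      show x₁ ≫ f = v₁ ≫ h
      simp only [x₁, v₁, Category.assoc, ht]; rw [pullback.condition]
    obtain ⟨hsub, hdj, -⟩ := hdec Ω' v₁ hv₁.1.1
    have hfin₁ : (L (⊤ : (pullback f (𝟙 Y)).Opens) (v₁ ≫ h)).Finite :=
      L_top_id f (v₁ ≫ h) ▸ finite_fib f (v₁ ≫ h) (hfin _)
    have hWf : ∀ x ∈ L (⊤ : (pullback f (𝟙 Y)).Opens) v, (L (W x) (v₁ ≫ b)).Finite := fun x hx => by
      haveI := (hW x hx).1; exact finite_L _ _
    have hs : ⋃ x ∈ L (⊤ : (pullback f (𝟙 Y)).Opens) v, L (W x) (v₁ ≫ b) ⊆ L ⊤ (v₁ ≫ h) :=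
      Set.iUnion₂_subset hsub
    have hx₂ : x₁ ∈ ⋃ x ∈ L (⊤ : (pullback f (𝟙 Y)).Opens) v, L (W x) (v₁ ≫ b) := by
      by_contra hcon
      have hlt := Finset.sum_lt_sum_of_subset (f := fun _ => (1 : ℤ))
        (Set.Finite.toFinset_subset_toFinset.2 hs : (hU.biUnion hWf).toFinset ⊆ hfin₁.toFinset)
        (hfin₁.mem_toFinset.2 (by rw [L_top_id]; exact hx₁)) (fun hh => hcon ((hU.biUnion hWf).mem_toFinset.1 hh))
        one_pos (fun y _ _ => zero_le_one)
      rw [← finsum_mem_eq_finite_toFinset_sum _ (hU.biUnion hWf), ← finsum_mem_eq_finite_toFinset_sum _ hfin₁,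
        finsum_mem_biUnion hdj hU hWf, finsum_mem_eq_finite_toFinset_sum _ hU] at hlt
      have hge : ∑ x ∈ hU.toFinset, (1 : ℤ) ≤ ∑ x ∈ hU.toFinset, ∑ᶠ y ∈ L (W x) (v₁ ≫ b), (1 : ℤ) :=
        Finset.sum_le_sum fun x hx => hMe ⟨x, hU.mem_toFinset.1 hx⟩ Ω' (v₁ ≫ b)
          (by rw [pt_comp]; exact Set.mem_iInter.1 hv₁.1.2 ⟨x, hU.mem_toFinset.1 hx⟩)
      rw [← finsum_mem_eq_finite_toFinset_sum _ hU] at hge
      have e1 : ∑ᶠ y ∈ L (⊤ : (pullback f (𝟙 Y)).Opens) v, (1 : ℤ) = d := by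
        rw [L_top_id, ← fibreIntegral_eq f (fun _ => (1:ℤ)) v (hfin _), hYd _ hy]
      have e2 : ∑ᶠ y ∈ L (⊤ : (pullback f (𝟙 Y)).Opens) (v₁ ≫ h), (1 : ℤ) = d := by
        rw [L_top_id, ← fibreIntegral_eq f (fun _ => (1:ℤ)) _ (hfin _), hYd]
        exact hAYd (by show pt (v₁ ≫ h) ∈ Ay; rw [pt_comp]; exact hv₁.2)
      rw [e1] at hge
      rw [e2] at hlt
      exact (hlt.trans_le hge).false
    obtain ⟨x, hx, hxW⟩ := Set.mem_iUnion₂.1 hx₂
    refine ⟨⟨x, hx⟩, ?_⟩
    have hl : x₁ ∈ L (bc (A'.ι ≫ b) hbt (W x)) (l ≫ pullback.snd f t) := by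
      rw [L_bc]; simpa only [v₁, Category.assoc] using hxW
    obtain ⟨e, he⟩ := mem_L_iff.1 hl
    rwa [show pullback.lift x₁ (l ≫ pullback.snd f t) e = l from pullback.hom_ext (pullback.lift_fst _ _ _) (pullback.lift_snd _ _ _)] at he
  haveI : IsProper (f ∣_ Yd) := ⟨⟩
  exact IsFinite.of_isProper_of_locallyQuasiFinite _

/-- The number of connected components of a geometric fibre is the number of its geometric points. -/
theorem nGeomConnComp_eq (f : X ⟶ Y) [LocallyQuasiFinite f] [LocallyOfFiniteType f] (hfin : ∀ y : Y, (f ⁻¹' {y}).Finite)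
    (y : Y) : MoreMor.nGeomConnComp f y = ((MoreMor.fibreIntegral f (fun _ => (1 : ℤ)) y).toNat : ℕ∞) := by
  classical
  let K := SeparableClosure (Y.residueField y)
  let z : Spec (CommRingCat.of K) ⟶ Y :=
    Spec.map (CommRingCat.ofHom (algebraMap (Y.residueField y) K)) ≫ Y.fromSpecResidueField y
  let P := pullback f z
  let π := pullback.snd f z
  haveI : LocallyQuasiFinite π := MorphismProperty.pullback_snd _ _ inferInstance
  let w : Spec (CommRingCat.of (AlgebraicClosure K)) ⟶ Spec (CommRingCat.of K) :=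
    Spec.map (CommRingCat.ofHom (algebraMap K (AlgebraicClosure K)))
  let v := w ≫ z
  have hv : pt v = y := by
    rw [pt_comp, Scheme.Hom.comp_apply]
    exact Y.fromSpecResidueField_apply y _
  haveI : IsLocallyArtinian P :=
    @IsLocallyArtinian.of_locallyQuasiFinite _ _ π inferInstance
      (inferInstanceAs (IsLocallyArtinian (Spec (CommRingCat.of K))))
  haveI : DiscreteTopology P := inferInstance
  have hcard : MoreMor.nGeomConnComp f y = ENat.card P := by
    let e := (pullbackLeftPullbackSndIso f (Y.fromSpecResidueField y)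
        (Spec.map (CommRingCat.ofHom (algebraMap (Y.residueField y) K)))).hom.homeomorph
    haveI hdg : DiscreteTopology (MoreMor.geomFiber f y) :=
      @Homeomorph.discreteTopology _ _ _ _ ‹DiscreteTopology P› e.symm
    refine (ENat.card_congr (Equiv.ofBijective ConnectedComponents.mk ⟨?_, ConnectedComponents.surjective_coe⟩).symm).trans
      (ENat.card_congr e.toEquiv)
    intro a b h
    have := ConnectedComponents.coe_eq_coe'.1 h
    rw [connectedComponent_eq_singleton] at this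
    exact this
  have hpi : ∀ (q : P) (a b : Spec (CommRingCat.of (AlgebraicClosure K)) ⟶ P),
      a ∈ Fib π w → b ∈ Fib π w → pt a = q → pt b = q → a = b := by
    intro q a b ha hb haq hbq
    let ι : CommRingCat.of K ⟶ P.residueField q := Spec.preimage (P.fromSpecResidueField q ≫ π)
    have hι : Spec.map ι = P.fromSpecResidueField q ≫ π := Spec.map_preimage _
    letI : Algebra K (P.residueField q) := ι.hom.toAlgebra
    have hlqf : LocallyQuasiFinite (Spec.map ι) := by rw [hι]; infer_instance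
    have hqf : ι.hom.QuasiFinite := (HasRingHomProperty.Spec_iff (P := @LocallyQuasiFinite)).1 hlqf
    haveI : Algebra.QuasiFinite K (P.residueField q) := hqf
    haveI : Module.Finite K (P.residueField q) := Module.Finite.of_quasiFinite
    haveI : IsPurelyInseparable K (P.residueField q) := inferInstance
    have hfac : ∀ c : Spec (CommRingCat.of (AlgebraicClosure K)) ⟶ P, c ∈ Fib π w → pt c = q →
        ∃ φ : P.residueField q →ₐ[K] AlgebraicClosure K,
          Spec.map (CommRingCat.ofHom φ.toRingHom) ≫ P.fromSpecResidueField q = c := by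
      intro c hc hcq
      let τ := Scheme.SpecToEquivOfField (AlgebraicClosure K) P c
      let φ0 : P.residueField q ⟶ CommRingCat.of (AlgebraicClosure K) :=
        (P.residueFieldCongr (show q = τ.1 from hcq.symm)).hom ≫ τ.2
      have hφ0 : Spec.map φ0 ≫ P.fromSpecResidueField q = c := by
        simp only [φ0, Spec.map_comp, Category.assoc, Scheme.residueFieldCongr_fromSpecResidueField]
        exact (Scheme.SpecToEquivOfField (AlgebraicClosure K) P).left_inv c
      have hk : ι ≫ φ0 = CommRingCat.ofHom (algebraMap K (AlgebraicClosure K)) := by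
        apply Spec.map_injective
        rw [Spec.map_comp, hι, ← Category.assoc, hφ0]
        exact hc
      exact ⟨{ toRingHom := φ0.hom, commutes' := fun k => congrArg (fun m => m.hom k) hk }, hφ0⟩
    obtain ⟨φa, hφa⟩ := hfac a ha haq
    obtain ⟨φb, hφb⟩ := hfac b hb hbq
    rw [← hφa, ← hφb, Subsingleton.elim φa φb]
  have hbij : Function.Bijective fun l : Fib π w => pt l.1 := by
    refine ⟨fun a b e => Subtype.ext (hpi _ a.1 b.1 a.2 b.2 rfl e.symm), fun q => ?_⟩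
    haveI : Subsingleton (Spec (CommRingCat.of K)) := inferInstanceAs (Subsingleton (PrimeSpectrum K))
    obtain ⟨l, hl, hlq⟩ := exists_mem_fib_at π w q (Subsingleton.elim _ _)
    exact ⟨⟨l, hl⟩, hlq⟩
  have hFib : Fib π w ≃ Fib f v :=
    { toFun := fun l => ⟨l.1 ≫ pullback.fst f z, by
        show (l.1 ≫ _) ≫ f = v
        rw [Category.assoc, pullback.condition, ← Category.assoc]
        exact congrArg (· ≫ z) l.2⟩
      invFun := fun m => ⟨pullback.lift m.1 w m.2, pullback.lift_snd _ _ _⟩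
      left_inv := fun l => Subtype.ext (pullback.hom_ext (pullback.lift_fst _ _ _)
        ((pullback.lift_snd _ _ _).trans l.2.symm))
      right_inv := fun m => Subtype.ext (pullback.lift_fst _ _ _) }
  have hfv := finite_fib f v (hfin _)
  rw [hcard, ← ENat.card_congr (Equiv.ofBijective _ hbij), ENat.card_congr hFib,
    show MoreMor.fibreIntegral f (fun _ => (1 : ℤ)) y = _ from (congrArg _ hv).symm.trans (fibreIntegral_eq f _ v (hfin _)),
    finsum_mem_eq_finite_toFinset_sum _ hfv, Finset.sum_const, nsmul_one, Int.toNat_natCast]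
  haveI := hfv.fintype
  rw [ENat.card_eq_coe_fintype_card, Set.Finite.card_toFinset]

end Groth.Agent.Weighting
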