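import Groth.Agent.Weighting.LimLC
import Groth.Agent.Weighting.UnivOpen
import Groth.Agent.LimDesc.Tower

/-!
Testing weightings on a universal open finite over the base, and descending them along limits.
-/

set_option autoImplicit false
set_option linter.style.haveILetI false
universe u

open AlgebraicGeometry CategoryTheory Limits Topology

namespace Groth.Agent.Weighting

variable {X₀ Y₀ Yu B V : Scheme.{u}} (f₀ : X₀ ⟶ Y₀) (a : Yu ⟶ Y₀) (Uu : (pullback f₀ a).Opens)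

/-- The value of `wB` at the point of `X₀ ×_{Y₀} B` given by a pair of geometric points. -/
noncomputable def val (b : B ⟶ Y₀) (wB : ↥(pullback f₀ b) → ℤ) {Ω : Type u} [Field Ω]
    (β : Spec (CommRingCat.of Ω) ⟶ B) (y : Spec (CommRingCat.of Ω) ⟶ X₀) : ℤ :=
  open Classical in if h : y ≫ f₀ = β ≫ b then wB (pt (pullback.lift y β (h.trans (by simp)))) else 0

/-- The pullback of `Uu` to `(X₀ ×_{Y₀} B) ×_B V`. -/
noncomputable def UB (b : B ⟶ Y₀) (g : V ⟶ B) (c : V ⟶ Yu) (hc : c ≫ a = g ≫ b) :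
    (pullback (pullback.snd f₀ b) g).Opens :=
  (pullbackLeftPullbackSndIso f₀ b g).hom ⁻¹ᵁ bc c hc Uu

variable {f₀ a Uu}

theorem isFinite_UB [IsFinite (Uu.ι ≫ pullback.snd f₀ a)] (b : B ⟶ Y₀) (g : V ⟶ B) (c : V ⟶ Yu) (hc : c ≫ a = g ≫ b) :
    IsFinite ((UB f₀ a Uu b g c hc).ι ≫ pullback.snd (pullback.snd f₀ b) g) := by
  haveI := isFinite_bc (f := f₀) c hc (W := Uu) ‹_›
  unfold UB
  rw [← pullbackLeftPullbackSndIso_hom_snd, ← morphismRestrict_ι_assoc, MorphismProperty.cancel_left_of_respectsIso @IsFinite]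
  assumption

variable (f₀ a Uu) in
/-- The fibre integral of `wB` along the pullback of `Uu`. -/
noncomputable def J (b : B ⟶ Y₀) (wB : ↥(pullback f₀ b) → ℤ) (g : V ⟶ B) (c : V ⟶ Yu) (hc : c ≫ a = g ≫ b) : V → ℤ :=
  MoreMor.fibreIntegral ((UB f₀ a Uu b g c hc).ι ≫ pullback.snd (pullback.snd f₀ b) g)
    fun p => wB (pullback.fst (pullback.snd f₀ b) g ((UB f₀ a Uu b g c hc).ι p))

theorem J_eq [LocallyQuasiFinite f₀] [IsFinite (Uu.ι ≫ pullback.snd f₀ a)] (b : B ⟶ Y₀) (wB : ↥(pullback f₀ b) → ℤ)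
    (g : V ⟶ B) (c : V ⟶ Yu) (hc : c ≫ a = g ≫ b) {Ω : Type u} [Field Ω] [IsAlgClosed Ω] (v : Spec (CommRingCat.of Ω) ⟶ V) :
    J f₀ a Uu b wB g c hc (pt v) = ∑ᶠ y ∈ L Uu (v ≫ c), val f₀ b wB (v ≫ g) y := by
  haveI := isFinite_UB (f₀ := f₀) (Uu := Uu) b g c hc
  rw [J, fibreIntegral_eq_L (UB f₀ a Uu b g c hc) wB v, ← L_bc c hc Uu v]
  refine finsum_mem_eq_of_bijOn (fun x => x ≫ pullback.fst f₀ b) ⟨?_, ?_, ?_⟩ ?_
  · intro x hx
    obtain ⟨h, hp⟩ := mem_L_iff.1 hx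
    have h' : (x ≫ pullback.fst f₀ b) ≫ f₀ = v ≫ g ≫ b := by
      rw [Category.assoc, pullback.condition, reassoc_of% h]
    refine mem_L_iff.2 ⟨h', ?_⟩
    have hp' : (pullbackLeftPullbackSndIso f₀ b g).hom (pt (pullback.lift x v h)) ∈ bc c hc Uu := hp
    rw [← pt_comp] at hp'
    convert hp' using 2
    apply pullback.hom_ext
    · rw [pullback.lift_fst, Category.assoc, pullbackLeftPullbackSndIso_hom_fst, ← Category.assoc, pullback.lift_fst]
    · rw [pullback.lift_snd, Category.assoc, pullbackLeftPullbackSndIso_hom_snd, pullback.lift_snd]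
  · intro x hx x' hx' e
    apply pullback.hom_ext e
    rw [comp_eq_of_mem_L hx, comp_eq_of_mem_L hx']
  · intro y hy
    obtain ⟨h, hp⟩ := mem_L_iff.1 hy
    have h' : y ≫ f₀ = (v ≫ g) ≫ b := by rw [Category.assoc]; exact h
    refine ⟨pullback.lift y (v ≫ g) h', mem_L_iff.2 ⟨pullback.lift_snd _ _ _, ?_⟩, pullback.lift_fst _ _ _⟩
    show (pullbackLeftPullbackSndIso f₀ b g).hom _ ∈ bc c hc Uu
    rw [← pt_comp]
    convert hp using 2
    apply pullback.hom_ext
    · rw [pullback.lift_fst, Category.assoc, pullbackLeftPullbackSndIso_hom_fst, ← Category.assoc, pullback.lift_fst, pullback.lift_fst]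
    · rw [pullback.lift_snd, Category.assoc, pullbackLeftPullbackSndIso_hom_snd, pullback.lift_snd]
  · intro x hx
    have h := comp_eq_of_mem_L hx
    have h' : (x ≫ pullback.fst f₀ b) ≫ f₀ = (v ≫ g) ≫ b := by
      rw [Category.assoc, pullback.condition, ← Category.assoc, h]
    show wB (pt x) = val f₀ b wB (v ≫ g) (x ≫ pullback.fst f₀ b)
    rw [val, dif_pos h']
    congr 2
    apply pullback.hom_ext
    · rw [pullback.lift_fst]
    · rw [pullback.lift_snd, h]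

theorem val_bcMap {B' : Scheme.{u}} (b : B ⟶ Y₀) (d : B' ⟶ B) {b' : B' ⟶ Y₀} (hd : d ≫ b = b') (wB : ↥(pullback f₀ b) → ℤ)
    {Ω : Type u} [Field Ω] (β : Spec (CommRingCat.of Ω) ⟶ B') (y : Spec (CommRingCat.of Ω) ⟶ X₀) :
    val f₀ b' (fun p => wB (bcMap d hd p)) β y = val f₀ b wB (β ≫ d) y := by
  subst hd
  by_cases h : y ≫ f₀ = β ≫ d ≫ b
  · rw [val, val, dif_pos h, dif_pos (by rw [Category.assoc]; exact h)]
    show wB (bcMap d rfl (pt _)) = _
    rw [← pt_comp]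
    congr 2
    apply pullback.hom_ext
    · rw [Category.assoc, bcMap_fst, pullback.lift_fst, pullback.lift_fst]
    · rw [Category.assoc, bcMap_snd, pullback.lift_snd_assoc, pullback.lift_snd]
  · rw [val, val, dif_neg h, dif_neg (by rw [Category.assoc]; exact h)]

theorem J_bcMap [LocallyQuasiFinite f₀] [IsFinite (Uu.ι ≫ pullback.snd f₀ a)] {B' V' : Scheme.{u}} (b : B ⟶ Y₀)
    (d : B' ⟶ B) {b' : B' ⟶ Y₀} (hd : d ≫ b = b') (wB : ↥(pullback f₀ b) → ℤ)
    (g : V ⟶ B) (c : V ⟶ Yu) (hc : c ≫ a = g ≫ b) (g' : V' ⟶ B') (c' : V' ⟶ Yu) (hc' : c' ≫ a = g' ≫ b')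
    (k : V' ⟶ V) (hkg : k ≫ g = g' ≫ d) (hkc : k ≫ c = c') (p : V') :
    J f₀ a Uu b' (fun p => wB (bcMap d hd p)) g' c' hc' p = J f₀ a Uu b wB g c hc (k p) := by
  obtain ⟨Ω, _, _, v, rfl⟩ := exists_geomPt p
  rw [← pt_comp, J_eq, J_eq, Category.assoc, hkc, Category.assoc, hkg]
  refine finsum_mem_congr rfl fun y _ => ?_
  rw [val_bcMap, Category.assoc]

theorem constrLC_J [LocallyOfFinitePresentation f₀] [IsFinite (Uu.ι ≫ pullback.snd f₀ a)] [IsAffine V] (b : B ⟶ Y₀)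
    {wB : ↥(pullback f₀ b) → ℤ} (hwB : ConstrLC wB) (g : V ⟶ B) (c : V ⟶ Yu) (hc : c ≫ a = g ≫ b) :
    ConstrLC (J f₀ a Uu b wB g c hc) := by
  haveI := isFinite_UB (f₀ := f₀) (Uu := Uu) b g c hc
  have h := ConstrLC.comp hwB ((UB f₀ a Uu b g c hc).ι ≫ pullback.fst (pullback.snd f₀ b) g)
  exact ConstrLC.fibreIntegral _ h

theorem isLocallyConstant_J [LocallyQuasiFinite f₀] [LocallyOfFinitePresentation f₀] [IsFinite (Uu.ι ≫ pullback.snd f₀ a)]
    (b : B ⟶ Y₀) {wB : ↥(pullback f₀ b) → ℤ} (hw : MoreMor.IsWeighting (pullback.snd f₀ b) wB)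
    (g : V ⟶ B) (c : V ⟶ Yu) (hc : c ≫ a = g ≫ b) : IsLocallyConstant (J f₀ a Uu b wB g c hc) := by
  haveI := isFinite_UB (f₀ := f₀) (Uu := Uu) b g c hc
  exact isLocallyConstant_fibreIntegral hw g (UB f₀ a Uu b g c hc)

variable (Uu) in
/-- `wB` is a weighting as soon as its fibre integral along the universal open is locally constant. -/
theorem isWeighting_of_universal [LocallyQuasiFinite f₀] [LocallyOfFinitePresentation f₀] [IsFinite (Uu.ι ≫ pullback.snd f₀ a)]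
    (huniv : ∀ (Y' : Scheme.{u}) (b : Y' ⟶ Y₀) (U' : (pullback f₀ b).Opens), IsAffine Y' → IsFinite (U'.ι ≫ pullback.snd f₀ b) →
      ∃ (c : Y' ⟶ Yu) (hc : c ≫ a = b), bc c hc Uu = U')
    (b : B ⟶ Y₀) (wB : ↥(pullback f₀ b) → ℤ)
    (hJ : IsLocallyConstant (J f₀ a Uu b wB (pullback.snd a b) (pullback.fst a b) pullback.condition)) :
    MoreMor.IsWeighting (pullback.snd f₀ b) wB := by
  intro V g _ U hU
  rw [IsLocallyConstant.iff_exists_open]
  intro p
  obtain ⟨SA, hSA, hpA, -⟩ := V.isBasis_affineOpens.exists_subset_of_mem_open (Set.mem_univ p) isOpen_univ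
  obtain ⟨A, hA, rfl⟩ : ∃ O : V.Opens, IsAffineOpen O ∧ (O : Set V) = SA := hSA
  let g' := A.ι ≫ g
  let U' : (pullback (pullback.snd f₀ b) g').Opens := bc A.ι rfl U
  haveI hU' : IsFinite (U'.ι ≫ pullback.snd (pullback.snd f₀ b) g') := isFinite_bc _ _ hU
  let e := pullbackLeftPullbackSndIso f₀ b g'
  let U'' : (pullback f₀ (g' ≫ b)).Opens := e.inv ⁻¹ᵁ U'
  have hU'' : IsFinite (U''.ι ≫ pullback.snd f₀ (g' ≫ b)) := by
    have : U''.ι ≫ pullback.snd f₀ (g' ≫ b) = (e.inv ∣_ U') ≫ U'.ι ≫ pullback.snd (pullback.snd f₀ b) g' := by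
      rw [morphismRestrict_ι_assoc, (Iso.inv_comp_eq e).2 (pullbackLeftPullbackSndIso_hom_snd f₀ b g').symm]
    rw [this, MorphismProperty.cancel_left_of_respectsIso @IsFinite]; exact hU' 
  obtain ⟨c, hc, hcU⟩ := huniv A.toScheme (g' ≫ b) U'' hA hU''
  have hUB : UB f₀ a Uu b g' c hc = U' := by
    rw [UB, hcU]
    show e.hom ⁻¹ᵁ e.inv ⁻¹ᵁ U' = U'
    rw [← Scheme.Hom.comp_preimage, Iso.hom_inv_id]
    rfl
  let k : A.toScheme ⟶ pullback a b := pullback.lift c g' hc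
  have key : ∀ q : A.toScheme, MoreMor.fibreIntegral (U.ι ≫ pullback.snd (pullback.snd f₀ b) g)
      (fun u => wB (pullback.fst (pullback.snd f₀ b) g (U.ι u))) (A.ι q) =
      J f₀ a Uu b wB (pullback.snd a b) (pullback.fst a b) pullback.condition (k q) := by
    intro q
    haveI := hU
    obtain ⟨Ω, _, _, v, rfl⟩ := exists_geomPt q
    haveI : LocallyQuasiFinite (pullback.snd f₀ b) := MorphismProperty.pullback_snd _ _ inferInstance
    rw [← pt_comp, fibreIntegral_eq_L U wB (v ≫ A.ι), ← L_bc A.ι rfl U v, ← fibreIntegral_eq_L U' wB v]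
    show MoreMor.fibreIntegral (U'.ι ≫ _) (fun u => wB (pullback.fst _ g' (U'.ι u))) (pt v) = _
    rw [← pt_comp, J_eq]
    have h2 := J_eq (Uu := Uu) b wB g' c hc v
    rw [J, hUB] at h2
    refine h2.trans ?_
    rw [Category.assoc, pullback.lift_fst, Category.assoc, pullback.lift_snd]
  obtain ⟨O, hO, hpO, hconst⟩ := (IsLocallyConstant.iff_exists_open _).1 hJ (k ⟨p, hpA⟩)
  refine ⟨A.ι '' (k ⁻¹' O), A.ι.isOpenEmbedding.isOpenMap _ (hO.preimage k.continuous), ⟨⟨p, hpA⟩, hpO, rfl⟩, ?_⟩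
  rintro _ ⟨q, hq, rfl⟩
  rw [key q, ← show A.ι ⟨p, hpA⟩ = p from rfl, key ⟨p, hpA⟩]
  exact hconst _ hq

set_option maxHeartbeats 400000 in
/-- Weightings descend along cofiltered limits of affine schemes. -/
theorem exists_descend_weighting {I : Type u} [SmallCategory I] [IsCofiltered I] (D : I ⥤ Scheme.{u}) (c : Cone D)
    (hc : IsLimit c) [∀ i, IsAffine (D.obj i)] (i₀ : I) {X0 : Scheme.{u}} [IsAffine X0] (f₀ : X0 ⟶ D.obj i₀)
    [LocallyQuasiFinite f₀] [LocallyOfFinitePresentation f₀] (w : ↥(pullback f₀ (c.π.app i₀)) → ℤ)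
    (hw : MoreMor.IsWeighting (pullback.snd f₀ (c.π.app i₀)) w) :
    ∃ (j : Over i₀) (wj : ↥(pullback f₀ (D.map j.hom)) → ℤ), MoreMor.IsWeighting (pullback.snd f₀ (D.map j.hom)) wj ∧
      ∀ x, wj (bcMap (c.π.app j.left) (c.w j.hom) x) = w x := by
  classical
  haveI : ∀ {i j} (f : i ⟶ j), IsAffineHom (D.map f) := fun f => inferInstance
  haveI := isAffine_pt D c hc
  obtain ⟨Yu, a, Uu, haL, haQ, -, haA, hfin, huniv₀⟩ := exists_universal_finite_open f₀
  have huniv : ∀ (Y' : Scheme.{u}) (b : Y' ⟶ D.obj i₀) (U' : (pullback f₀ b).Opens), IsAffine Y' →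
      IsFinite (U'.ι ≫ pullback.snd f₀ b) → ∃ (c : Y' ⟶ Yu) (hc : c ≫ a = b), bc c hc Uu = U' := by
    intro Y' b U' hY' hU'
    obtain ⟨c', hc', he⟩ := huniv₀ Y' b U' hY' hU'
    refine ⟨c', hc', ?_⟩
    rw [← he, bc]
    congr 2
    first
      | done
      | (apply pullback.hom_ext
         · rw [bcMap_fst, pullback.map, pullback.lift_fst, Category.comp_id]
         · rw [bcMap_snd, pullback.map, pullback.lift_snd])
  have hX := IsPullback.of_hasPullback f₀ (c.π.app i₀)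
  have hcT := LimDesc.isLimitTowerCone D f₀ c hX hc
  haveI : ∀ j, IsAffine ((LimDesc.tower D f₀).obj j) := fun j => inferInstanceAs (IsAffine (pullback f₀ (D.map j.hom)))
  haveI : IsAffine (((Functor.const I).obj c.pt).obj i₀) := ‹IsAffine c.pt›
  haveI : IsAffine (pullback f₀ (c.π.app i₀)) := inferInstance
  haveI : IsAffine (LimDesc.towerCone D f₀ c hX).pt := ‹IsAffine (pullback f₀ (c.π.app i₀))›
  haveI : LocallyOfFiniteType (pullback.snd f₀ (c.π.app i₀)) := MorphismProperty.pullback_snd _ _ inferInstance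
  haveI : LocallyQuasiFinite (pullback.snd f₀ (c.π.app i₀)) := MorphismProperty.pullback_snd _ _ inferInstance
  have hwc : ConstrLC w := constrLC_of_isWeighting hw
  obtain ⟨j₁, w₁, hw₁, hw₁e⟩ := exists_constrLC_preimage (LimDesc.tower D f₀) (LimDesc.towerCone D f₀ c hX) hcT w hwc
  have hbc₁ : ∀ x, w₁ (bcMap (c.π.app j₁.left) (c.w j₁.hom) x) = w x := by
    intro x
    rw [← hw₁e x]
    rfl
  have hY := IsPullback.of_hasPullback a (c.π.app i₀)
  have hcU := LimDesc.isLimitTowerCone D a c hY hc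
  haveI : ∀ j, IsAffine ((LimDesc.tower D a).obj j) := fun j => inferInstanceAs (IsAffine (pullback a (D.map j.hom)))
  let J₁ := J f₀ a Uu (D.map j₁.hom) w₁ (pullback.snd a (D.map j₁.hom)) (pullback.fst a (D.map j₁.hom)) pullback.condition
  have hJ₁ : ConstrLC J₁ := constrLC_J _ hw₁ _ _ _
  have hJlim : IsLocallyConstant fun x => J₁ ((LimDesc.towerCone D a c hY).π.app j₁ x) := by
    have h := isLocallyConstant_J (Uu := Uu) (c.π.app i₀) hw (pullback.snd a (c.π.app i₀)) (pullback.fst a (c.π.app i₀)) pullback.condition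
    have e : ∀ x : ↥(pullback a (c.π.app i₀)), J f₀ a Uu (c.π.app i₀) w (pullback.snd a (c.π.app i₀))
        (pullback.fst a (c.π.app i₀)) pullback.condition x = J₁ (LimDesc.proj D a c hY j₁ x) := fun x => by
      rw [show w = fun p => w₁ (bcMap (c.π.app j₁.left) (c.w j₁.hom) p) from funext fun p => (hbc₁ p).symm]
      exact J_bcMap (Uu := Uu) (D.map j₁.hom) (c.π.app j₁.left) (c.w j₁.hom) w₁ _ _ pullback.condition _ _ pullback.condition
        (LimDesc.proj D a c hY j₁) (LimDesc.proj_toStage D a c hY j₁) (LimDesc.proj_toBase D a c hY j₁) x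
    rw [funext e] at h
    exact h
  obtain ⟨j, q, hq⟩ := exists_isLocallyConstant (LimDesc.tower D a) (LimDesc.towerCone D a c hY) hcU J₁ hJ₁ hJlim
  have hqw : D.map q.left ≫ D.map j₁.hom = D.map j.hom := by rw [← D.map_comp, Over.w q]
  refine ⟨j, fun p => w₁ (bcMap (D.map q.left) hqw p), isWeighting_of_universal Uu huniv _ _ ?_, fun x => ?_⟩
  · have e : ∀ p : ↥(pullback a (D.map j.hom)), J f₀ a Uu (D.map j.hom) (fun p => w₁ (bcMap (D.map q.left) hqw p))
        (pullback.snd a (D.map j.hom)) (pullback.fst a (D.map j.hom)) pullback.condition p = J₁ (LimDesc.trans D a q p) := fun p =>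
      J_bcMap (Uu := Uu) (D.map j₁.hom) (D.map q.left) hqw w₁ _ _ pullback.condition _ _ pullback.condition
        (LimDesc.trans D a q) (LimDesc.trans_toStage D a q) (LimDesc.trans_toBase D a q) p
    rw [funext e]
    exact hq
  · show w₁ (bcMap (D.map q.left) hqw (bcMap (c.π.app j.left) (c.w j.hom) x)) = w x
    have e : bcMap (c.π.app j.left) (c.w j.hom) ≫ bcMap (f := f₀) (D.map q.left) hqw = bcMap (c.π.app j₁.left) (c.w j₁.hom) := by
      apply pullback.hom_ext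
      · rw [Category.assoc, bcMap_fst, bcMap_fst, bcMap_fst]
      · rw [Category.assoc, bcMap_snd, reassoc_of% (bcMap_snd (f := f₀) (c.π.app j.left) (c.w j.hom)), bcMap_snd, c.w q.left]
    rw [← Scheme.Hom.comp_apply, e]
    exact hbc₁ x

end Groth.Agent.Weighting
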