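import Groth.Agent.Weighting.Geom

/-!
Opens of a base change `X ×_Y V`, finite over `V`, and the geometric points of their fibres (seen as
geometric points of `X`): behaviour under base change, and the topological lemmas "near a point".
-/

set_option autoImplicit false
set_option linter.style.haveILetI false
universe u

open AlgebraicGeometry CategoryTheory Limits

namespace Groth.Agent.Weighting

variable {X Y V V' : Scheme.{u}} {f : X ⟶ Y} {g : V ⟶ Y}

/-- The geometric points of `X` given by the geometric fibre of `W` over `v`. -/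
noncomputable def L (W : (pullback f g).Opens) {Ω : Type u} [Field Ω] (v : Spec (CommRingCat.of Ω) ⟶ V) :
    Set (Spec (CommRingCat.of Ω) ⟶ X) :=
  (fun l => l ≫ W.ι ≫ pullback.fst f g) '' Fib (W.ι ≫ pullback.snd f g) v

theorem mem_L_iff {W : (pullback f g).Opens} {Ω : Type u} [Field Ω] {v : Spec (CommRingCat.of Ω) ⟶ V}
    {x : Spec (CommRingCat.of Ω) ⟶ X} :
    x ∈ L W v ↔ ∃ h : x ≫ f = v ≫ g, pt (pullback.lift x v h) ∈ W := by
  constructor
  · rintro ⟨l, hl, rfl⟩
    have hl' : l ≫ W.ι ≫ pullback.snd f g = v := hl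
    have h : (l ≫ W.ι ≫ pullback.fst f g) ≫ f = v ≫ g := by
      rw [← hl']; simp [pullback.condition]
    refine ⟨h, ?_⟩
    have : pullback.lift _ v h = l ≫ W.ι := by
      apply pullback.hom_ext
      · rw [pullback.lift_fst, Category.assoc]
      · rw [pullback.lift_snd, Category.assoc, hl']
    rw [this, pt_comp]
    exact (pt l).2
  · rintro ⟨h, hx⟩
    have hr : Set.range (pullback.lift x v h) ⊆ Set.range W.ι := by
      rw [range_eq_pt, Scheme.Opens.range_ι, Set.singleton_subset_iff]; exact hx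
    refine ⟨IsOpenImmersion.lift W.ι _ hr, ?_, ?_⟩
    · show IsOpenImmersion.lift W.ι _ hr ≫ W.ι ≫ pullback.snd f g = v
      rw [IsOpenImmersion.lift_fac_assoc, pullback.lift_snd]
    · show IsOpenImmersion.lift W.ι _ hr ≫ W.ι ≫ pullback.fst f g = x
      rw [IsOpenImmersion.lift_fac_assoc, pullback.lift_fst]

theorem comp_eq_of_mem_L {W : (pullback f g).Opens} {Ω : Type u} [Field Ω] {v : Spec (CommRingCat.of Ω) ⟶ V}
    {x : Spec (CommRingCat.of Ω) ⟶ X} (hx : x ∈ L W v) : x ≫ f = v ≫ g :=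
  (mem_L_iff.1 hx).1

theorem injOn_L (W : (pullback f g).Opens) {Ω : Type u} [Field Ω] (v : Spec (CommRingCat.of Ω) ⟶ V) :
    Set.InjOn (fun l => l ≫ W.ι ≫ pullback.fst f g) (Fib (W.ι ≫ pullback.snd f g) v) := by
  intro a ha b hb hab
  rw [← cancel_mono W.ι]
  apply pullback.hom_ext
  · simpa using hab
  · rw [Category.assoc, Category.assoc]
    exact ha.trans hb.symm

theorem L_mono {W W' : (pullback f g).Opens} (h : W ≤ W') {Ω : Type u} [Field Ω]
    (v : Spec (CommRingCat.of Ω) ⟶ V) : L W v ⊆ L W' v := fun x hx => by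
  obtain ⟨hc, hp⟩ := mem_L_iff.1 hx
  exact mem_L_iff.2 ⟨hc, h hp⟩

/-- The finitely many points of `W` over `pt v` all carry geometric points. -/
theorem exists_mem_L_of_mem [LocallyQuasiFinite f] (W : (pullback f g).Opens) {Ω : Type u} [Field Ω]
    [IsAlgClosed Ω] (v : Spec (CommRingCat.of Ω) ⟶ V) (p : ↥(pullback f g)) (hp : p ∈ W)
    (hv : pullback.snd f g p = pt v) :
    ∃ x ∈ L W v, ∃ h : x ≫ f = v ≫ g, pt (pullback.lift x v h) = p := by
  obtain ⟨l, hl, hlp⟩ := exists_mem_fib_at (W.ι ≫ pullback.snd f g) v ⟨p, hp⟩ hv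
  refine ⟨_, ⟨l, hl, rfl⟩, comp_eq_of_mem_L ⟨l, hl, rfl⟩, ?_⟩
  have : pullback.lift _ v (comp_eq_of_mem_L ⟨l, hl, rfl⟩) = l ≫ W.ι := by
    apply pullback.hom_ext
    · rw [pullback.lift_fst, Category.assoc]
    · rw [pullback.lift_snd, Category.assoc]; exact hl.symm
  rw [this, pt_comp, hlp]
  rfl

theorem finite_L [LocallyQuasiFinite f] (W : (pullback f g).Opens) [QuasiCompact (W.ι ≫ pullback.snd f g)]
    {Ω : Type u} [Field Ω] [IsAlgClosed Ω] (v : Spec (CommRingCat.of Ω) ⟶ V) : (L W v).Finite :=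
  (finite_fib _ v (Scheme.Hom.finite_preimage_singleton _ _)).image _

/-- The fibre integral of a finite piece, as a sum over geometric points. -/
theorem fibreIntegral_eq_L [LocallyQuasiFinite f] (W : (pullback f g).Opens) [QuasiCompact (W.ι ≫ pullback.snd f g)]
    (w : X → ℤ) {Ω : Type u} [Field Ω] [IsAlgClosed Ω] (v : Spec (CommRingCat.of Ω) ⟶ V) :
    MoreMor.fibreIntegral (W.ι ≫ pullback.snd f g) (fun u => w (pullback.fst f g (W.ι u))) (pt v) =
      ∑ᶠ x ∈ L W v, w (pt x) := by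
  rw [fibreIntegral_eq _ _ v (Scheme.Hom.finite_preimage_singleton _ _), L, finsum_mem_image (injOn_L W v)]
  rfl

section BaseChange

variable (h : V' ⟶ V) {g' : V' ⟶ Y} (hg : h ≫ g = g')

/-- The map of base changes induced by `h : V' ⟶ V`. -/
noncomputable def bcMap : pullback f g' ⟶ pullback f g :=
  pullback.lift (pullback.fst f g') (pullback.snd f g' ≫ h) (by rw [Category.assoc, hg]; exact pullback.condition)

theorem bcMap_fst : bcMap (f := f) h hg ≫ pullback.fst f g = pullback.fst f g' := pullback.lift_fst _ _ _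

theorem bcMap_snd : bcMap (f := f) h hg ≫ pullback.snd f g = pullback.snd f g' ≫ h := pullback.lift_snd _ _ _

theorem isPullback_bcMap : IsPullback (bcMap (f := f) h hg) (pullback.snd f g') (pullback.snd f g) h := by
  have hbig : IsPullback (bcMap (f := f) h hg ≫ pullback.fst f g) (pullback.snd f g') f (h ≫ g) := by
    rw [hg, bcMap, pullback.lift_fst]
    exact IsPullback.of_hasPullback f g'
  exact IsPullback.of_right hbig (pullback.lift_snd _ _ _) (IsPullback.of_hasPullback f g)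

/-- The preimage of an open under a base change. -/
noncomputable def bc (W : (pullback f g).Opens) : (pullback f g').Opens := bcMap h hg ⁻¹ᵁ W

theorem isPullback_bc (W : (pullback f g).Opens) :
    IsPullback (bcMap h hg ∣_ W) ((bc h hg W).ι ≫ pullback.snd f g') (W.ι ≫ pullback.snd f g) h :=
  (isPullback_morphismRestrict (bcMap h hg) W).paste_vert (isPullback_bcMap h hg)

theorem isFinite_bc {W : (pullback f g).Opens} (hW : IsFinite (W.ι ≫ pullback.snd f g)) :
    IsFinite ((bc h hg W).ι ≫ pullback.snd f g') :=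
  MorphismProperty.of_isPullback (isPullback_bc h hg W) hW

theorem L_bc (W : (pullback f g).Opens) {Ω : Type u} [Field Ω] (v : Spec (CommRingCat.of Ω) ⟶ V') :
    L (bc h hg W) v = L W (v ≫ h) := by
  have key : ∀ (x : Spec (CommRingCat.of Ω) ⟶ X) (e : x ≫ f = v ≫ g') (e' : x ≫ f = (v ≫ h) ≫ g),
      bcMap h hg (pt (pullback.lift x v e)) = pt (pullback.lift x (v ≫ h) e') := fun x e e' => by
    rw [← pt_comp]
    congr 1
    apply pullback.hom_ext
    · rw [Category.assoc, bcMap, pullback.lift_fst, pullback.lift_fst, pullback.lift_fst]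
    · rw [Category.assoc, bcMap, pullback.lift_snd, ← Category.assoc, pullback.lift_snd, pullback.lift_snd]
  ext x
  rw [mem_L_iff, mem_L_iff]
  constructor
  · rintro ⟨e, hx⟩
    have e' : x ≫ f = (v ≫ h) ≫ g := by rw [Category.assoc, hg]; exact e
    exact ⟨e', key x e e' ▸ hx⟩
  · rintro ⟨e', hx⟩
    have e : x ≫ f = v ≫ g' := by rw [← hg]; simpa using e'
    exact ⟨e, show bcMap h hg _ ∈ W from (key x e e').symm ▸ hx⟩

end BaseChange

/-- If the geometric points of a finite `W` over `v` lie in `U`, they do so near `v`. -/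
theorem exists_nhd_L_subset [LocallyQuasiFinite f] (W U : (pullback f g).Opens)
    [IsFinite (W.ι ≫ pullback.snd f g)] {Ω : Type u} [Field Ω] [IsAlgClosed Ω]
    (v : Spec (CommRingCat.of Ω) ⟶ V) (hsub : L W v ⊆ L U v) :
    ∃ N : V.Opens, pt v ∈ N ∧ (∀ p : ↥(pullback f g), p ∈ W → pullback.snd f g p ∈ N → p ∈ U) ∧
      ∀ (Ω' : Type u) [Field Ω'] (v' : Spec (CommRingCat.of Ω') ⟶ V), pt v' ∈ N → L W v' ⊆ L U v' := by
  let π := W.ι ≫ pullback.snd f g
  let C := π '' (W.ι ⁻¹' ((U : Set ↥(pullback f g))ᶜ))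
  have hC : IsClosed C := π.isClosedMap _ (U.isOpen.isClosed_compl.preimage W.ι.continuous)
  have hv : pt v ∉ C := by
    rintro ⟨⟨p, hpW⟩, hpU, hpv⟩
    obtain ⟨x, hx, h, hxp⟩ := exists_mem_L_of_mem W v p hpW hpv
    exact hpU (hxp ▸ (mem_L_iff.1 (hsub hx)).2)
  have hin : ∀ p : ↥(pullback f g), p ∈ W → pullback.snd f g p ∈ Cᶜ → p ∈ U := by
    intro p hpW hpN
    by_contra hpU
    exact hpN ⟨⟨p, hpW⟩, hpU, rfl⟩
  refine ⟨⟨Cᶜ, hC.isOpen_compl⟩, hv, hin, fun Ω' _ v' hv' x hx => ?_⟩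
  obtain ⟨h, hp⟩ := mem_L_iff.1 hx
  refine mem_L_iff.2 ⟨h, hin _ hp ?_⟩
  rw [← pt_comp, pullback.lift_snd]
  exact hv'

/-- Two finite pieces inside a separated piece with disjoint geometric fibres are disjoint nearby. -/
theorem exists_nhd_disjoint [LocallyQuasiFinite f] (U W W' : (pullback f g).Opens)
    [IsSeparated (U.ι ≫ pullback.snd f g)] [IsFinite (W.ι ≫ pullback.snd f g)] [IsFinite (W'.ι ≫ pullback.snd f g)]
    (hW : W ≤ U) (hW' : W' ≤ U) {Ω : Type u} [Field Ω] [IsAlgClosed Ω]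
    (v : Spec (CommRingCat.of Ω) ⟶ V) (hdisj : Disjoint (L W v) (L W' v)) :
    ∃ N : V.Opens, pt v ∈ N ∧
      ∀ (Ω' : Type u) [Field Ω'] (v' : Spec (CommRingCat.of Ω') ⟶ V), pt v' ∈ N → Disjoint (L W v') (L W' v') := by
  let π := W.ι ≫ pullback.snd f g
  have hfin : IsFinite ((pullback f g).homOfLE hW') := by
    haveI : IsFinite ((pullback f g).homOfLE hW' ≫ U.ι ≫ pullback.snd f g) := by
      simpa using ‹IsFinite (W'.ι ≫ pullback.snd f g)›
    exact MorphismProperty.of_postcomp (W := @IsFinite) (W' := @IsSeparated) _ (U.ι ≫ pullback.snd f g) inferInstance inferInstance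
  have hcl : IsClosed ((U.ι) ⁻¹' (W' : Set ↥(pullback f g))) := by
    have := ((pullback f g).homOfLE hW').isClosedMap.isClosed_range
    convert this using 1
    ext ⟨p, hp⟩
    constructor
    · intro h
      refine ⟨⟨p, h⟩, U.ι.isOpenEmbedding.injective ?_⟩
      rw [← Scheme.Hom.comp_apply, Scheme.homOfLE_ι]
      rfl
    · rintro ⟨⟨q, hq⟩, hqp⟩
      have := congrArg U.ι hqp
      rw [← Scheme.Hom.comp_apply, Scheme.homOfLE_ι] at this
      show U.ι ⟨p, hp⟩ ∈ (W' : Set ↥(pullback f g))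
      rw [← this]
      exact hq
  have hclW : IsClosed (W.ι ⁻¹' (W' : Set ↥(pullback f g))) := by
    have := hcl.preimage ((pullback f g).homOfLE hW).continuous
    rwa [← Set.preimage_comp, ← TopCat.coe_comp, ← Scheme.Hom.comp_base, Scheme.homOfLE_ι] at this
  let C := π '' (W.ι ⁻¹' (W' : Set ↥(pullback f g)))
  have hC : IsClosed C := π.isClosedMap _ hclW
  have hv : pt v ∉ C := by
    rintro ⟨⟨p, hpW⟩, hpW', hpv⟩
    obtain ⟨x, hx, h, hxp⟩ := exists_mem_L_of_mem W v p hpW hpv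
    refine Set.disjoint_left.1 hdisj hx (mem_L_iff.2 ⟨h, ?_⟩)
    rw [hxp]; exact hpW'
  refine ⟨⟨Cᶜ, hC.isOpen_compl⟩, hv, fun Ω' _ v' hv' => Set.disjoint_left.2 fun x hx hx' => ?_⟩
  obtain ⟨h, hp⟩ := mem_L_iff.1 hx
  obtain ⟨_, hp'⟩ := mem_L_iff.1 hx'
  refine hv' ⟨⟨_, hp⟩, hp', ?_⟩
  show pullback.snd f g (pt (pullback.lift x v' h)) = pt v'
  rw [← pt_comp, pullback.lift_snd]

end Groth.Agent.Weighting
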