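import Mathlib

/-!
Strong étale-local splitting of quasi-finite algebras at a geometric point: one can find an étale
neighbourhood of the geometric point downstairs and an idempotent cutting out a finite piece with
exactly one geometric point over it.
-/

set_option autoImplicit false
set_option linter.style.haveILetI false
universe u

open TensorProduct Polynomial

namespace Groth.Agent.Weighting

/-- An étale algebra together with a point, whose residue field image contains a given separable element. -/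
theorem exists_etale_point_mem (R : Type u) [CommRing R] (p : Ideal R) [p.IsPrime]
    (Ω : Type u) [Field Ω] [Algebra R Ω] [Algebra p.ResidueField Ω] [IsScalarTower R p.ResidueField Ω]
    (α : Ω) (hα : IsSeparable p.ResidueField α) :
    ∃ (R₀ : Type u) (_ : CommRing R₀) (_ : Algebra R R₀) (_ : Algebra.Etale R R₀) (v₀ : R₀ →ₐ[R] Ω),
      ∃ c : R, algebraMap R Ω c ≠ 0 ∧ algebraMap R Ω c * α ∈ Set.range v₀ := by
  classical
  let K := p.ResidueField
  have hint : IsIntegral K α := hα.isIntegral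
  let m := minpoly K α
  obtain ⟨⟨b, hb⟩, hm⟩ := IsLocalization.exist_integer_multiples (nonZeroDivisors (R ⧸ p))
    (Finset.range (m.natDegree + 1)) (fun i => m.coeff i)
  obtain ⟨c, rfl⟩ := Ideal.Quotient.mk_surjective b
  let c' : K := algebraMap R K c
  have hc' : c' ≠ 0 := by
    intro h
    have h' : algebraMap (R ⧸ p) K (Ideal.Quotient.mk p c) = 0 := by
      rw [← h]; exact (IsScalarTower.algebraMap_apply R (R ⧸ p) K c).symm
    exact nonZeroDivisors.ne_zero hb ((injective_iff_map_eq_zero _).1 (IsFractionRing.injective (R ⧸ p) K) _ h')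
  have hlift : m.scaleRoots c' ∈ Polynomial.lifts (algebraMap R K) := by
    rw [Polynomial.lifts_iff_coeff_lifts]
    intro i
    rw [coeff_scaleRoots]
    rcases lt_trichotomy i m.natDegree with h | h | h
    · obtain ⟨y, hy⟩ := hm i (Finset.mem_range.2 (by omega))
      obtain ⟨y, rfl⟩ := Ideal.Quotient.mk_surjective y
      refine ⟨y * c ^ (m.natDegree - i - 1), ?_⟩
      have hy' : algebraMap R K y = c' * m.coeff i := by
        rw [IsScalarTower.algebraMap_apply R (R ⧸ p) K]
        refine hy.trans ?_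
        rw [Algebra.smul_def]
        rfl
      rw [map_mul, map_pow, hy']
      have : m.natDegree - i = (m.natDegree - i - 1) + 1 := by omega
      conv_rhs => rw [this, pow_succ]
      ring
    · subst h
      exact ⟨1, by simp [show m.coeff m.natDegree = 1 from (minpoly.monic hint).coeff_natDegree]⟩
    · exact ⟨0, by simp [Polynomial.coeff_eq_zero_of_natDegree_lt h]⟩
  obtain ⟨f, hfm, -, hfmon⟩ := Polynomial.lifts_and_natDegree_eq_and_monic hlift
    ((Polynomial.monic_scaleRoots_iff c').2 (minpoly.monic hint))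
  let P : StandardEtalePair R := ⟨f, hfmon, f.derivative, 1, 0, 1, by simp⟩
  have he : m.scaleRoots c' = C (c' ^ m.natDegree) * m.comp (C c'⁻¹ * X) := by
    ext i
    rw [coeff_scaleRoots, coeff_C_mul, Polynomial.comp_C_mul_X_coeff]
    by_cases h : i ≤ m.natDegree
    · rw [mul_left_comm, inv_pow, ← pow_sub₀ _ hc' h]
    · simp [Polynomial.coeff_eq_zero_of_natDegree_lt (not_le.1 h)]
  let x : Ω := algebraMap R Ω c * α
  have hx : algebraMap K Ω c'⁻¹ * x = α := by
    simp only [x, c']
    rw [← mul_assoc, IsScalarTower.algebraMap_apply R K Ω, ← map_mul, inv_mul_cancel₀ hc', map_one, one_mul]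
  have hP : P.HasMap x := by
    constructor
    · show aeval x f = 0
      rw [← aeval_map_algebraMap K, hfm, he, map_mul, aeval_comp]
      have h' : aeval x (C c'⁻¹ * X) = α := by rw [map_mul, aeval_C, aeval_X, hx]
      rw [h', minpoly.aeval, mul_zero]
    · show IsUnit (aeval x (derivative f))
      rw [isUnit_iff_ne_zero, ← aeval_map_algebraMap K, ← derivative_map, hfm, he, derivative_C_mul,
        derivative_comp, derivative_C_mul, derivative_X]
      simp only [map_mul, aeval_comp, aeval_C, aeval_X, map_one, mul_one, map_pow, hx]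
      have hd : aeval α (derivative m) ≠ 0 := Polynomial.Separable.aeval_derivative_ne_zero hα (minpoly.aeval K α)
      have hc'' : algebraMap K Ω c' ≠ 0 := (_root_.map_ne_zero _).2 hc'
      exact mul_ne_zero (pow_ne_zero _ hc'') (mul_ne_zero ((_root_.map_ne_zero _).2 (inv_ne_zero hc')) hd)
  refine ⟨P.Ring, inferInstance, inferInstance, inferInstance, P.lift x hP, c, ?_, ⟨P.X, P.lift_X x hP⟩⟩
  rw [IsScalarTower.algebraMap_apply R K Ω]
  exact (_root_.map_ne_zero _).2 hc'

/-- Purely inseparable descent: a point of `S` in a geometric point is, up to a `q`-power, given by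
the separable element `α`. -/
theorem exists_separable_element {R S : Type u} [CommRing R] [CommRing S] [Algebra R S] [Algebra.FiniteType R S]
    [Algebra.QuasiFinite R S] (p : Ideal R) [p.IsPrime]
    (Ω : Type u) [Field Ω] [Algebra R Ω] [Algebra p.ResidueField Ω] [IsScalarTower R p.ResidueField Ω]
    (ξ : S →ₐ[R] Ω) :
    ∃ α : Ω, IsSeparable p.ResidueField α ∧ ∀ s : S, ∃ n : ℕ,
      ξ s ^ ringExpChar p.ResidueField ^ n ∈ IntermediateField.adjoin p.ResidueField {α} := by
  classical
  let K := p.ResidueField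
  let φ : K ⊗[R] S →ₐ[K] Ω := Algebra.TensorProduct.lift (Algebra.ofId K Ω) ξ fun _ _ => .all _ _
  have hint : ∀ s, IsIntegral K (ξ s) := fun s => by
    have hs : φ (1 ⊗ₜ s) = ξ s := by simp [φ]
    rw [← hs]
    haveI : Module.Finite K (K ⊗[R] S) := inferInstanceAs (Module.Finite p.ResidueField (p.Fiber S))
    exact (IsIntegral.of_finite K (1 ⊗ₜ[R] s : K ⊗[R] S)).map φ
  obtain ⟨t, ht⟩ := Algebra.FiniteType.out (R := R) (A := S)
  let E : IntermediateField K Ω := IntermediateField.adjoin K (ξ '' t)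
  haveI : FiniteDimensional K E :=
    IntermediateField.finiteDimensional_adjoin (fun x hx => by
      obtain ⟨s, -, rfl⟩ := hx; exact hint s)
  have hmem : ∀ s, ξ s ∈ E := by
    intro s
    have hs : s ∈ Algebra.adjoin R (t : Set S) := by rw [ht]; exact Algebra.mem_top
    have : Algebra.adjoin R (t : Set S) ≤ (E.toSubalgebra.restrictScalars R).comap ξ :=
      Algebra.adjoin_le fun y hy => IntermediateField.subset_adjoin K _ ⟨y, hy, rfl⟩
    exact this hs
  obtain ⟨a, ha⟩ := Field.exists_primitive_element K (separableClosure K E)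
  refine ⟨((a : E) : Ω), ?_, fun s => ?_⟩
  · have h1 : IsSeparable K (a : E) := mem_separableClosure_iff.1 a.2
    unfold IsSeparable at h1 ⊢
    rwa [show minpoly K ((a : E) : Ω) = minpoly K (a : E) from minpoly.algebraMap_eq (algebraMap E Ω).injective _]
  · obtain ⟨n, ⟨l, hl⟩⟩ := IsPurelyInseparable.pow_mem (F := separableClosure K E) (E := E)
      (ringExpChar (separableClosure K E)) (⟨ξ s, hmem s⟩ : E)
    haveI : ExpChar (separableClosure K E) (ringExpChar K) :=
      expChar_of_injective_algebraMap (algebraMap K _).injective _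
    rw [ringExpChar.eq (separableClosure K E) (ringExpChar K)] at hl
    refine ⟨n, ?_⟩
    have hl' : ξ s ^ ringExpChar K ^ n = ((l : E) : Ω) := (congrArg Subtype.val hl).symm
    rw [hl']
    let j : separableClosure K E →ₐ[K] Ω := E.val.comp (separableClosure K E).val
    have h2 : (IntermediateField.adjoin K {((a : E) : Ω)}) = (⊤ : IntermediateField K (separableClosure K E)).map j := by
      rw [← ha, IntermediateField.adjoin_map, Set.image_singleton]
      rfl
    rw [h2]
    exact ⟨l, trivial, rfl⟩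

/-- Strong étale-local splitting at a geometric point. -/
theorem exists_etale_split {R S : Type u} [CommRing R] [CommRing S] [Algebra R S] [Algebra.FiniteType R S]
    [Algebra.QuasiFinite R S] (Ω : Type u) [Field Ω] [Algebra R Ω] (ξ : S →ₐ[R] Ω) :
    ∃ (R' : Type u) (_ : CommRing R') (_ : Algebra R R') (_ : Algebra.Etale R R') (v : R' →ₐ[R] Ω)
      (e : R' ⊗[R] S), IsIdempotentElem e ∧ Module.Finite R' (Localization.Away e) ∧
      Algebra.TensorProduct.lift v ξ (fun _ _ => .all _ _) e ≠ 0 ∧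
      ∀ ξ' : S →ₐ[R] Ω, Algebra.TensorProduct.lift v ξ' (fun _ _ => .all _ _) e ≠ 0 → ξ' = ξ := by
  classical
  let p := RingHom.ker (algebraMap R Ω)
  haveI : p.IsPrime := RingHom.ker_isPrime _
  have hunit : p.primeCompl ≤ (IsUnit.submonoid Ω).comap (algebraMap R Ω) := fun x hx =>
    isUnit_iff_ne_zero.2 hx
  letI : Algebra p.ResidueField Ω := (Ideal.ResidueField.lift p (algebraMap R Ω) le_rfl hunit).toAlgebra
  haveI : IsScalarTower R p.ResidueField Ω :=
    .of_algebraMap_eq fun r => (Ideal.ResidueField.lift_algebraMap p (algebraMap R Ω) le_rfl hunit r).symm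
  let K := p.ResidueField
  obtain ⟨α, hα, hpow⟩ := exists_separable_element p Ω ξ
  obtain ⟨R₀, _, _, _, v₀, c, hc0, hcα⟩ := exists_etale_point_mem R p Ω α hα
  letI : Algebra R₀ Ω := v₀.toAlgebra
  haveI : IsScalarTower R R₀ Ω := .of_algebraMap_eq fun r => (v₀.commutes r).symm
  let P₀ := RingHom.ker v₀
  haveI : P₀.IsPrime := RingHom.ker_isPrime v₀
  let ξ₀ : R₀ ⊗[R] S →ₐ[R₀] Ω := Algebra.TensorProduct.lift (Algebra.ofId R₀ Ω) ξ fun _ _ => .all _ _
  let q₀ := RingHom.ker ξ₀
  haveI : q₀.IsPrime := RingHom.ker_isPrime ξ₀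
  haveI : q₀.LiesOver P₀ := ⟨by
    ext r
    simp only [P₀, q₀, Ideal.under, Ideal.mem_comap, RingHom.mem_ker, AlgHom.commutes]
    rfl⟩
  obtain ⟨R₁, _, _, _, P, _, _, e, he, P', _, _, hP'q, heP', hbij, hfin, huniq⟩ :=
    Algebra.exists_etale_isIdempotentElem_forall_liesOver_eq P₀ q₀
  letI : Algebra R R₁ := .compHom R₁ (algebraMap R R₀)
  haveI : IsScalarTower R R₀ R₁ := .of_algebraMap_eq' rfl
  haveI : Algebra.Etale R R₁ := Algebra.Etale.comp R R₀ R₁
  have hunit₀ : P₀.primeCompl ≤ (IsUnit.submonoid Ω).comap v₀.toRingHom := fun x hx =>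
    isUnit_iff_ne_zero.2 hx
  let j₀ : P₀.ResidueField →+* Ω := Ideal.ResidueField.lift P₀ v₀.toRingHom le_rfl hunit₀
  have hj₀ : ∀ r, j₀ (algebraMap R₀ _ r) = v₀ r := Ideal.ResidueField.lift_algebraMap P₀ v₀.toRingHom le_rfl hunit₀
  let ε := RingEquiv.ofBijective _ hbij
  let v₁ : R₁ →ₐ[R₀] Ω :=
    { toRingHom := j₀.comp (ε.symm.toRingHom.comp (algebraMap R₁ P.ResidueField))
      commutes' := fun r => by
        show j₀ (ε.symm (algebraMap R₁ P.ResidueField (algebraMap R₀ R₁ r))) = v₀ r
        rw [← hj₀]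
        congr 1
        rw [RingEquiv.symm_apply_eq]
        show _ = Ideal.ResidueField.mapₐ P₀ P (Algebra.ofId R₀ R₁) (P.over_def P₀) (algebraMap R₀ _ r)
        simp [Ideal.ResidueField.map_algebraMap, ← IsScalarTower.algebraMap_apply] }
  have hkerv₁ : RingHom.ker v₁ = P := by
    ext r
    simp only [RingHom.mem_ker]
    show j₀ (ε.symm (algebraMap R₁ P.ResidueField r)) = 0 ↔ _
    rw [map_eq_zero, map_eq_zero_iff _ ε.symm.injective, Ideal.algebraMap_residueField_eq_zero]
  let Φ : (R₀ ⊗[R] S →ₐ[R₀] Ω) → (R₁ ⊗[R₀] (R₀ ⊗[R] S) →ₐ[R₀] Ω) :=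
    fun η => Algebra.TensorProduct.lift v₁ η fun _ _ => .all _ _
  have hover : ∀ η, (RingHom.ker (Φ η)).LiesOver P := fun η => ⟨by
    rw [← hkerv₁]
    ext r
    simp [Φ, Ideal.under, Ideal.mem_comap]⟩
  haveI := hover ξ₀
  haveI : (RingHom.ker (Φ ξ₀)).IsPrime := RingHom.ker_isPrime _
  have hQ : RingHom.ker (Φ ξ₀) = P' := by
    refine Ideal.eq_of_comap_eq_comap_of_bijective_residueFieldMap hbij _ _ ?_
    rw [hP'q]
    ext z
    simp [Φ, q₀]
  let E : R₁ ⊗[R₀] (R₀ ⊗[R] S) ≃ₐ[R₁] R₁ ⊗[R] S := Algebra.TensorProduct.cancelBaseChange R R₀ R₁ R₁ S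
  let v : R₁ →ₐ[R] Ω := v₁.restrictScalars R
  have hΦ : ∀ ξ' : S →ₐ[R] Ω, ∀ z,
      Algebra.TensorProduct.lift v ξ' (fun _ _ => .all _ _) (E z) =
        Φ (Algebra.TensorProduct.lift (Algebra.ofId R₀ Ω) ξ' fun _ _ => .all _ _) z := by
    intro ξ' z
    induction z with
    | zero => simp
    | add a b ha hb => simp [map_add, ha, hb]
    | tmul a y =>
      induction y with
      | zero => simp
      | add x y hx hy => simp only [TensorProduct.tmul_add, map_add, hx, hy]
      | tmul r s =>
        simp [E, Φ, v, Algebra.smul_def, mul_comm, mul_assoc, mul_left_comm]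
  refine ⟨R₁, inferInstance, inferInstance, inferInstance, v, E e, he.map E, ?_, ?_, ?_⟩
  · haveI := hfin
    let L := IsLocalization.algEquivOfAlgEquiv (A := R₁) (Localization.Away e) (Localization.Away (E e)) E
      (M := Submonoid.powers e) (T := Submonoid.powers (E e)) (by simp)
    exact Module.Finite.equiv L.toLinearEquiv
  · rw [hΦ]
    exact fun h => heP' (hQ ▸ h)
  · intro ξ' hξ'
    rw [hΦ] at hξ'
    set η := Algebra.TensorProduct.lift (Algebra.ofId R₀ Ω) ξ' fun _ _ => .all _ _ with hη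
    have hQ' : RingHom.ker (Φ η) = RingHom.ker (Φ ξ₀) := by
      rw [hQ]
      exact huniq _ (RingHom.ker_isPrime _) (hover η) hξ'
    apply AlgHom.ext
    intro s
    obtain ⟨n, hn⟩ := hpow s
    -- the field of fractions of `v₀`
    let T : IntermediateField K Ω := Subfield.toIntermediateField j₀.fieldRange (by
      intro k
      obtain ⟨a, b, hb, rfl⟩ := IsFractionRing.div_surjective (R ⧸ p) k
      obtain ⟨a, rfl⟩ := Ideal.Quotient.mk_surjective a
      obtain ⟨b, rfl⟩ := Ideal.Quotient.mk_surjective b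
      rw [map_div₀]
      have hr : ∀ r : R, algebraMap K Ω (algebraMap (R ⧸ p) K (Ideal.Quotient.mk p r)) ∈ j₀.fieldRange := fun r =>
        ⟨algebraMap R₀ _ (algebraMap R R₀ r), by
          rw [hj₀, v₀.commutes, IsScalarTower.algebraMap_apply R K Ω]
          rfl⟩
      exact div_mem (hr a) (hr b))
    have hT : IntermediateField.adjoin K {α} ≤ T := by
      rw [IntermediateField.adjoin_simple_le_iff]
      obtain ⟨y, hy⟩ := hcα
      have h1 : algebraMap R Ω c * α ∈ T := ⟨algebraMap R₀ _ y, (hj₀ y).trans hy⟩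
      have h2 : algebraMap R Ω c ∈ T := by
        rw [IsScalarTower.algebraMap_apply R K Ω]; exact T.algebraMap_mem _
      have := T.div_mem h1 h2
      rwa [mul_div_cancel_left₀ α hc0] at this
    obtain ⟨k, hk⟩ := hT hn
    obtain ⟨a, b, hb, rfl⟩ := IsFractionRing.div_surjective (R₀ ⧸ P₀) k
    obtain ⟨a, rfl⟩ := Ideal.Quotient.mk_surjective a
    obtain ⟨b, rfl⟩ := Ideal.Quotient.mk_surjective b
    have hb0 : v₀ b ≠ 0 := fun h => nonZeroDivisors.ne_zero hb (Ideal.Quotient.eq_zero_iff_mem.2 h)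
    have hk' : v₀ a / v₀ b = ξ s ^ ringExpChar K ^ n := by
      rw [← hk, map_div₀, ← hj₀, ← hj₀]
      rfl
    let z : R₁ ⊗[R₀] (R₀ ⊗[R] S) :=
      (1 ⊗ₜ (1 ⊗ₜ s)) ^ ringExpChar K ^ n * (algebraMap R₀ R₁ b ⊗ₜ 1) - algebraMap R₀ R₁ a ⊗ₜ 1
    have hz : ∀ ξ'' : S →ₐ[R] Ω, Φ (Algebra.TensorProduct.lift (Algebra.ofId R₀ Ω) ξ'' fun _ _ => .all _ _) z =
        ξ'' s ^ ringExpChar K ^ n * v₀ b - v₀ a := by
      intro ξ''
      simp [Φ, z, map_pow, map_mul, map_sub]
      rw [mul_comm]
      rfl
    have h0 : Φ ξ₀ z = 0 := by rw [hz, ← hk', div_mul_cancel₀ _ hb0, sub_self]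
    have h1 : Φ η z = 0 := by
      rw [← RingHom.mem_ker, hQ', RingHom.mem_ker]; exact h0
    rw [hη, hz, sub_eq_zero, ← eq_div_iff hb0, hk'] at h1
    haveI : ExpChar Ω (ringExpChar K) := expChar_of_injective_algebraMap (algebraMap K Ω).injective _
    exact iterateFrobenius_inj Ω (ringExpChar K) n (by simpa [iterateFrobenius_def] using h1)

end Groth.Agent.Weighting
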