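import Groth.Agent.Weighting.LevelSets
import Groth.Agent.Weighting.Bound
import Groth.Agent.Weighting.Semicont

/-!
Functions which are locally constant in the constructible topology; fibre integrals along finite
morphisms of finite presentation preserve this class.
-/

set_option autoImplicit false
set_option linter.style.haveILetI false
universe u

open AlgebraicGeometry CategoryTheory Limits Topology

namespace Groth.Agent.Weighting

variable {U V : Scheme.{u}}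

/-- `w` is locally constant for the constructible topology. -/
def ConstrLC (w : V → ℤ) : Prop := ∀ x, ∃ C : Set V, IsConstructible C ∧ x ∈ C ∧ ∀ y ∈ C, w y = w x

theorem ConstrLC.comp {w : V → ℤ} (hw : ConstrLC w) (φ : U ⟶ V) : ConstrLC fun x => w (φ x) := fun x => by
  obtain ⟨C, hC, hx, h⟩ := hw (φ x)
  exact ⟨φ ⁻¹' C, Scheme.Hom.isConstructible_preimage φ hC, hx, fun y hy => h _ hy⟩

theorem constrLC_of_isWeighting [IsAffine U] {f : U ⟶ V} [LocallyOfFiniteType f] [LocallyQuasiFinite f] {w : U → ℤ}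
    (hw : MoreMor.IsWeighting f w) : ConstrLC w :=
  exists_constructible_const hw

/-- A finite combination of indicator functions of constructible sets. -/
theorem constrLC_indicator_sum (S : Finset ℤ) (C : ℤ → Set V) (hC : ∀ n ∈ S, IsConstructible (C n)) :
    ConstrLC fun x => ∑ n ∈ S, @ite _ (x ∈ C n) (Classical.propDecidable _) n 0 := fun x => by
  classical
  refine ⟨⋂ n ∈ (S : Set ℤ), if x ∈ C n then C n else (C n)ᶜ, IsConstructible.biInter S.finite_toSet fun n hn => ?_,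
    Set.mem_iInter₂.2 fun n _ => ?_, fun y hy => Finset.sum_congr rfl fun n hn => ?_⟩
  · split_ifs
    exacts [hC n hn, (hC n hn).compl]
  · split_ifs with h
    exacts [h, h]
  · have := Set.mem_iInter₂.1 hy n hn
    split_ifs at this with h
    · simp [h, this]
    · simp [h, Set.mem_compl_iff _ _ |>.1 this]

/-- The fibre integral along a finite morphism of finite presentation of a function which is locally
constant in the constructible topology is again one. -/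
theorem ConstrLC.fibreIntegral [IsAffine V] (π : U ⟶ V) [IsFinite π] [LocallyOfFinitePresentation π]
    {w : U → ℤ} (hw : ConstrLC w) : ConstrLC (MoreMor.fibreIntegral π w) := by
  classical
  intro v₀
  obtain ⟨Ω, _, _, v, rfl⟩ := exists_geomPt v₀
  have hfinπ : ∀ y : V, (π ⁻¹' {y}).Finite := fun y => π.finite_preimage_singleton y
  have hU : (L (⊤ : (pullback π (𝟙 V)).Opens) v).Finite := by
    rw [L_top, Category.comp_id]; exact finite_fib π v (hfinπ _)
  haveI : IsFinite (pullback.snd π (𝟙 V)) := MorphismProperty.pullback_snd _ _ inferInstance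
  haveI : IsFinite ((⊤ : (pullback π (𝟙 V)).Opens).ι ≫ pullback.snd π (𝟙 V)) := by
    haveI : IsIso (⊤ : (pullback π (𝟙 V)).Opens).ι := by rw [← Scheme.topIso_hom]; infer_instance
    rw [MorphismProperty.cancel_left_of_respectsIso @IsFinite]; assumption
  obtain ⟨V', h, hh, v', hv', V'', g'', hg'', b, hbg, W, N, hN, hW, hdec⟩ :=
    exists_decomp (⊤ : (pullback π (𝟙 V)).Opens) v hU
  obtain ⟨SA', hSA', hvA', hA'N⟩ := V'.isBasis_affineOpens.exists_subset_of_mem_open hN N.isOpen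
  obtain ⟨A', hA', rfl⟩ : ∃ O : V'.Opens, IsAffineOpen O ∧ (O : Set V') = SA' := hSA'
  haveI : IsAffine A'.toScheme := hA'
  let v₁ : Spec (CommRingCat.of Ω) ⟶ A'.toScheme := IsOpenImmersion.lift A'.ι v' (by
    rw [range_eq_pt, Scheme.Opens.range_ι, Set.singleton_subset_iff]; exact hvA')
  have hv₁ : v₁ ≫ A'.ι = v' := IsOpenImmersion.lift_fac _ _ _
  have hC : ∀ x : L (⊤ : (pullback π (𝟙 V)).Opens) v, ∃ C : Set A'.toScheme, IsConstructible C ∧ pt v₁ ∈ C ∧
      ∀ (Ω' : Type u) [Field Ω'] [IsAlgClosed Ω'] (t : Spec (CommRingCat.of Ω') ⟶ A'.toScheme), pt t ∈ C →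
        ∑ᶠ y ∈ L (W x.1) (t ≫ A'.ι ≫ b), w (pt y) = w (pt x.1) := by
    rintro ⟨x, hx⟩
    obtain ⟨hWfin, hWx⟩ := hW x hx
    let Wx : (pullback π ((A'.ι ≫ b) ≫ g'')).Opens := bc (A'.ι ≫ b) rfl (W x)
    haveI : IsFinite (Wx.ι ≫ pullback.snd π ((A'.ι ≫ b) ≫ g'')) := isFinite_bc _ _ hWfin
    let ρ := Wx.ι ≫ pullback.snd π ((A'.ι ≫ b) ≫ g'')
    let pr := Wx.ι ≫ pullback.fst π ((A'.ι ≫ b) ≫ g'')
    have hWx₁ : L Wx v₁ = {x} := by rw [L_bc, reassoc_of% hv₁, hWx]
    have hsub : (Fib ρ v₁).Subsingleton := fun a ha c hc => injOn_L Wx v₁ ha hc <| by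
      have h1 : a ≫ Wx.ι ≫ pullback.fst π _ ∈ L Wx v₁ := ⟨a, ha, rfl⟩
      have h2 : c ≫ Wx.ι ≫ pullback.fst π _ ∈ L Wx v₁ := ⟨c, hc, rfl⟩
      rw [hWx₁, Set.mem_singleton_iff] at h1 h2
      exact h1.trans h2.symm
    obtain ⟨C₁, hC₁, hv₁C₁, hC₁sub⟩ := exists_constructible_subsingleton_fib ρ v₁ hsub
    obtain ⟨Cw, hCw, hxCw, hCwe⟩ := hw (pt x)
    obtain ⟨l, hl, hlx⟩ : x ∈ L Wx v₁ := hWx₁ ▸ rfl
    refine ⟨C₁ ∩ ρ '' (pr ⁻¹' Cw), hC₁.inter (ρ.isConstructible_image (Scheme.Hom.isConstructible_preimage pr hCw)),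
      ⟨hv₁C₁, pt l, ?_, by rw [← pt_comp]; exact congrArg pt hl⟩, fun Ω' _ _ t ht => ?_⟩
    · show pr (pt l) ∈ Cw
      rw [← pt_comp]
      exact (congrArg pt hlx).symm ▸ hxCw
    · obtain ⟨p, hp, hpt⟩ := ht.2
      obtain ⟨m, hm, rfl⟩ := exists_mem_fib_at ρ t p hpt
      have hLs : L Wx t = {m ≫ pr} := by
        refine Set.eq_singleton_iff_unique_mem.2 ⟨⟨m, hm, rfl⟩, ?_⟩
        rintro _ ⟨m', hm', rfl⟩
        rw [hC₁sub Ω' t ht.1 hm' hm]
      rw [← L_bc (A'.ι ≫ b) (rfl : (A'.ι ≫ b) ≫ g'' = _) (W x), hLs, finsum_mem_singleton, pt_comp]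
      exact hCwe _ hp
  choose C hC hvC hCe using hC
  haveI : Finite (L (⊤ : (pullback π (𝟙 V)).Opens) v) := hU.to_subtype
  let hA := A'.ι ≫ h
  refine ⟨hA '' (⋂ x, C x), hA.isConstructible_image (IsConstructible.iInter hC),
    ⟨pt v₁, Set.mem_iInter.2 hvC, by rw [← pt_comp, reassoc_of% hv₁, hv']⟩, ?_⟩
  rintro _ ⟨p, hp, rfl⟩
  obtain ⟨Ω', _, _, t, rfl⟩ := exists_geomPt p
  obtain ⟨hsub', hdj, hcov⟩ := hdec Ω' (t ≫ A'.ι) (hA'N (pt t).2)
  have heq : L ⊤ ((t ≫ A'.ι) ≫ h) = ⋃ x ∈ L (⊤ : (pullback π (𝟙 V)).Opens) v, L (W x) ((t ≫ A'.ι) ≫ b) :=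
    (hcov inferInstance).antisymm (Set.iUnion₂_subset hsub')
  rw [← pt_comp, fibreIntegral_eq π w _ (hfinπ _), fibreIntegral_eq π w v (hfinπ _), ← L_top_id π v,
    show Fib π (t ≫ hA) = L (⊤ : (pullback π (𝟙 V)).Opens) ((t ≫ A'.ι) ≫ h) from by
      rw [L_top, Category.comp_id]; simp [hA],
    heq, finsum_mem_biUnion hdj hU fun x hx => by haveI := (hW x hx).1; exact finite_L _ _]
  refine finsum_mem_congr rfl fun x hx => ?_
  rw [Category.assoc]
  exact hCe ⟨x, hx⟩ Ω' t (Set.mem_iInter.1 hp ⟨x, hx⟩)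

end Groth.Agent.Weighting
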