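import Groth.Agent.Weighting.ConstrLC

/-!
For a morphism of finite type between affine schemes the fibre integral of a weighting is locally constant
in the constructible topology.
-/

set_option autoImplicit false
set_option linter.style.haveILetI false
universe u

open AlgebraicGeometry CategoryTheory Limits Topology

namespace Groth.Agent.Weighting

variable {X Y : Scheme.{u}}

theorem constrLC_fibreIntegral_of_isWeighting [IsAffine X] [IsAffine Y] (f : X ⟶ Y) [LocallyOfFiniteType f]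
    [LocallyQuasiFinite f] {w : X → ℤ} (hw : MoreMor.IsWeighting f w) :
    ConstrLC (MoreMor.fibreIntegral f w) := by
  classical
  intro y
  obtain ⟨Ω, _, _, v, rfl⟩ := exists_geomPt y
  have hfin : ∀ y : Y, (f ⁻¹' {y}).Finite := fun y => f.finite_preimage_singleton y
  have hU : (L (⊤ : (pullback f (𝟙 Y)).Opens) v).Finite := L_top_id f v ▸ finite_fib f v (hfin _)
  obtain ⟨V', h, hh, v', hv', V'', g'', hg'', b, hbg, W, N, hN, hW, hdec⟩ := exists_decomp _ v hU
  haveI := locallyQuasiFinite_of_etale h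
  have hloc : ∀ x : L (⊤ : (pullback f (𝟙 Y)).Opens) v, ∃ M : V''.Opens, pt (v' ≫ b) ∈ M ∧
      ∀ (Ω' : Type u) [Field Ω'] [IsAlgClosed Ω'] (v₁ : Spec (CommRingCat.of Ω') ⟶ V''),
        pt v₁ ∈ M → ∑ᶠ y ∈ L (W x.1) v₁, w (pt y) = w (pt x.1) := by
    intro x
    haveI := (hW x.1 x.2).1
    obtain ⟨M, hM, hMe⟩ := exists_nhd_wsum_eq hw (W x.1) (v' ≫ b)
    exact ⟨M, hM, fun Ω' _ _ v₁ h₁ => by rw [hMe Ω' v₁ h₁, (hW x.1 x.2).2, finsum_mem_singleton]⟩
  choose M hM hMe using hloc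
  haveI : Finite (L (⊤ : (pullback f (𝟙 Y)).Opens) v) := hU.to_subtype
  let N' : V'.Opens := ⟨(N : Set V') ∩ ⋂ x, b ⁻¹' (M x : Set V''),
    N.isOpen.inter (isOpen_iInter_of_finite fun x => (M x).isOpen.preimage b.continuous)⟩
  have hv'N : pt v' ∈ N' := ⟨hN, Set.mem_iInter.2 fun x => hM x⟩
  obtain ⟨A, hA, hvA, hAN⟩ := exists_isAffineOpen_mem_and_subset hv'N
  haveI : IsAffine A.toScheme := hA
  let t : A.toScheme ⟶ Y := A.ι ≫ h
  have hbt : (A.ι ≫ b) ≫ g'' = t := by rw [Category.assoc, hbg, Category.comp_id]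
  let T : (pullback f t).Opens :=
    ⨆ x : L (⊤ : (pullback f (𝟙 Y)).Opens) v, bc (A.ι ≫ b) hbt (W x.1)
  let I := Scheme.IdealSheafData.vanishingIdeal (X := pullback f t) ⟨(T : Set ↥(pullback f t))ᶜ, T.2.isClosed_compl⟩
  have hr : Set.range I.subschemeι = (T : Set ↥(pullback f t))ᶜ := by
    rw [I.range_subschemeι]; exact Scheme.IdealSheafData.coe_support_vanishingIdeal _
  let v₀ : Spec (CommRingCat.of Ω) ⟶ A.toScheme := IsOpenImmersion.lift A.ι v' (by
    rw [range_eq_pt, Scheme.Opens.range_ι, Set.singleton_subset_iff]; exact hvA)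
  have hv₀ : v₀ ≫ A.ι = v' := IsOpenImmersion.lift_fac _ _ _
  haveI : IsAffine I.subscheme := isAffine_of_isAffineHom I.subschemeι
  obtain ⟨C, hC, hvC, hCr⟩ := exists_constructible_disjoint (I.subschemeι ≫ pullback.snd f t) ⊤ isCompact_univ
    (pt v₀) (fun z _ hz => by
      have hp : pullback.snd f t (I.subschemeι z) = pt v₀ := by rw [← Scheme.Hom.comp_apply]; exact hz
      have hzT : I.subschemeι z ∉ T := hr.subset ⟨z, rfl⟩
      obtain ⟨l, hl, hlp⟩ := exists_mem_fib_at (pullback.snd f t) v₀ (I.subschemeι z) hp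
      have hl' : l ≫ pullback.snd f t = v₀ := hl
      have hx : l ≫ pullback.fst f t ∈ L (⊤ : (pullback f (𝟙 Y)).Opens) v := by
        rw [L_top_id]
        show (l ≫ pullback.fst f t) ≫ f = v
        rw [Category.assoc, pullback.condition, reassoc_of% hl', ← hv', ← hv₀, Category.assoc]
      have hxW : l ≫ pullback.fst f t ∈ L (bc (A.ι ≫ b) hbt (W (l ≫ pullback.fst f t))) v₀ := by
        rw [L_bc, ← Category.assoc, hv₀, (hW _ hx).2]
        rfl
      obtain ⟨e, he⟩ := mem_L_iff.1 hxW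
      rw [show pullback.lift (l ≫ pullback.fst f t) v₀ e = l from
        pullback.hom_ext (pullback.lift_fst _ _ _) ((pullback.lift_snd _ _ _).trans hl'.symm), hlp] at he
      exact hzT (TopologicalSpace.Opens.mem_iSup.2 ⟨⟨_, hx⟩, he⟩))
  haveI : Etale t := inferInstance
  haveI : LocallyQuasiFinite t := locallyQuasiFinite_of_etale t
  haveI : QuasiCompact t := quasiCompact_of_compactSpace t
  refine ⟨t '' C, t.isConstructible_image hC, ⟨pt v₀, hvC, by rw [← pt_comp, ← Category.assoc, hv₀, hv']⟩, ?_⟩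
  rintro _ ⟨z, hz, rfl⟩
  obtain ⟨Ω', _, _, v₁, rfl⟩ := exists_geomPt z
  rw [← pt_comp, fibreIntegral_eq f w (v₁ ≫ t) (hfin _), fibreIntegral_eq f w v (hfin _), ← L_top_id, ← L_top_id]
  have hvN : pt (v₁ ≫ A.ι) ∈ N' := by rw [pt_comp]; exact hAN (pt v₁).2
  obtain ⟨hsub, hdj, -⟩ := hdec Ω' (v₁ ≫ A.ι) hvN.1
  have heq : L (⊤ : (pullback f (𝟙 Y)).Opens) (v₁ ≫ t) =
      ⋃ x ∈ L (⊤ : (pullback f (𝟙 Y)).Opens) v, L (W x) ((v₁ ≫ A.ι) ≫ b) := by
    apply subset_antisymm
    · intro y hy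
      rw [L_top_id] at hy
      have hy' : y ≫ f = v₁ ≫ t := hy
      let l := pullback.lift y v₁ hy'
      have hlT : pt l ∈ T := by
        by_contra hlT
        obtain ⟨z', hz'⟩ := hr.superset hlT
        refine hCr z' trivial ?_
        rw [Scheme.Hom.comp_apply, hz', ← pt_comp, pullback.lift_snd]
        exact hz
      obtain ⟨x, hx⟩ := TopologicalSpace.Opens.mem_iSup.1 hlT
      refine Set.mem_iUnion₂.2 ⟨x.1, x.2, ?_⟩
      rw [Category.assoc, ← L_bc (A.ι ≫ b) hbt]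
      exact mem_L_iff.2 ⟨hy', hx⟩
    · refine Set.iUnion₂_subset fun x hx => (hsub x hx).trans (le_of_eq ?_)
      rw [Category.assoc]
  rw [heq, finsum_mem_biUnion hdj hU fun x hx => by haveI := (hW x hx).1; exact finite_L _ _]
  refine finsum_mem_congr rfl fun x hx => hMe ⟨x, hx⟩ Ω' _ ?_
  rw [pt_comp]
  exact Set.mem_iInter.1 hvN.2 ⟨x, hx⟩

end Groth.Agent.Weighting
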