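import Groth.Agent.Weighting.Chart
import Groth.Agent.Weighting.SplitAlg

/-!
Scheme version of the strong étale splitting, and simultaneous splitting of finitely many geometric points.
-/

set_option autoImplicit false
set_option linter.style.haveILetI false
universe u

open AlgebraicGeometry CategoryTheory Limits TensorProduct

namespace Groth.Agent.Weighting

variable {X Y : Scheme.{u}}

set_option maxHeartbeats 1000000 in
/-- A geometric point of `X` has, over a suitable étale neighbourhood of its image, a finite piece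
containing it and no other geometric point of the fibre. -/
theorem exists_chart (f : X ⟶ Y) [LocallyOfFiniteType f] [LocallyQuasiFinite f] {Ω : Type u} [Field Ω]
    (x : Spec (CommRingCat.of Ω) ⟶ X) :
    ∃ (V : Scheme.{u}) (g : V ⟶ Y) (_ : Etale g) (v : Spec (CommRingCat.of Ω) ⟶ V)
      (W : (pullback f g).Opens), v ≫ g = x ≫ f ∧ IsFinite (W.ι ≫ pullback.snd f g) ∧ L W v = {x} := by
  classical
  obtain ⟨_, ⟨V₀, hV, rfl⟩, hyV, -⟩ := Y.isBasis_affineOpens.exists_subset_of_mem_open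
    (Set.mem_univ (f (pt x))) isOpen_univ
  obtain ⟨_, ⟨U, hU, rfl⟩, hxU, hUV⟩ := X.isBasis_affineOpens.exists_subset_of_mem_open hyV (f ⁻¹ᵁ V₀).2
  let ψ := f.appLE V₀ U hUV
  have hft : ψ.hom.FiniteType := HasRingHomProperty.appLE (P := @LocallyOfFiniteType) f inferInstance ⟨V₀, hV⟩ ⟨U, hU⟩ hUV
  have hqf : ψ.hom.QuasiFinite := HasRingHomProperty.appLE (P := @LocallyQuasiFinite) f inferInstance ⟨V₀, hV⟩ ⟨U, hU⟩ hUV
  algebraize [ψ.hom]
  have hrU : ∀ (x' : Spec (CommRingCat.of Ω) ⟶ X), pt x' ∈ U → ∃ ξ : Γ(X, U) ⟶ CommRingCat.of Ω,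
      Spec.map ξ ≫ hU.fromSpec = x' := by
    intro x' hx'
    obtain ⟨ξ, hξ⟩ := Spec.map_surjective (IsOpenImmersion.lift hU.fromSpec x' (by
      rw [range_eq_pt, hU.range_fromSpec, Set.singleton_subset_iff]; exact hx'))
    exact ⟨ξ, by rw [hξ, IsOpenImmersion.lift_fac]⟩
  obtain ⟨ξ₀, hξ₀⟩ := hrU x hxU
  letI : Algebra Γ(Y, V₀) Ω := ((ξ₀.hom).comp ψ.hom).toAlgebra
  let ξ : Γ(X, U) →ₐ[Γ(Y, V₀)] Ω := { toRingHom := ξ₀.hom, commutes' := fun _ => rfl }
  obtain ⟨R', _, _, _, v, e, he, hfin, hne, huniq⟩ := exists_etale_split Ω ξ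
  let φ : Γ(Y, V₀) ⟶ CommRingCat.of R' := CommRingCat.ofHom (algebraMap Γ(Y, V₀) R')
  haveI : Etale (Spec.map φ) := HasRingHomProperty.Spec_iff.mpr (RingHom.etale_algebraMap.mpr ‹_›)
  have hfinA : (algebraMap R' (Localization.Away e)).Finite := RingHom.finite_algebraMap.mpr hfin
  let e₁ : Spec (CommRingCat.of (R' ⊗[Γ(Y, V₀)] Γ(X, U))) ≅ pullback (Spec.map ψ) (Spec.map φ) :=
    (pullbackSpecIso _ _ _).symm ≪≫ pullbackSymmetry _ _
  let j : Spec (CommRingCat.of (R' ⊗[Γ(Y, V₀)] Γ(X, U))) ⟶ pullback f (Spec.map φ ≫ hV.fromSpec) :=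
    e₁.hom ≫ pullback.map _ _ _ _ hU.fromSpec (𝟙 _) hV.fromSpec
      (IsAffineOpen.SpecMap_appLE_fromSpec f hV hU hUV) (by simp)
  have hj1 : j ≫ pullback.fst _ _ =
      Spec.map (CommRingCat.ofHom (Algebra.TensorProduct.includeRight : Γ(X, U) →ₐ[Γ(Y, V₀)] R' ⊗[Γ(Y, V₀)] Γ(X, U)).toRingHom) ≫ hU.fromSpec := by
    dsimp only [j, e₁, Iso.trans_hom, Iso.symm_hom, pullback.map]
    rw [Category.assoc, pullback.lift_fst, Category.assoc]
    erw [pullbackSymmetry_hom_comp_fst_assoc]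
    rw [← Category.assoc]
    congr 1
    exact pullbackSpecIso_inv_snd ..
  have hj2 : j ≫ pullback.snd _ _ = Spec.map (CommRingCat.ofHom (algebraMap R' (R' ⊗[Γ(Y, V₀)] Γ(X, U)))) := by
    dsimp only [j, e₁, Iso.trans_hom, Iso.symm_hom, pullback.map]
    rw [Category.assoc, pullback.lift_snd, Category.assoc, Category.comp_id]
    erw [pullbackSymmetry_hom_comp_snd]
    exact pullbackSpecIso_inv_fst' ..
  haveI : IsOpenImmersion j := by dsimp only [j]; infer_instance
  let W : (pullback f (Spec.map φ ≫ hV.fromSpec)).Opens := j ''ᵁ PrimeSpectrum.basicOpen e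
  have hWfin : IsFinite (W.ι ≫ pullback.snd f _) := by
    let ι : Spec (CommRingCat.of (Localization.Away e)) ⟶ pullback f (Spec.map φ ≫ hV.fromSpec) :=
      Spec.map (CommRingCat.ofHom <| algebraMap _ _) ≫ j
    have hr : ι.opensRange = W := by
      simp only [Scheme.Hom.opensRange_comp, ι, W]
      congr 1
      exact TopologicalSpace.Opens.ext <| PrimeSpectrum.localization_away_comap_range _ _
    rw [← hr, ← MorphismProperty.cancel_left_of_respectsIso @IsFinite (Scheme.Hom.isoOpensRange _).hom]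
    simp only [Scheme.Hom.isoOpensRange, IsOpenImmersion.isoOfRangeEq_hom_fac_assoc]
    simp only [ι, Category.assoc, hj2, ← Spec.map_comp, IsFinite.SpecMap_iff]
    show ((algebraMap (R' ⊗[Γ(Y, V₀)] Γ(X, U)) (Localization.Away e)).comp
      (algebraMap R' (R' ⊗[Γ(Y, V₀)] Γ(X, U)))).Finite
    rw [← IsScalarTower.algebraMap_eq]
    exact hfinA
  let v₁ : Spec (CommRingCat.of Ω) ⟶ Spec (CommRingCat.of R') := Spec.map (CommRingCat.ofHom v.toRingHom)
  have hv₁ : v₁ ≫ Spec.map φ ≫ hV.fromSpec = x ≫ f := by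
    rw [← hξ₀, Category.assoc, ← IsAffineOpen.SpecMap_appLE_fromSpec f hV hU hUV, ← Category.assoc,
      ← Category.assoc, ← Spec.map_comp, ← Spec.map_comp]
    congr 2
    ext a
    exact v.commutes a
  refine ⟨_, Spec.map φ ≫ hV.fromSpec, inferInstance, v₁, W, hv₁, hWfin, ?_⟩
  have hΦ : ∀ (x' : Spec (CommRingCat.of Ω) ⟶ X) (ξ' : Γ(X, U) →ₐ[Γ(Y, V₀)] Ω)
      (_ : Spec.map (CommRingCat.ofHom ξ'.toRingHom) ≫ hU.fromSpec = x')
      (h : x' ≫ f = v₁ ≫ Spec.map φ ≫ hV.fromSpec),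
      pullback.lift x' v₁ h = Spec.map (CommRingCat.ofHom
        (Algebra.TensorProduct.lift v ξ' (fun _ _ => .all _ _)).toRingHom) ≫ j := by
    intro x' ξ' hx' h
    apply pullback.hom_ext
    · rw [pullback.lift_fst, Category.assoc, hj1, ← Category.assoc, ← Spec.map_comp, ← hx']
      congr 2
      ext s
      simp
    · rw [pullback.lift_snd, Category.assoc, hj2, ← Spec.map_comp]
      show Spec.map _ = _
      congr 1
      ext a
      simp
  ext x'
  rw [Set.mem_singleton_iff, mem_L_iff]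
  constructor
  · rintro ⟨h, hp⟩
    obtain ⟨q, hq, hqp⟩ := hp
    have hpU : pt x' ∈ U := by
      have h1 : pullback.fst f (Spec.map φ ≫ hV.fromSpec) (pt (pullback.lift x' v₁ h)) = pt x' := by
        rw [← pt_comp, pullback.lift_fst]
      rw [← h1, ← hqp]
      show pullback.fst f (Spec.map φ ≫ hV.fromSpec) (j q) ∈ U
      rw [← Scheme.Hom.comp_apply, hj1, Scheme.Hom.comp_apply]
      exact hU.range_fromSpec.le ⟨_, rfl⟩
    obtain ⟨η, hη⟩ := hrU x' hpU
    have hcomm : ψ ≫ η = ψ ≫ ξ₀ := by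
      apply Spec.map_injective
      rw [← cancel_mono hV.fromSpec, Spec.map_comp, Spec.map_comp, Category.assoc, Category.assoc,
        IsAffineOpen.SpecMap_appLE_fromSpec f hV hU hUV, ← Category.assoc, ← Category.assoc, hη, hξ₀, h, hv₁]
    let ξ' : Γ(X, U) →ₐ[Γ(Y, V₀)] Ω :=
      { toRingHom := η.hom, commutes' := fun a => congrArg (fun k => k.hom a) hcomm }
    have hlift := hΦ x' ξ' hη h
    have hξ' : ξ' = ξ := by
      refine huniq ξ' fun h0 => ?_
      have h2 : pt (Spec.map (CommRingCat.ofHom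
          (Algebra.TensorProduct.lift v ξ' (fun _ _ => .all _ _)).toRingHom)) = q := by
        apply j.isOpenEmbedding.injective
        rw [← pt_comp, ← hlift]
        exact hqp.symm
      rw [← h2] at hq
      exact (hq : _ ∉ _) (by
        show Algebra.TensorProduct.lift v ξ' (fun _ _ => .all _ _) e ∈ (IsLocalRing.closedPoint Ω).asIdeal
        rw [h0]; exact zero_mem _)
    rw [← hη, ← hξ₀]
    congr 2
    exact CommRingCat.hom_ext (congrArg AlgHom.toRingHom hξ')
  · rintro rfl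
    refine ⟨hv₁.symm, ?_⟩
    rw [hΦ x' ξ hξ₀ hv₁.symm, pt_comp]
    refine ⟨_, ?_, rfl⟩
    show e ∉ Ideal.comap _ (IsLocalRing.closedPoint Ω).asIdeal
    intro h0
    apply hne
    have h1 : Algebra.TensorProduct.lift v ξ (fun _ _ => .all _ _) e ∈ IsLocalRing.maximalIdeal Ω := h0
    rwa [IsLocalRing.maximalIdeal_eq_bot, Ideal.mem_bot] at h1

/-- Finitely many geometric points over one geometric point can be split simultaneously. -/
theorem exists_charts (f : X ⟶ Y) [LocallyOfFiniteType f] [LocallyQuasiFinite f] {Ω : Type u} [Field Ω]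
    (y : Spec (CommRingCat.of Ω) ⟶ Y) (S : Set (Spec (CommRingCat.of Ω) ⟶ X)) (hS : S.Finite)
    (hy : ∀ x ∈ S, x ≫ f = y) :
    ∃ (V : Scheme.{u}) (g : V ⟶ Y) (_ : Etale g) (v : Spec (CommRingCat.of Ω) ⟶ V), v ≫ g = y ∧
      ∀ x ∈ S, ∃ W : (pullback f g).Opens, IsFinite (W.ι ≫ pullback.snd f g) ∧ L W v = {x} := by
  induction S, hS using Set.Finite.induction_on with
  | empty => exact ⟨Y, 𝟙 Y, inferInstance, y, Category.comp_id y, fun x hx => hx.elim⟩
  | @insert a S _ _ ih =>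
    obtain ⟨V, g, hg, v, hv, hW⟩ := ih fun x hx => hy x (Set.mem_insert_of_mem _ hx)
    obtain ⟨V', g', hg', v', W', hv', hW'fin, hW'⟩ := exists_chart f a
    have hvv : v ≫ g = v' ≫ g' := by rw [hv, hv', hy a (Set.mem_insert _ _)]
    haveI : Etale (pullback.fst g g') := MorphismProperty.pullback_fst _ _ hg'
    refine ⟨pullback g g', pullback.fst g g' ≫ g, inferInstance, pullback.lift v v' hvv, ?_, ?_⟩
    · rw [← Category.assoc, pullback.lift_fst, hv]
    · intro x hx
      rcases hx with rfl | hx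
      · refine ⟨bc (pullback.snd g g') pullback.condition.symm W', isFinite_bc _ _ hW'fin, ?_⟩
        rw [L_bc, pullback.lift_snd, hW']
      · obtain ⟨W, hWfin, hWL⟩ := hW x hx
        refine ⟨bc (pullback.fst g g') rfl W, isFinite_bc _ _ hWfin, ?_⟩
        rw [L_bc, pullback.lift_fst, hWL]

end Groth.Agent.Weighting
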